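import Cfsg.Agent.Lib.Loc.H6Ctl2
import Cfsg.Agent.Lib.Grp.PGDihedral
import Cfsg.Agent.Lib.Fus.FusS4

/-!
Sections `D_{2p}` and `S₄`.
-/

set_option autoImplicit false

namespace CA.H6Dih

open Subgroup Cfsg CA.Amb CA.AmbSyl CA.AmbCore CA.AmbRes CA.AmbChar CA.H6Stab CA.H6Ctl2
open scoped commutatorElement

variable {G : Type*} [Group G] {X : Type*} [Group X] {p : ℕ}

theorem lift_elt [Fact p.Prime] (f : G →* X) {L : Subgroup G} [Finite L] {g : G} (hg : g ∈ L)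
    {k : ℕ} (h : f g ^ p ^ k = 1) : ∃ a ∈ L, f a = f g ∧ ∃ k, a ^ p ^ k = 1 := by
  obtain ⟨a, b, ha, hb, e, h1, h2⟩ := exists_p_part (p := p) hg
  refine ⟨a, zpowers_le_of_mem hg ha, ?_, h1⟩
  have h3 : f b ^ p ^ k = 1 := by
    obtain ⟨n, rfl⟩ := hb
    rw [map_zpow, ← zpow_natCast, ← zpow_mul, mul_comm, zpow_mul, zpow_natCast, h, one_zpow]
  have h4 : f b = 1 := orderOf_eq_one_iff.1 (Nat.Coprime.eq_one_of_dvd
    ((h2.coprime_dvd_left (orderOf_map_dvd f b)).pow_right k) (orderOf_dvd_of_pow_eq_one h3))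
  rw [e, map_mul, h4, mul_one]

theorem exists_syl_lift [Fact p.Prime] [Finite G] {f : G →* X} (hf : Function.Surjective f)
    (A : Subgroup X) [A.Normal] (hA : IsPGroup p A) :
    ∃ T : Subgroup G, IsPGroup p T ∧ T.map f = A ∧ ∀ y, ∃ n ∈ 𝐍 T, f n = y := by
  obtain ⟨T, hT⟩ := exists_sylIn p (A.comap f)
  have hm : T.map f = A := by
    have := hT.map f
    rw [map_comap_eq_self_of_surjective hf] at this
    exact this.eq_of_isPGroup hA
  refine ⟨T, hT.pg, hm, fun y => ?_⟩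
  obtain ⟨g, rfl⟩ := hf y
  obtain ⟨z, hz, hz'⟩ := hT.frattini (L := ⊤) norm_of_normal (mem_top g)
  obtain ⟨t, ht, ht'⟩ : f z ∈ T.map f := hm ▸ hz
  refine ⟨t * (z⁻¹ * g), mul_mem (le_normalizer ht) hz', ?_⟩
  rw [map_mul, map_mul, ht', map_inv, mul_inv_cancel_left]

/-- a `q`-element acting nontrivially on a normal `p`-subgroup of a section lifts -/
theorem exists_of_sec_act [Fact p.Prime] {q : ℕ} [Fact q.Prime] [Finite G] {H N : Subgroup G}
    (h : Sec X H N) (A : Subgroup X) [A.Normal] (hA : IsPGroup p A) {s : X} {k : ℕ}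
    (hs : s ^ q ^ k = 1) (hc : s ∉ 𝐂 A) : ∃ (x : G) (P : Subgroup G), x ∈ H ∧ P ≤ H ∧
      (∃ k, x ^ q ^ k = 1) ∧ IsPGroup p P ∧ x ∈ 𝐍 P ∧ ∃ u ∈ P, u * x * u⁻¹ * x⁻¹ ∉ N := by
  obtain ⟨K, hK, ψ, hψ, h0⟩ := h
  obtain ⟨T, hT, hm, hn⟩ := exists_syl_lift hψ A hA
  obtain ⟨n, hn, rfl⟩ := hn s
  obtain ⟨x, hx, e, j, hj⟩ := lift_elt ψ hn hs
  refine ⟨x, T.map K.subtype, hK x.2, (map_subtype_le _).trans hK,
    ⟨j, by rw [← coe_pow, hj, coe_one]⟩, hT.map _, norm_map K.subtype le_rfl ⟨x, hx, rfl⟩, ?_⟩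
  by_contra hu
  push Not at hu
  refine hc (mem_centralizer_sub.2 fun a ha => ?_)
  obtain ⟨u, hu', rfl⟩ : a ∈ T.map ψ := hm ▸ ha
  have := h0 (u * x * u⁻¹ * x⁻¹) (hu _ ⟨u, hu', rfl⟩)
  rw [map_mul, map_mul, map_mul, map_inv, map_inv, e, mul_inv_eq_one, mul_inv_eq_iff_eq_mul] at this
  exact this

theorem exists_inv {P : Subgroup G} {k : ℕ} : ∀ {x : G}, x ^ 2 ^ k = 1 → x ∈ 𝐍 P → x ∉ 𝐂 P →
    ∃ j : ℕ, ∃ y ∈ P, y ≠ 1 ∧ x ^ j * y * (x ^ j)⁻¹ = y⁻¹ := by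
  induction k with
  | zero => intro x h _ hc; rw [pow_zero, pow_one] at h; exact absurd (h ▸ one_mem _) hc
  | succ k ih =>
    intro x h hn hc
    by_cases h2 : x ^ 2 ∈ 𝐂 P
    · rw [mem_centralizer_sub] at hc h2
      push Not at hc
      obtain ⟨u, hu, hne⟩ := hc
      refine ⟨1, u⁻¹ * (x * u * x⁻¹), mul_mem (inv_mem hu) (conj_mem_of_mem_normalizer hn hu),
        fun e => hne ?_, ?_⟩
      · rw [inv_mul_eq_one, eq_mul_inv_iff_mul_eq] at e; exact e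
      · calc x ^ 1 * (u⁻¹ * (x * u * x⁻¹)) * (x ^ 1)⁻¹
            = x * u⁻¹ * x⁻¹ * (x ^ 2 * u) * (x ^ 2)⁻¹ := by group
          _ = _ := by rw [← h2 u hu]; group
    · obtain ⟨j, y, h1, h3, h4⟩ := ih (x := x ^ 2) (by rw [← pow_mul, ← pow_succ', h])
        (pow_mem hn 2) h2
      exact ⟨2 * j, y, h1, h3, by rwa [pow_mul]⟩

theorem exists_inv_prime [Fact p.Prime] {P : Subgroup G} [Finite P] (hP : IsPGroup p P) {k : ℕ}
    {x : G} (h : x ^ 2 ^ k = 1) (hn : x ∈ 𝐍 P) (hc : x ∉ 𝐂 P) :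
    ∃ j : ℕ, ∃ y ∈ P, orderOf y = p ∧ x ^ j * y * (x ^ j)⁻¹ = y⁻¹ := by
  obtain ⟨j, y, h1, h2, h3⟩ := exists_inv h hn hc
  have := finite_of_le (zpowers_le_of_mem h1)
  obtain ⟨_, ⟨i, rfl⟩, h4⟩ := exists_orderOf_eq_of_ne_bot (hP.to_le (zpowers_le_of_mem h1))
    (by rwa [Ne, zpowers_eq_bot])
  exact ⟨j, _, zpow_mem h1 i, h4, by rw [PGDihedral.conj_zpow_of_inv h3, zpow_neg]⟩

theorem pow_pow_eq_one {x : G} {n : ℕ} (h : x ^ n = 1) (j : ℕ) : (x ^ j) ^ n = 1 := by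
  rw [← pow_mul, mul_comm, pow_mul, h, one_pow]

theorem sec_dihedral [hp : Fact p.Prime] (hp2 : p ≠ 2) {x y : G} {k : ℕ} (hx : x ^ 2 ^ k = 1)
    (hy : orderOf y = p) (h : x * y * x⁻¹ = y⁻¹) : Sec (DihedralGroup p) (⊤ : Subgroup G) ⊥ := by
  have hc : Nat.Coprime p 2 := (Nat.coprime_primes hp.out Nat.prime_two).2 hp2
  set Z := zpowers (x ^ 2)
  have h1 : x ∈ 𝐍 Z := centralizer_le_normalizer _ (by
    rw [centralizer_zpowers, mem_centralizer_singleton_iff]; group)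
  have h2 : y ∈ 𝐍 Z := centralizer_le_normalizer _ (by
    rw [centralizer_zpowers, mem_centralizer_singleton_iff]
    have h' : x * y⁻¹ * x⁻¹ = y :=
      calc x * y⁻¹ * x⁻¹ = (x * y * x⁻¹)⁻¹ := by group
        _ = y := by rw [h, inv_inv]
    calc y * x ^ 2 = x * (x * y * x⁻¹) * x⁻¹ * x ^ 2 := by rw [h, h']
      _ = _ := by rw [sq]; group)
  have : (Z.subgroupOf (𝐍 Z)).Normal := normal_subgroupOf_of_norm le_rfl
  let f := QuotientGroup.mk' (Z.subgroupOf (𝐍 Z))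
  have e0 : orderOf (⟨y, h2⟩ : 𝐍 Z) = p := by rw [← hy]; exact (orderOf_mk _ _)
  have h3 : orderOf (f ⟨y, h2⟩) = p := by
    refine ((Nat.dvd_prime hp.out).1 (e0 ▸ orderOf_map_dvd f _)).resolve_left fun e => ?_
    obtain ⟨i, hi⟩ : y ∈ Z :=
      (QuotientGroup.eq_one_iff (N := Z.subgroupOf (𝐍 Z)) ⟨y, h2⟩).1 (orderOf_eq_one_iff.1 e)
    have h4 : y ^ 2 ^ k = 1 := by
      rw [← hi, ← zpow_natCast, ← zpow_mul, mul_comm, zpow_mul, zpow_natCast, pow_pow_eq_one hx,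
        one_zpow]
    exact hp.out.one_lt.ne' ((hc.pow_right k).eq_one_of_dvd
      (hy ▸ orderOf_dvd_of_pow_eq_one h4))
  have h4 : f ⟨x, h1⟩ * f ⟨y, h2⟩ * (f ⟨x, h1⟩)⁻¹ = (f ⟨y, h2⟩)⁻¹ := by
    rw [← map_inv, ← map_inv, ← map_mul, ← map_mul]; exact congrArg f (Subtype.ext h)
  obtain ⟨e⟩ := PGDihedral.nonempty_subgroup_mulEquiv_dihedral h3 (x := f ⟨x, h1⟩) (by
    rintro ⟨i, hi⟩
    rw [← hi] at h4
    have h5 : f ⟨y, h2⟩ ^ 2 = 1 := by
      rw [sq]; nth_rewrite 1 [← inv_inv (f ⟨y, h2⟩), ← h4]; group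
    exact hp.out.one_lt.ne' (hc.eq_one_of_dvd
      (h3 ▸ orderOf_dvd_of_pow_eq_one h5)))
    (by rw [← map_pow]; exact (QuotientGroup.eq_one_iff _).2 (mem_zpowers _)) h4
  exact (sec_of_hom (N := ⊥) f (fun z hz => by rw [show z = 1 from Subtype.ext hz, map_one])
    (by rw [QuotientGroup.range_mk']; exact le_top) e).mono le_top le_rfl

theorem exists_fixed {V : Type*} [Group V] (hV : ∀ v : V, v * v = 1) {α : MulAut V} (Q : V → Prop)
    (hm : ∀ v w, Q v → Q w → Q (v * w)) (hα : ∀ v, Q v → Q (α v)) (k : ℕ) :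
    ∀ w, Q w → w ≠ 1 → (α ^ 2 ^ k) w = w → ∃ w, Q w ∧ w ≠ 1 ∧ α w = w := by
  have hi : ∀ v : V, v⁻¹ = v := fun v => inv_eq_of_mul_eq_one_left (hV v)
  have hc : ∀ v w : V, v * w = w * v := fun v w => by rw [← hi (v * w), mul_inv_rev, hi, hi]
  have hα' : ∀ n : ℕ, ∀ v, Q v → Q ((α ^ n) v) := fun n => by
    induction n with
    | zero => exact fun v h => h
    | succ n ih => exact fun v h => by rw [pow_succ', MulAut.mul_apply]; exact hα _ (ih v h)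
  induction k with
  | zero => exact fun w h1 h2 h3 => ⟨w, h1, h2, by simpa using h3⟩
  | succ k ih =>
    intro w h1 h2 h3
    by_cases h : (α ^ 2 ^ k) w = w
    · exact ih w h1 h2 h
    · refine ih (w * (α ^ 2 ^ k) w) (hm _ _ h1 (hα' _ _ h1))
        (fun e => h (by rw [eq_inv_of_mul_eq_one_right e, hi])) ?_
      rw [map_mul, ← MulAut.mul_apply, ← pow_add, ← two_mul, ← pow_succ', h3, hc]

theorem exists_vec {V : Type*} [Group V] (hV : ∀ v : V, v * v = 1) {α β : MulAut V} {k : ℕ}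
    (hα : α ^ 2 ^ k = 1) (hβ : β ^ 3 = 1) (h1 : β ≠ 1) (h : α * β * α⁻¹ = β⁻¹) :
    ∃ w, w ≠ 1 ∧ β w ≠ w ∧ α w = w ∧ α (β w) = w * β w ∧ β (β w) = w * β w := by
  have hi : ∀ v : V, v⁻¹ = v := fun v => inv_eq_of_mul_eq_one_left (hV v)
  have hc : ∀ v w : V, v * w = w * v := fun v w => by rw [← hi (v * w), mul_inv_rev, hi, hi]
  have h3 : ∀ v, β (β (β v)) = v := fun v => by
    have := congrArg (fun γ : MulAut V => γ v) hβ
    simpa [pow_succ] using this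
  have h4 : ∀ v, α (β v) = β (β (α v)) := fun v => by
    have := congrArg (fun γ : MulAut V => γ (α v)) h
    simp only [MulAut.mul_apply, MulAut.inv_apply, MulEquiv.symm_apply_apply] at this
    rw [this, MulEquiv.symm_apply_eq, h3]
  obtain ⟨u, hu⟩ : ∃ u, β u ≠ u := by
    by_contra hh
    push Not at hh
    exact h1 (MulEquiv.ext hh)
  obtain ⟨w, k1, k2, k3⟩ := exists_fixed hV (α := α) (fun v => β (β v) = v * β v)
    (fun v w hv hw => by
      simp only [map_mul, hv, hw, mul_assoc]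
      rw [← mul_assoc (β v), hc (β v), mul_assoc])
    (fun v hv => by
      have e := congrArg α hv
      rw [map_mul, h4, h4, h3] at e
      rw [← inv_mul_eq_iff_eq_mul, hi] at e
      exact e.symm) k (u * β u)
    (by
      simp only [map_mul, h3, mul_assoc]
      rw [← mul_assoc (β u), hV, one_mul, hc])
    (fun e => hu (by rw [eq_inv_of_mul_eq_one_right e, hi])) (by rw [hα]; rfl)
  refine ⟨w, k2, fun e => k2 ?_, k3, by rw [h4, k3, k1], k1⟩
  rw [e, e, hV] at k1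
  exact k1

theorem involves_S4_of_aut [Finite G] {V : Subgroup G} [V.Normal] (hV : ∀ v ∈ V, v * v = 1)
    {a b : G} {k : ℕ} (hα : MulAut.conjNormal (H := V) a ^ 2 ^ k = 1)
    (hβ : orderOf (MulAut.conjNormal (H := V) b) = 3)
    (h : MulAut.conjNormal (H := V) a * MulAut.conjNormal b * (MulAut.conjNormal a)⁻¹ =
      (MulAut.conjNormal b)⁻¹) : Involves (Equiv.Perm (Fin 4)) G := by
  obtain ⟨w, h1, h2, h3, h4, h5⟩ := exists_vec (fun v : V => Subtype.ext (hV v v.2)) hα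
    (hβ ▸ pow_orderOf_eq_one _) (fun e => by rw [e, orderOf_one] at hβ; omega) h
  have hi : ∀ v ∈ V, v⁻¹ = v := fun v hv => inv_eq_of_mul_eq_one_left (hV v hv)
  set y := MulAut.conjNormal (H := V) b w with hy
  have hy' : (y : G) = b * w * b⁻¹ := by rw [hy, MulAut.conjNormal_apply]
  have e3 : a * w * a⁻¹ = w := by simpa using congrArg Subtype.val h3
  have hc : (y : G) * w = w * y := by
    rw [← hi _ (mul_mem y.2 w.2), mul_inv_rev, hi _ w.2, hi _ y.2]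
  refine Fus.involves_S4 (u := w) (y := y) (a := a) (b := b * a * b⁻¹) (hV _ w.2) (hV _ y.2)
    (fun e => h1 (Subtype.ext e)) (fun e => h1 ?_) (fun e => h2 (Subtype.ext e.symm)) hc e3 ?_ ?_ ?_
  · exact (MulEquiv.map_eq_one_iff _).1 (Subtype.ext e)
  · simpa using congrArg Subtype.val h4
  · have e4 : a * y * a⁻¹ = w * y := by simpa using congrArg Subtype.val h4
    have e5 : b * y * b⁻¹ = w * y := by simpa using congrArg Subtype.val h5
    have e6 : b * (w * y) * b⁻¹ = w :=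
      calc b * (w * y) * b⁻¹ = b * w * b⁻¹ * (b * y * b⁻¹) := by group
        _ = _ := by rw [← hy', e5, ← mul_assoc, hc, mul_assoc, hV _ y.2, mul_one]
    calc b * a * b⁻¹ * w * (b * a * b⁻¹)⁻¹
        = b * a * b⁻¹ * (b * (w * y) * b⁻¹) * (b * a * b⁻¹)⁻¹ := by rw [e6]
      _ = b * (a * w * a⁻¹ * (a * y * a⁻¹)) * b⁻¹ := by group
      _ = _ := by rw [e3, e4, ← mul_assoc (w : G), hV _ w.2, one_mul, e5]
  · rw [hy']
    calc b * a * b⁻¹ * (b * w * b⁻¹) * (b * a * b⁻¹)⁻¹ = b * (a * w * a⁻¹) * b⁻¹ := by group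
      _ = _ := by rw [e3]

theorem dihedral_data (hp2 : p ≠ 2) [hp : Fact p.Prime] {a x : X} (ho : orderOf a = p)
    (h : x * a * x⁻¹ = a⁻¹) (hg : zpowers a ⊔ zpowers x = ⊤) :
    (zpowers a).Normal ∧ IsPGroup p (zpowers a) ∧ x ∉ 𝐂 (zpowers a) := by
  refine ⟨normal_iff_top_le.2 (hg.ge.trans (sup_le le_normalizer (zpowers_le_of_mem ?_))),
    isPGroup_zpowers_of_orderOf (k := 1) (by rw [ho, pow_one]), fun hc => ?_⟩
  · rw [← cj_eq_self_iff, cj_zpowers, h, zpowers_inv]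
  · rw [← mem_centralizer_sub.1 hc a (mem_zpowers a), mul_inv_cancel_right, eq_inv_iff_mul_eq_one,
      ← sq] at h
    exact hp.out.one_lt.ne' (((Nat.coprime_primes hp.out Nat.prime_two).2 hp2).eq_one_of_dvd
      (ho ▸ orderOf_dvd_of_pow_eq_one h))

theorem exists_of_sec_dihedral (hp2 : p ≠ 2) [Fact p.Prime] [Finite G] {H N : Subgroup G}
    (h : Sec (DihedralGroup p) H N) : ∃ (x : G) (P : Subgroup G), x ∈ H ∧ P ≤ H ∧
      (∃ k, x ^ 2 ^ k = 1) ∧ IsPGroup p P ∧ x ∈ 𝐍 P ∧ ∃ u ∈ P, u * x * u⁻¹ * x⁻¹ ∉ N := by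
  have : Fact (Nat.Prime 2) := ⟨Nat.prime_two⟩
  obtain ⟨a, x, h1, -, h2, h3, h4⟩ := PGDihedral.exists_gens_of_dihedral (MulEquiv.refl (DihedralGroup p))
  obtain ⟨k1, k2, k3⟩ := dihedral_data hp2 h1 h3 h4
  exact exists_of_sec_act h _ k2 (k := 1) (by rwa [pow_one]) k3

theorem nonempty_S3 : Nonempty (Equiv.Perm (Fin 3) ≃* DihedralGroup 3) :=
  PGDihedral.nonempty_mulEquiv_dihedral (a := Equiv.swap 0 1 * Equiv.swap 1 2) (x := Equiv.swap 0 1)
    (orderOf_eq_prime (hp := ⟨Nat.prime_three⟩) (by decide) (by decide))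
    (by
      rw [mem_zpowers_iff_mem_range_orderOf,
        orderOf_eq_prime (p := 3) (hp := ⟨Nat.prime_three⟩) (by decide) (by decide)]
      decide)
    (by decide) (by decide) (by
      refine eq_top_iff.2 fun σ _ => ?_
      obtain ⟨i, j, rfl⟩ := (by decide : ∀ σ : Equiv.Perm (Fin 3), ∃ (i : Fin 3) (j : Fin 2),
        σ = (Equiv.swap 0 1 * Equiv.swap 1 2) ^ i.1 * Equiv.swap 0 1 ^ j.1) σ
      exact mul_mem (mem_sup_left (npow_mem_zpowers _ _)) (mem_sup_right (npow_mem_zpowers _ _)))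

theorem exists_hom_S4 : ∃ φ : Equiv.Perm (Fin 4) →* Equiv.Perm (Fin 3), Function.Surjective φ ∧
    IsPGroup 2 φ.ker ∧ 𝐂 φ.ker ≤ φ.ker := by
  let e : Fin 3 → Equiv.Perm (Fin 4) := ![Equiv.swap 0 1 * Equiv.swap 2 3,
    Equiv.swap 0 2 * Equiv.swap 1 3, Equiv.swap 0 3 * Equiv.swap 1 2]
  obtain ⟨N, ψ, hψ, h1, h2⟩ := Fus.exists_perm_hom (fun g x : Equiv.Perm (Fin 4) => g * x * g⁻¹)
    (fun _ => by group) (fun _ _ _ => by group) (e := e) (by decide +kernel)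
  have hN : ∀ g, g ∈ N := fun g => by
    obtain ⟨σ, hσ⟩ := (by decide +kernel : ∀ g : Equiv.Perm (Fin 4), ∃ σ : Equiv.Perm (Fin 3),
      ∀ i, g * e i * g⁻¹ = e (σ i)) g
    exact (h2 g σ hσ).1
  refine ⟨MonoidHom.mk' ψ fun a b => hψ a (hN a) b (hN b), fun σ => ?_,
    isPGroup_iff_mem.2 fun x hx => ⟨1, ?_⟩, fun x hx => (h2 x 1 fun i => ?_).2⟩
  · obtain ⟨g, hg⟩ := (by decide +kernel : ∀ σ : Equiv.Perm (Fin 3), ∃ g : Equiv.Perm (Fin 4),
      ∀ i, g * e i * g⁻¹ = e (σ i)) σ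
    exact ⟨g, (h2 g σ hg).2⟩
  · refine (by decide +kernel : ∀ g : Equiv.Perm (Fin 4), (∀ i, g * e i * g⁻¹ = e i) →
      g ^ 2 ^ 1 = 1) x fun i => ?_
    have := h1 x (hN x) i
    rwa [show ψ x = 1 from hx] at this
  · have := mem_centralizer_sub.1 hx (e i) (h2 _ 1 ((by decide +kernel : ∀ i j,
      e i * e j * (e i)⁻¹ = e j) i)).2
    exact mul_inv_eq_of_eq_mul this.symm

theorem exists_of_sec_S4 [Finite G] (h : Sec (Equiv.Perm (Fin 4)) (⊤ : Subgroup G) ⊥) :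
    ∃ T : Subgroup G, IsPGroup 2 T ∧ Sec (Equiv.Perm (Fin 3)) (𝐍 T) (𝐂 T) := by
  have : Fact (Nat.Prime 2) := ⟨Nat.prime_two⟩
  obtain ⟨K, -, ψ, hψ, -⟩ := h
  obtain ⟨φ, h1, h2, h3⟩ := exists_hom_S4
  obtain ⟨T, hT, hm, hn⟩ := exists_syl_lift hψ _ h2
  have h4 : Sec (Equiv.Perm (Fin 3)) (𝐍 T) (𝐂 T) := ⟨𝐍 T, le_rfl, φ.comp (ψ.comp (𝐍 T).subtype),
    h1.comp fun y => (hn y).imp' (fun n => n) (fun _ h => h) |>.elim fun n h => ⟨⟨n, h.1⟩, h.2⟩,
    fun x hx => h3 (hm ▸ cent_map ψ le_rfl ⟨x, hx, rfl⟩)⟩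
  have h5 := h4.map_injective K.subtype_injective
  rw [map_subtype_normalizer, map_subtype_centralizer] at h5
  refine ⟨_, hT.map K.subtype, ?_⟩
  obtain ⟨L, k1, χ, k2, k3⟩ := h5
  exact ⟨L, k1.trans inf_le_right, χ, k2, fun x hx => k3 x ⟨(k1 x.2).1, hx⟩⟩

theorem involves_S4_of_sec [Finite G] {T : Subgroup G} [T.Normal] (hT : IsPGroup 2 T)
    (h : Sec (Equiv.Perm (Fin 3)) (⊤ : Subgroup G) (𝐂 T)) : Involves (Equiv.Perm (Fin 4)) G := by
  have : Fact (Nat.Prime 2) := ⟨Nat.prime_two⟩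
  have : Fact (Nat.Prime 3) := ⟨Nat.prime_three⟩
  obtain ⟨e⟩ := nonempty_S3
  obtain ⟨x, P, -, -, ⟨k, hk⟩, hP, hx, u, hu, hc⟩ :=
    exists_of_sec_dihedral (by decide) (h.of_surjective e.toMonoidHom e.surjective)
  have : (Phi T).Normal := normal_iff_top_le.2
    (norm_of_normal.trans (PGFrattini.normalizer_le_normalizer_map_frattini T))
  let f := QuotientGroup.mk' (Phi T)
  have hf : Function.Surjective f := QuotientGroup.mk'_surjective _
  have : (T.map f).Normal := Normal.map inferInstance f hf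
  let φ : G →* MulAut (T.map f) := MulAut.conjNormal.comp f
  have h0 : φ x ∉ 𝐂 (P.map φ) := fun h' => hc <| by
    have h1 : u * x * u⁻¹ * x⁻¹ ∈ P := by
      have := mul_mem hu (conj_mem_of_mem_normalizer hx (inv_mem hu))
      simpa only [mul_assoc] using this
    have h2 : φ (u * x * u⁻¹ * x⁻¹) = 1 := by
      rw [map_mul, map_mul, map_mul, mem_centralizer_sub.1 h' _ ⟨u, hu, rfl⟩, map_inv, map_inv]
      group
    generalize u * x * u⁻¹ * x⁻¹ = g at h1 h2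
    refine Coprime2.le_centralizer_of_commutator_le_frattini (A := zpowers g) ?_ ?_ (mem_zpowers g)
    · rw [Nat.card_zpowers]
      obtain ⟨m, hm⟩ := orderOf_eq_pow_of_mem hP h1
      exact Coprime2.coprime_card_of_isPGroup (hT.to_subgroup _)
        (by rw [hm]; exact Nat.Coprime.pow_left _ (by decide))
    · intro a ha t ht
      have h3 := congrArg (fun γ : MulAut (T.map f) => (γ ⟨f t, t, ht, rfl⟩ : G ⧸ Phi T))
        (zpowers_le_of_mem (show g ∈ φ.ker from h2) ha)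
      refine (QuotientGroup.eq_one_iff _).1 ?_
      change f ⁅a, t⁆ = 1
      rw [map_commutatorElement, commutatorElement_def, mul_inv_eq_one]
      simpa [φ] using h3
  obtain ⟨j, _, ⟨y, -, rfl⟩, h1, h2⟩ := exists_inv_prime (hP.map φ) (x := φ x) (k := k)
    (by rw [← map_pow, hk, map_one]) (norm_map φ le_rfl ⟨x, hx, rfl⟩) h0
  rw [involves_iff]
  refine Sec.of_surjective_top hf (N := ⊥) (involves_iff.1 (involves_S4_of_aut (V := T.map f) ?_
    (a := f (x ^ j)) (b := f y) (k := k) ?_ h1 (by rw [map_pow, map_pow]; exact h2)))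
  · rintro _ ⟨t, ht, rfl⟩
    rw [← map_mul, ← sq]
    exact (QuotientGroup.eq_one_iff _).2 (PGFrattini.pow_mem_map_frattini hT ht)
  · rw [← map_pow, ← map_pow, pow_pow_eq_one hk, map_one, map_one]

theorem involves_S4_iff [Finite G] : Involves (Equiv.Perm (Fin 4)) G ↔
    ∃ T : Subgroup G, IsPGroup 2 T ∧ Sec (Equiv.Perm (Fin 3)) (𝐍 T) (𝐂 T) := by
  refine ⟨fun h => exists_of_sec_S4 (involves_iff.1 h), fun ⟨T, hT, h⟩ => ?_⟩
  have : (T.subgroupOf (𝐍 T)).Normal := normal_subgroupOf_of_norm le_rfl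
  have h1 := involves_S4_of_sec (isPGroup_subgroupOf hT (𝐍 T)) (by
    rw [Amb.centralizer_subgroupOf le_normalizer]
    exact Sec.of_map (f := (𝐍 T).subtype) (by rwa [map_subtype_top]))
  exact involves_iff.2 ((sec_top_iff.1 (involves_iff.1 h1)).mono le_top le_rfl)

end CA.H6Dih
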