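import Cfsg.Agent.Lib.Loc.ZN6
import Cfsg.Agent.Lib.Grp.SigE
import Cfsg.Agent.Lib.Grp.H13Con
import Cfsg.Agent.Lib.Grp.Two
import Cfsg.Agent.Lib.Grp.Trf

/-!
The dichotomy theorem: groups with 2-constrained involution centralizers.
-/

set_option autoImplicit false

namespace CA.Dich

open Subgroup Cfsg CA.Amb CA.AmbSyl CA.AmbCore CA.AmbRes CA.AmbChar CA.AmbSpe CA.AmbIso CA.AmbS3 CA.AmbFs CA.ZN1
open CA.ZN4 CA.ZN5 CA.ZN6 CA.Hyp
open scoped commutatorElement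

variable {G : Type*} [Group G] {S T L K V A B E R Y Z : Subgroup G} {a b g t u z : G} {p : ℕ}

local notation "θ" => centralizerPPrimeCore 2

/-- an involution centralizing a subgroup of index at most two -/
theorem transv (h : ∀ x ∈ Y, ∀ y ∈ Y, x ∉ R → y ∉ R → x * y ∈ R) (h1 : a ∈ 𝐍 Y) (h2 : a ∈ 𝐂 R) (h3 : a * a = 1) :
    ⁅zpowers a, Y⁆ ≤ OZ 2 Y := by
  have i : a⁻¹ = a := inv_eq_of_mul_eq_one_right h3
  have f : ∀ r ∈ R, a * r * a⁻¹ = r := fun r hr => mul_inv_eq_of_eq_mul (h2 r hr).symm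
  refine commutator_le.2 fun x hx y hy => ?_
  rcases (Two.mem_zpowers_two (by rwa [pow_two])).1 hx with rfl | rfl
  · simp
  by_cases r : y ∈ R
  · rw [commutatorElement_def, f y r, mul_inv_cancel]; exact one_mem _
  have c1 : ⁅x, y⁆ ∈ Y := mul_mem (conj_mem_of_mem_normalizer h1 hy) (inv_mem hy)
  have c2 : ⁅x, y⁆ ∈ R := h _ (conj_mem_of_mem_normalizer h1 hy) _ (inv_mem hy) (fun e => r (by
    have := mul_left_cancel (mul_right_cancel (f _ e))
    rwa [this] at e)) (mt inv_mem_iff.1 r)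
  have c3 : ⁅x, y⁆⁻¹ = ⁅x, y⁆ := by
    conv_rhs => rw [← f _ c2]
    rw [commutatorElement_inv]
    simp only [commutatorElement_def, i, ← mul_assoc, h3, one_mul]
  have c4 : ∀ r ∈ Y, r ∈ R → r * ⁅x, y⁆ = ⁅x, y⁆ * r := fun r r1 r2 => by
    have k : y⁻¹ * r * y ∈ R := by_contra fun n => by
      have := h _ (mul_mem (mul_mem (inv_mem hy) r1) hy) _ (inv_mem hy) n (mt inv_mem_iff.1 ‹y ∉ R›)
      rw [mul_inv_cancel_right, mul_mem_cancel_right r2] at this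
      exact ‹y ∉ R› (inv_mem_iff.1 this)
    have k1 := h2 _ k
    have k2 := h2 _ r2
    rw [commutatorElement_def, i]
    calc r * (x * y * x * y⁻¹) = (r * x) * y * x * y⁻¹ := by group
      _ = x * y * ((y⁻¹ * r * y) * x) * y⁻¹ := by rw [k2]; group
      _ = _ := by rw [k1]; group
  have c5 : y * ⁅x, y⁆ = ⁅x, y⁆ * y := by
    have k := f _ (h y hy y hy r r)
    conv_rhs => rw [← c3]
    rw [commutatorElement_inv, commutatorElement_def, commutatorElement_def, i] at *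
    calc y * (x * y * x * y⁻¹) = y * x * y⁻¹ * ((x * x) * (y * y)) * x * y⁻¹ := by rw [h3]; group
      _ = y * x * y⁻¹ * x * (x * (y * y) * x) * y⁻¹ := by group
      _ = _ := by rw [k]; group
  refine mem_OZ.2 ⟨c1, fun w hw => ?_, by rw [pow_two]; nth_rw 1 [← c3]; exact inv_mul_cancel _⟩
  by_cases r' : w ∈ R
  · exact c4 w hw r'
  · have k := c4 _ (mul_mem (inv_mem hy) hw) (h _ (inv_mem hy) _ hw (mt inv_mem_iff.1 r) r')
    calc w * ⁅x, y⁆ = y * (y⁻¹ * w * ⁅x, y⁆) := by group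
      _ = _ := by rw [k, ← mul_assoc, c5]; group

variable [Finite G]

section
variable [Fact p.Prime]

theorem cj_Oqq_le (g : G) (K : Subgroup G) : cj g (Oqq p K) ≤ Oqq p (cj g K) := by
  obtain ⟨Y, hY⟩ := exists_sylIn p (Oqq p K)
  have e := sup_Oq'_eq (sylIn_iff.1 hY)
  rw [← e, cj_sup]
  refine sup_le (le_Oqq (cj_mono g (hY.le.trans (map_subtype_le _))) (isPGroup_cj hY.pg g) ?_)
    ((cj_OQ g K).le.trans Oq'_le_Oqq)
  rw [Oq', ← OQ, ← cj_OQ, ← cj_sup, e, ← cj_normalizer]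
  exact cj_mono g (le_normalizer_Oqq K)

theorem le_Oqq_of_comm (hL : pLayer p L = ⊥) (hT : SylIn p T L) (hA : A ≤ T) (hZ : Z ≤ 𝐂 L)
    (h : ⁅A, T ⊓ Oqq p L⁆ ≤ Z) : A ≤ Oqq p L := by
  have l : Oqq p L ≤ L := map_subtype_le _
  have n := le_normalizer_Oqq (q := p) L
  have h1 := hT.inf_norm l n
  have a : A ≤ L ⊓ 𝐍 (T ⊓ Oqq p L) := hA.trans (le_inf hT.le (norm_inf le_normalizer (hT.le.trans n)))
  have z : L ≤ 𝐍 Z := norm_of_centralizer (cent_symm hZ)
  have d := ncl_le_of_le a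
  have d1 := comm_ncl_le (L := L ⊓ 𝐍 (T ⊓ Oqq p L)) inf_le_right (inf_le_left.trans z) ((hA.trans hT.le).trans z) h
  set D := ncl A (L ⊓ 𝐍 (T ⊓ Oqq p L))
  have d2 : pResidualOf p D ≤ Oqq p L := le_Oqq_of_sylow hL (sylIn_iff.1 h1) ((res_le p D).trans (d.trans inf_le_left))
    ((comm_eq_bot_of_le (res_le_cent_of_comm_le h1.pg (d.trans inf_le_right) (((commutator_comm _ _).le.trans
      ((commutator_mono (res_le p D) le_rfl).trans d1)).trans (hZ.trans (centralizer_anti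
        ((res_le p D).trans (d.trans inf_le_left))))))).le.trans bot_le)
  have e1 : D ⊔ Oqq p L ≤ L := sup_le (d.trans inf_le_left) l
  have e2 : L ≤ 𝐍 (D ⊔ Oqq p L) := (h1.frattini_sup l n).ge.trans (sup_le (norm_of_le le_sup_right)
    (norm_sup (norm_ncl _ _) (inf_le_left.trans n)))
  have h2 := hT.inf_norm e1 e2
  obtain ⟨Q, hQ⟩ := exists_sylIn p D
  have e3 : pResidualOf p (D ⊔ Oqq p L) ≤ OQ p L := by
    rw [← syl_sup_res hQ, sup_assoc, sup_eq_right.2 d2, res_sup_eq hQ.pg ((hQ.le.trans (d.trans inf_le_left)).trans n)]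
    exact res_le_of_le_sup h1.pg ((h1.le.trans l).trans (norm_OQ le_normalizer)) (sup_Oq'_eq (sylIn_iff.1 h1)).ge
  have e4 : T ⊓ (D ⊔ Oqq p L) ⊔ OQ p L = D ⊔ Oqq p L := le_antisymm (sup_le inf_le_right (le_sup_of_le_right Oq'_le_Oqq))
    (le_of_syl_of_res h2 le_sup_left (le_sup_of_le_right e3))
  exact (le_inf hA (le_sup_of_le_left (le_ncl _ _))).trans (le_Oqq (h2.le.trans e1) h2.pg (e4.symm ▸ e2))

end

/-- balance -/
def Bl (G : Type*) [Group G] : Prop :=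
  ∀ a b : G, orderOf a = 2 → orderOf b = 2 → a ∈ centralizer {b} → θ a ⊓ centralizer {b} ≤ θ b

/-- 2-constrained involution centralizers -/
def Con (G : Type*) [Group G] : Prop := ∀ t : G, orderOf t = 2 → pLayer 2 (centralizer {t}) = ⊥

theorem Con.bl (h : Con G) : Bl G := fun _ b ha hb e =>
  Bal2.cpc_inf_le_of_pLayer (h b hb) e (k := 1) (by simpa using ha)

namespace Bl
variable (s : Bl G)
include s

theorem sf (ea : IsElementaryAbelian 2 A) : Sig.SF 2 A θ :=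
  ⟨ea, fun a _ _ => Bal.centralizerPPrimeCore_le a, fun a _ _ => Bal2.coprime_cpc a, fun a ha _ =>
    (le_cent_of_mem (ea_le_cent ea ha)).trans (norm_θ a), fun a ha h1 b hb h2 => s a b
      (orderOf_eq_of_pow (ea_pow ea ha) h1) (orderOf_eq_of_pow (ea_pow ea hb) h2) (le_cent_of_mem (ea_le_cent ea hb) ha),
    fun a _ _ => PF.odd_solvable _ (Nat.coprime_two_right.1 (Bal2.coprime_cpc a))⟩

theorem cpl (ea : IsElementaryAbelian 2 A) (c : 8 ≤ Nat.card A) :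
    (Nat.card (W A)).Coprime 2 ∧ ∀ a ∈ A, a ≠ 1 → W A ⊓ centralizer {a} = θ a :=
  have h := SigE.cpl_two (s.sf ea) c
  ⟨(h.fam_closure (s.sf ea) le_rfl).cop, fun _ ha h1 => h.inf_eq (s.sf ea) ha h1⟩

theorem W_eq (ea : IsElementaryAbelian 2 A) (l : B ≤ A) (c : 4 ≤ Nat.card B) : W A = W B := by
  by_cases h : 8 ≤ Nat.card A
  · obtain ⟨h1, h2⟩ := s.cpl ea h
    have n : B ≤ 𝐍 (W A) := l.trans (le_normalizer.trans (norm_W' A))
    exact le_antisymm (le_of_forall_singleton (ea_of_le ea l) c n h1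
      fun a ha a1 => (h2 a (l ha) a1).le.trans (le_W ha a1)) (ZN6.W_le fun a ha => le_W (l ha))
  · rcases l.eq_or_lt with e | e
    · rw [e]
    · have := PGBasic.card_mul_le_of_lt (ea_pg ea) e
      omega

theorem W_eq' (ea : IsElementaryAbelian 2 A) (ev : IsElementaryAbelian 2 V) (cv : 4 ≤ Nat.card V) (l : B ≤ A)
    (l' : B ≤ 𝐂 V) (c : 4 ≤ Nat.card B) : W A = W V := by
  have e := ea_sup (ea_of_le ea l) ev l'
  rw [s.W_eq ea l c, ← s.W_eq e le_sup_left c, s.W_eq e le_sup_right cv]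

variable (f : Fo S V)
include f

theorem W_eight (ea : IsElementaryAbelian 2 E) (c : 8 ≤ Nat.card E) (l : E ≤ S) : W E = W V :=
  s.W_eq' ea f.ea f.card.ge inf_le_left (inf_le_right.trans inf_le_right) (f.four l c)

theorem mem_of_eight (ea : IsElementaryAbelian 2 E) (c : 8 ≤ Nat.card E) (l : E ≤ S) (l' : cj g E ≤ S) :
    g ∈ 𝐍 (W V) := cj_eq_self_iff.1 (by
  rw [← s.W_eight f ea c l, cj_W', s.W_eight f (ea_cj ea g) (by rwa [card_cj]) l', s.W_eight f ea c l])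

theorem cplV (b1 : b ∈ S ⊓ 𝐂 V) (b2 : b * b = 1) (b3 : b ∉ V) :
    (Nat.card (W V)).Coprime 2 ∧ ∀ a ∈ V, a ≠ 1 → W V ⊓ centralizer {a} = θ a := by
  obtain ⟨a1, a2⟩ := ea_ext f.ea b1.2 b2 b3
  have := s.cpl a1 (by rw [a2, f.card])
  rw [s.W_eq a1 le_sup_left f.card.ge] at this
  exact ⟨this.1, fun a ha => this.2 a (mem_sup_left ha)⟩

end Bl

theorem four_of_norm (hT : IsPGroup 2 T) (n : T ≤ 𝐍 V) (cv : Nat.card V = 4) (h : E ≤ T) (c : 8 ≤ Nat.card E) :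
    4 ≤ Nat.card ↥(E ⊓ 𝐂 V) := by
  have h1 : (𝐂 V).relIndex T ≤ 2 := by
    by_cases k : T ≤ 𝐂 V
    · rw [relIndex_eq_one.2 k]; omega
    · exact (idx_two cv hT n k).1.le
  have h2 := (relIndex_le_of_le_right h (relIndex_ne_zero (𝐂 V) T)).trans h1
  have h3 := card_inf_mul_relIndex (𝐂 V) E
  rw [inf_comm]
  nlinarith

theorem mem_syl (ht : t * t = 1) (hT : SylIn 2 T (centralizer {t})) : t ∈ T :=
  hT.le_of_norm' (isPGroup_zpowers' (by rwa [pow_two])) (zpowers_le.2 (self_mem_cent t))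
    (norm_of_centralizer (zpowers_le.2 (mem_cent_of_le hT.le))) (mem_zpowers t)

theorem eq_zpowers (ea : IsElementaryAbelian 2 Z) (c : ¬ 4 ≤ Nat.card Z) (h : t ∈ Z) (h1 : t ≠ 1) : Z = zpowers t := by
  by_contra n
  have := PGBasic.card_mul_le_of_lt (ea_pg ea) (lt_of_le_of_ne (zpowers_le.2 h) (Ne.symm n))
  rw [card_two (mul_self_of_ea ea h) h1] at this
  omega

theorem exists_b (f : Fo S V) (ea : IsElementaryAbelian 2 E) (c : 8 ≤ Nat.card E) (l : E ≤ S) :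
    ∃ b ∈ S ⊓ 𝐂 V, b * b = 1 ∧ b ∉ V := by
  by_contra! n
  have a : E ⊓ (S ⊓ 𝐂 V) ≤ V := fun x hx => n x hx.2 (mul_self_of_ea ea hx.1)
  have e := eq_of_le_of_card_ge a (f.card.le.trans (f.four l c))
  have := card_le_of_le ((le_inf le_rfl (le_inf l ((ea_le_cent ea).trans (centralizer_anti (e.ge.trans
    inf_le_left))))).trans a)
  rw [f.card] at this
  omega

theorem idx_le (f : Fo S V) : ∀ x ∈ S, ∀ y ∈ S, x ∉ 𝐂 V → y ∉ 𝐂 V → x * y ∈ 𝐂 V := fun _ hx _ hy h1 h2 =>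
  (mul_mem_of_two (f.idx fun l => h1 (l hx)) hx hy).2 (iff_of_false h1 h2)

namespace Con
variable (s : Con G) (f : Fo S V)
include s f

/-- the case of a cyclic center -/
theorem cyc (b1 : b ∈ S ⊓ 𝐂 V) (b2 : b * b = 1) (b3 : b ∉ V) (ht : orderOf t = 2) (hS : S ≤ centralizer {t})
    (h : OZ 2 (S ⊓ Oqq 2 (centralizer {t})) = zpowers t) (hZ : OZ 2 S ≤ zpowers t) :
    centralizer {t} ⊓ 𝐍 (S ⊓ Oqq 2 (centralizer {t})) ≤ 𝐍 (W V) := fun n hn => by
  have hT := f.syl.mono hS le_top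
  have tt := sq_of_ord ht
  have t1 := ne_one_of_orderOf ht
  have n1 : S ≤ 𝐍 (S ⊓ Oqq 2 (centralizer {t})) := norm_inf le_normalizer (hS.trans (le_normalizer_Oqq _))
  have k : ∀ {R : Subgroup G} {a : G}, (∀ x ∈ S, ∀ y ∈ S, x ∉ R → y ∉ R → x * y ∈ R) → a ∈ S → a ∈ 𝐂 R → a * a = 1 →
      a ∈ Oqq 2 (centralizer {t}) := fun h1 h2 h3 h4 => zpowers_le.1 (le_Oqq_of_comm (s t ht) hT (zpowers_le.2 h2)
    (zpowers_le.2 (mem_cent_of_le le_rfl)) ((transv (Y := S ⊓ _) (fun x hx y hy => h1 x hx.1 y hy.1) (n1 h2) h3 h4).trans h.le))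
  have tv : t ∈ V := by
    obtain ⟨x, x1, x2⟩ := exists_ne_one_of_ne_bot (inf_OZ_ne_bot f.syl.pg f.le f.norm fun e => by
      have := f.card; rw [e, card_bot] at this; omega)
    exact ((mem_zpowers_two tt (hZ x1.2)).resolve_left x2) ▸ x1.1
  have v1 : V ≤ S ⊓ Oqq 2 (centralizer {t}) := fun v hv => ⟨f.le hv, k (idx_le f) (f.le hv)
    (cent_symm le_rfl hv) (mul_self_of_ea f.ea hv)⟩
  have v2 : ∀ v ∈ V, v ≠ 1 → t ∈ Oqq 2 (centralizer {v}) := fun v hv v1 => by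
    have vv := mul_self_of_ea f.ea hv
    obtain ⟨T, h1, h2⟩ := exists_sylIn_ge (f.syl.pg.to_le (inf_le_left : S ⊓ 𝐂 V ≤ S))
      (inf_le_right.trans (centralizer_le_singleton hv))
    have tc : t ∈ 𝐂 (S ⊓ 𝐂 V) := centralizer_anti inf_le_left (mem_cent_of_le hS)
    rcases h2.eq_or_lt with e | e
    · have l : Oqq 2 (centralizer {v}) ≤ centralizer {v} := map_subtype_le _
      refine zpowers_le.1 (le_Oqq_of_sylow (s v (ord_of_sq vv v1)) (sylIn_iff.1 (h1.inf_norm l (le_normalizer_Oqq _)))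
        (zpowers_le.2 (centralizer_le_singleton hv (ea_le_cent f.ea tv))) ((comm_eq_bot_of_le (zpowers_le.2
          (centralizer_anti (inf_le_left.trans e.ge) tc))).le.trans bot_le))
    · have c1 := PGBasic.card_mul_le_of_lt h1.pg e
      have c2 := card_inf_mul_relIndex (𝐂 V) S
      have c3 : (𝐂 V).relIndex S ≤ 2 := by
        by_cases k : S ≤ 𝐂 V
        · rw [relIndex_eq_one.2 k]; omega
        · exact (f.idx k).le
      rw [inf_comm] at c2
      have c4 := f.syl.card_le h1.pg le_top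
      have h3 := f.syl.of_card_le h1.pg le_top (by nlinarith)
      obtain ⟨g, -, rfl⟩ := f.syl.exists_conj h3
      have g1 : g⁻¹ * v * g = t := (mem_zpowers_two tt (hZ (mem_cj.1 ((cj_OZ g S).ge (mem_OZ.2
        ⟨mem_syl vv h1, mem_cent_of_le h1.le, by rwa [pow_two]⟩))))).resolve_left fun e => v1 (by
          rw [← conj_eq_one_iff (a := g⁻¹), inv_inv, e])
      have g2 : (S ⊓ 𝐂 V).relIndex (cj g S) = 2 := by
        have c5 := card_mul_relIndex h2
        have : 0 < Nat.card ↥(S ⊓ 𝐂 V) := Nat.card_pos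
        rw [card_cj] at c1 c5
        refine le_antisymm (Nat.le_of_mul_le_mul_left (by nlinarith) this) (Nat.le_of_mul_le_mul_left (by nlinarith) this)
      have := k (R := cj g⁻¹ (S ⊓ 𝐂 V)) (a := g⁻¹ * t * g) (fun x hx y hy x1 y1 => by
        rw [mem_cj_inv] at *
        rw [← conj_mul]
        exact (mul_mem_of_two g2 (conj_mem_cj.2 hx) (conj_mem_cj.2 hy)).2 (iff_of_false x1 y1))
        (mem_cj.1 (h2 (f.le' tv))) (by rw [← cj_centralizer, mem_cj_inv]; simpa [mul_assoc] using tc)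
        (by rw [show g⁻¹ * t * g * (g⁻¹ * t * g) = g⁻¹ * (t * t) * g by group, tt]; simp)
      have := cj_Oqq_le g _ (mem_cj.2 this)
      rwa [cj_centralizer_singleton, ← g1, show g * (g⁻¹ * v * g) * g⁻¹ = v by group, g1] at this
  obtain ⟨w1, w2⟩ := s.bl.cplV f b1 b2 b3
  have sw : S ≤ 𝐍 (W V) := f.norm.trans (norm_W' V)
  have l := (cj_le_of_le v1 hn.2).trans inf_le_left
  refine mem_normalizer_of_le_cj (le_of_forall_singleton (ea_cj f.ea n) (by rw [card_cj, f.card]; rfl) (l.trans sw) w1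
    fun v hv v1 => le_trans ?_ ((le_W hv v1).trans (cj_W' n V).ge))
  have vv := mul_self_of_ea (ea_cj f.ea n) hv
  have vt := hS (l hv)
  have c := Core.coprime_card_of_le (inf_le_left : W V ⊓ centralizer {v} ≤ _) w1
  have m : zpowers t ≤ 𝐍 (W V ⊓ centralizer {v}) := norm_inf (zpowers_le.2 (sw (f.le tv)))
    (norm_of_le (zpowers_le.2 (mem_cent_symm vt)))
  refine (comm_sup_cent_coprime m (by rw [card_two tt t1]; exact c.symm) (Or.inl (isSolvable_zpowers t))).ge.trans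
    (sup_le (le_Oq'_of_le_Oqq ((commutator_mono inf_le_right (zpowers_le.2 ?_)).trans
      (commutator_le_right_of_norm (le_normalizer_Oqq _))) (Core.coprime_card_of_le (commutator_le_left_of_norm m) c)) ?_)
  · have := cj_Oqq_le n _ (conj_mem_cj.2 (v2 _ (mem_cj.1 hv) fun e => v1 (by
      rw [← conj_eq_one_iff (a := n⁻¹), inv_inv, e])))
    rwa [cj_centralizer_singleton, mem_cent_iff.1 hn.1, show n * (n⁻¹ * v * n) * n⁻¹ = v by group] at this
  · rw [centralizer_zpowers, inf_right_comm, w2 t tv t1]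
    exact s.bl t v ht (ord_of_sq vv v1) (mem_cent_symm vt)

theorem ext (b1 : b ∈ S ⊓ 𝐂 V) (b2 : b * b = 1) (b3 : b ∉ V) (ht : orderOf t = 2) (hT : SylIn 2 T (centralizer {t}))
    (l : T ≤ S) (ea : IsElementaryAbelian 2 E) (c : 8 ≤ Nat.card E) (lE : E ≤ T) : centralizer {t} ≤ 𝐍 (W V) := by
  have tt := sq_of_ord ht
  have t1 := ne_one_of_orderOf ht
  have l1 : Oqq 2 (centralizer {t}) ≤ centralizer {t} := map_subtype_le _
  have n := le_normalizer_Oqq (q := 2) (centralizer {t})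
  have h1 := hT.inf_norm l1 n
  have h2 := sylIn_iff.1 h1
  have tT := mem_syl tt hT
  have z1 : OZ 2 T ≤ OZ 2 (T ⊓ Oqq 2 (centralizer {t})) := OZ_le_OZ inf_le_left (le_inf (OZ_le 2 T) (le_Oqq_of_sylow
    (s t ht) h2 ((OZ_le 2 T).trans hT.le) ((comm_eq_bot_of_le' (inf_le_left.trans (le_cent_OZ 2 T))).le.trans bot_le)))
  have z2 : t ∈ OZ 2 T := mem_OZ.2 ⟨tT, mem_cent_of_le hT.le, by rwa [pow_two]⟩
  have o : θ t ≤ W V := by
    rw [← s.bl.W_eight f (PGNormalCyclic.isElementaryAbelian_sup_zpowers ea (mem_cent_of_le (lE.trans hT.le))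
      (by rwa [pow_two])) (c.trans (card_le_of_le le_sup_left)) (sup_le (lE.trans l) (zpowers_le.2 (l tT)))]
    exact le_W (mem_sup_right (mem_zpowers t)) t1
  have sw : S ≤ 𝐍 (W V) := f.norm.trans (norm_W' V)
  refine (h1.frattini_sup l1 n).ge.trans (sup_le ((sup_Oq'_eq h2).ge.trans (sup_le (inf_le_left.trans (l.trans sw))
    (norm_of_le o))) ?_)
  have n1 : T ≤ 𝐍 (T ⊓ Oqq 2 (centralizer {t})) := norm_inf le_normalizer (hT.le.trans n)
  by_cases k : 4 ≤ Nat.card (OZ 2 (T ⊓ Oqq 2 (centralizer {t})))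
  · refine (inf_le_right.trans ((normalizer_le_OZ 2 _).trans (norm_W' _))).trans (le_of_eq (congrArg _ (congrArg _ ?_)))
    by_cases k' : 8 ≤ Nat.card (OZ 2 (T ⊓ Oqq 2 (centralizer {t})))
    · exact s.bl.W_eight f (ea_OZ 2 _) k' ((OZ_le 2 _).trans (inf_le_left.trans l))
    obtain ⟨m, hm⟩ := (isPGroup_OZ 2 (T ⊓ Oqq 2 (centralizer {t}))).exists_card_eq
    have : m = 2 := by
      rw [hm] at k k'
      have := (Nat.pow_le_pow_iff_right (a := 2) (n := 2) one_lt_two).1 k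
      have := mt (Nat.pow_le_pow_iff_right (a := 2) (n := 3) (m := m) one_lt_two).2 k'
      omega
    rw [← s.bl.W_eight f ea c (lE.trans l)]
    exact (s.bl.W_eq' ea (ea_OZ 2 _) k inf_le_left inf_le_right
      (four_of_norm hT.pg (norm_OZ n1) (by rw [hm, this]; rfl) lE c)).symm
  have e := eq_zpowers (ea_OZ 2 _) k (z1 z2) t1
  obtain rfl : T = S := eq_of_inf_normalizer_le f.syl.pg l fun x hx => by
    have : x ∈ centralizer {t} := mem_cent_iff.2 ((mem_zpowers_two tt (e.le (z1 (conj_mem_of_mem_normalizer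
      (normalizer_le_OZ 2 T hx.2) z2)))).resolve_left (mt conj_eq_one_iff.1 t1))
    exact hT.le_of_norm' (isPGroup_zpowers_of_mem f.syl.pg hx.1) (zpowers_le.2 this) (zpowers_le.2 hx.2) (mem_zpowers x)
  exact s.cyc f b1 b2 b3 ht hT.le e (z1.trans e.le)

theorem cent_le (h8 : ∀ t : G, orderOf t = 2 → ∃ E, IsElementaryAbelian 2 E ∧ 8 ≤ Nat.card E ∧ E ≤ centralizer {t})
    (b1 : b ∈ S ⊓ 𝐂 V) (b2 : b * b = 1) (b3 : b ∉ V) (h : t ∈ S) (ht : orderOf t = 2) :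
    centralizer {t} ≤ 𝐍 (W V) := by
  have k : ∀ {t T}, orderOf t = 2 → SylIn 2 T (centralizer {t}) → T ≤ S → centralizer {t} ≤ 𝐍 (W V) := fun ht hT l => by
    obtain ⟨E, e1, e2, e3⟩ := h8 _ ht
    obtain ⟨g, -, e4⟩ := hT.exists_conj_le (ea_pg e1) e3
    exact s.ext f b1 b2 b3 ht hT l (ea_cj e1 g) (by rwa [card_cj]) e4
  have tt := sq_of_ord ht
  obtain ⟨T, h1, h2⟩ := exists_sylIn_ge (f.syl.pg.to_le (inf_le_left : S ⊓ centralizer {t} ≤ S)) inf_le_right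
  obtain ⟨g, -, l⟩ := f.syl.exists_conj_le h1.pg le_top
  have h3 := h1.conj g
  rw [cj_centralizer_singleton] at h3
  have h4 := k (by rwa [orderOf_conj']) h3 l
  rw [← cj_centralizer_singleton, cj_le_iff] at h4
  refine h4.trans (cj_eq_self_of_mem (inv_mem ?_)).le
  by_contra n
  have n8 : ∀ E, IsElementaryAbelian 2 E → 8 ≤ Nat.card E → ¬ E ≤ S ⊓ centralizer {t} := fun E e1 e2 e3 =>
    n (s.bl.mem_of_eight f e1 e2 (e3.trans inf_le_left) ((cj_mono g (e3.trans h2)).trans l))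
  have tv : t ∉ 𝐂 V := fun e => by
    obtain ⟨E, e1, e2, e3⟩ := f.eight b1 b2 b3 ⟨h, e⟩ tt
    exact n8 E e1 e2 e3
  obtain ⟨z, ⟨z1, z3⟩, z2⟩ := exists_ne_one_of_ne_bot (inf_centralizer_ne_bot f.syl.pg (ea_pg f.ea) f.norm fun e => by
    have := f.card; rw [e, card_bot] at this; omega)
  have zz := mul_self_of_ea f.ea z1
  refine b3 (f.key z1 z2 z3 h tv tt (fun u u1 e => by_contra fun n' => ?_) b1)
  obtain ⟨m, hm⟩ := isPGroup_iff_mem.1 f.syl.pg u u1.1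
  obtain ⟨j, j1, j2⟩ := PGBasic.exists_pow_not_mem (p := 2) (N := zpowers z) (mt (mem_zpowers_two zz) n')
    (hm ▸ one_mem _)
  have v1 := pow_mem u1 (2 ^ j)
  have v2 := pow_mem (mem_cent_symm (mem_cent_iff.2 e)) (2 ^ j)
  generalize u ^ 2 ^ j = v at *
  rw [pow_two] at j2
  rcases mem_zpowers_two zz j2 with e | e
  · obtain ⟨a1, a2⟩ := ea_ext (ea_two zz) (centralizer_anti (zpowers_le.2 z1) v1.2) e j1
    have l : zpowers z ⊔ zpowers v ≤ S ⊓ 𝐂 V := sup_le (zpowers_le.2 (f.le' z1)) (zpowers_le.2 v1)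
    obtain ⟨a3, a4⟩ := ea_ext a1 (mem_cent_of_le (sup_le (zpowers_le.2 (le_cent_of_mem' z3 h)) (zpowers_le.2 v2)))
      tt fun c => tv (l c).2
    exact n8 _ a3 (by rw [a4, a2, card_two zz z2]) (le_inf (sup_le (l.trans inf_le_left) (zpowers_le.2 h))
      (le_cent_of_mem (ea_le_cent a3 (mem_sup_right (mem_zpowers _)))))
  have v3 := l (conj_mem_cj.2 (h2 ⟨v1.1, v2⟩))
  have v4 := (mul_mem_of_two (f.idx fun l => tv (l h)) v3 v3).2 Iff.rfl
  have v5 := mul_mem v3 v3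
  rw [conj_mul, e] at v4 v5
  obtain ⟨E, e1, e2, e3⟩ := f.eight b1 b2 b3 ⟨v5, v4⟩ (by rw [conj_mul, zz]; simp)
  have hz := f.syl.mono (le_cent_of_mem z3) le_top
  obtain ⟨c, c1, c2⟩ := hz.exists_conj_le (isPGroup_cj (ea_pg e1) g⁻¹) (cj_le_iff.2 (by
    rw [inv_inv, cj_centralizer_singleton]; exact e3.trans inf_le_right))
  rw [cj_cj] at c2
  exact n (inv_mem_iff.1 ((mul_mem_cancel_left (k (ord_of_sq zz z2) hz le_rfl c1)).1
    (s.bl.mem_of_eight f e1 e2 (e3.trans inf_le_left) c2)))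

end Con

theorem exists_fo (hS : SylIn 2 S ⊤) (ea : IsElementaryAbelian 2 E) (c : 8 ≤ Nat.card E) (l : E ≤ S) : ∃ V, Fo S V := by
  refine (cyc_or_fo hS fun e => ?_).resolve_left fun ⟨A, h1, h2, h3⟩ => ?_
  · rw [le_bot_iff.1 (l.trans e.le), card_bot] at c; omega
  have h4 := (relIndex_le_of_le_right l (relIndex_ne_zero A S)).trans h2.le
  have h5 := card_inf_mul_relIndex A E
  exact PGNormalCyclic.not_isCyclic_of_elementary (E := A ⊓ E) two_pos (fun e he => ea_pow ea he.2) (by nlinarith)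
    (isCyclic_of_injective _ (inclusion_injective inf_le_left))

/-- If some involution centralizer has a nontrivial core, there is a strongly embedded subgroup with nontrivial core. -/
theorem Con.main (s : Con G) (hO : pPrimeCore 2 G = ⊥)
    (h8 : ∀ t : G, orderOf t = 2 → ∃ E, IsElementaryAbelian 2 E ∧ 8 ≤ Nat.card E ∧ E ≤ centralizer {t})
    (ht : orderOf t = 2) (h : θ t ≠ ⊥) : ∃ M : Subgroup G, IsStronglyEmbedded M ∧ OQ 2 M ≠ ⊥ := by
  obtain ⟨E, e1, e2, e3⟩ := h8 t ht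
  have e4 := PGNormalCyclic.isElementaryAbelian_sup_zpowers e1 (mem_cent_of_le e3) (by rw [pow_two, sq_of_ord ht])
  replace e2 := e2.trans (card_le_of_le (le_sup_left : E ≤ E ⊔ zpowers t))
  obtain ⟨S, hS, l⟩ := exists_sylIn_ge (ea_pg e4) le_top
  obtain ⟨V, f⟩ := exists_fo hS e4 e2 l
  obtain ⟨b, b1, b2, b3⟩ := exists_b f e4 e2 l
  have o : θ t ≤ W V := (le_W (mem_sup_right (mem_zpowers t)) (ne_one_of_orderOf ht)).trans (s.bl.W_eight f e4 e2 l).le
  have c := (s.bl.cplV f b1 b2 b3).1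
  have n : 𝐍 (W V) ≠ ⊤ := fun e => by
    have := normalizer_eq_top_iff.1 e
    exact h (le_bot_iff.1 (o.trans ((Core.le_pPrimeCore c).trans hO.le)))
  have := spe_top_iff.1 (f.spe n (fun g hg => s.bl.mem_of_eight f e4 e2 l (cj_le_of_le l hg))
    fun t t1 t2 => s.cent_le f h8 b1 b2 b3 t1 t2)
  exact ⟨_, ⟨this.1, even_iff_two_dvd.2 this.2.1, fun g hg => Nat.not_even_iff_odd.1 (mt even_iff_two_dvd.1
    (this.2.2 g hg))⟩, fun e => h (le_bot_iff.1 (o.trans ((le_OQ le_normalizer le_rfl c).trans e.le)))⟩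

theorem con_of_not (h : ¬ IsComponentType G) : Con G := fun t ht => PComp.pLayer_eq_bot_iff.2 (le_bot_iff.1
  (Comp.layer_le fun K hK => (h ⟨t, ht, K, hK⟩).elim))

theorem Con.char (s : Con G) (he : Even (Nat.card G)) (h : ∀ t : G, orderOf t = 2 → θ t = ⊥) :
    IsCharacteristicTwoType G := ⟨he, fun T hT h1 => by
  obtain ⟨x, x1, x2, x3⟩ := H13Con.exists_central hT h1
  have := charP_norm_of_elem (L := ⊤) hT le_top x1 (by
    rw [top_inf_eq]; exact H13Con.charP_of_con (H13Con.con_iff.2 (s x x3)) (H13Con.cpc_eq_bot_iff.1 (h x x3)))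
  rw [top_inf_eq] at this
  exact charP_iff.1 this⟩

theorem exists_eight (h : ¬ PRankLE 2 2 G) : ∃ E : Subgroup G, IsElementaryAbelian 2 E ∧ 8 ≤ Nat.card E := by
  simp only [PRankLE, not_forall, not_le] at h
  obtain ⟨E, h1, h2, h3⟩ := h
  obtain ⟨m, hm⟩ := (ea_pg (p := 2) ⟨h1, h2⟩).exists_card_eq
  refine ⟨E, ⟨h1, h2⟩, ?_⟩
  rw [hm] at h3 ⊢
  exact Nat.pow_le_pow_right (n := 2) (i := 3) two_pos ((Nat.pow_lt_pow_iff_right one_lt_two).1 h3)

theorem eight_conj (h : IsConj t u) (k : ∃ E, IsElementaryAbelian 2 E ∧ 8 ≤ Nat.card E ∧ E ≤ centralizer {u}) :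
    ∃ E, IsElementaryAbelian 2 E ∧ 8 ≤ Nat.card E ∧ E ≤ centralizer {t} := by
  obtain ⟨g, rfl⟩ := isConj_iff.1 h.symm
  obtain ⟨E, h1, h2, h3⟩ := k
  exact ⟨cj g E, ea_cj h1 g, by rwa [card_cj], (cj_mono g h3).trans (cj_centralizer_singleton g u).le⟩

theorem eight_of_conn' (hG : IsPGroup 2 G) (hc : IsFourConnected G) (ea : IsElementaryAbelian 2 E) (c : 8 ≤ Nat.card E)
    (ht : orderOf t = 2) : ∃ E, IsElementaryAbelian 2 E ∧ 8 ≤ Nat.card E ∧ E ≤ centralizer {t} := by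
  obtain ⟨z, z1, z2, z3⟩ := H13Con.exists_central (hG.to_subgroup ⊤) fun e => ne_one_of_orderOf ht (e.le (mem_top t))
  by_cases e : z = t
  · exact ⟨E, ea, c, le_top.trans (le_cent_of_mem (e ▸ z2))⟩
  have k := Two.isKleinFour_sup z3 ht (z2 t (mem_top t)).symm e
  obtain ⟨U, u1, u2⟩ := Bal2.exists_le_card_eq (k := 2) (ea_pg ea) (by omega)
  have kl : ∀ {V : Subgroup G}, IsKleinFour V → IsElementaryAbelian 2 V := fun h =>
    ⟨Two.klein_comm h, fun _ => Two.klein_sq h⟩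
  have a : ∀ V, Relation.ReflTransGen (fun A B : Subgroup G => IsKleinFour A ∧ IsKleinFour B ∧
      ∀ a ∈ A, ∀ b ∈ B, a * b = b * a) (zpowers z ⊔ zpowers t) V → V = zpowers z ⊔ zpowers t ∨
      ∃ E, IsElementaryAbelian 2 E ∧ 8 ≤ Nat.card E ∧ E ≤ centralizer {t} := fun V h => by
    induction h with
    | refl => exact Or.inl rfl
    | @tail B C _ h ih =>
      refine ih.elim (fun e => or_iff_not_imp_left.2 fun n => ?_) Or.inr
      have e1 := ea_sup (kl h.2.1) (kl h.1) fun x hx y hy => h.2.2 y hy x hx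
      have := PGBasic.card_mul_le_of_lt (ea_pg e1) (lt_of_le_of_ne le_sup_left fun e' => n ((eq_of_le_of_card_ge
        (le_sup_right.trans e'.ge) (by rw [Two.klein_card h.1, Two.klein_card h.2.1])).symm.trans e))
      rw [Two.klein_card h.2.1] at this
      exact ⟨_, e1, this, le_cent_of_mem (ea_le_cent e1 (mem_sup_right (e.ge (mem_sup_right (mem_zpowers t)))))⟩
  exact (a U (hc _ U k (Two.isKleinFour_of u2 fun x hx => ea_pow ea (u1 hx)))).elim
    (fun e => ⟨E, ea, c, le_cent_of_mem (ea_le_cent ea (u1 (e.ge (mem_sup_right (mem_zpowers t)))))⟩) id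

theorem eight_of_conn (P : Sylow 2 G) (hc : IsFourConnected P) (h3 : ¬ PRankLE 2 2 G) (t : G) (ht : orderOf t = 2) :
    ∃ E, IsElementaryAbelian 2 E ∧ 8 ≤ Nat.card E ∧ E ≤ centralizer {t} := by
  obtain ⟨E, e1, e2⟩ := exists_eight h3
  obtain ⟨g, -, l⟩ := (sylIn_top P).exists_conj_le (ea_pg e1) le_top
  obtain ⟨u, u1, u2, u3⟩ := Two.exists_isConj_mem P (k := 1) ht
  obtain ⟨F, f1, f2, f3⟩ := eight_of_conn' P.2 hc ((ea_subgroupOf_iff l).2 (ea_cj e1 g))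
    (by rwa [Nat.card_congr (subgroupOfEquivOfLe l).toEquiv, card_cj]) (t := ⟨u, u1⟩) (by rwa [← orderOf_coe])
  refine eight_conj u3 ⟨F.map (P : Subgroup G).subtype, ea_map _ f1, by rwa [card_subtype], ?_⟩
  rintro _ ⟨x, hx, rfl⟩
  exact mem_centralizer_singleton_iff.2 (congrArg Subtype.val (mem_centralizer_singleton_iff.1 (f3 hx)))

theorem eight_of_transfer (h : ∀ N : Subgroup G, N.Normal → N.index ≠ 2) (h3 : ¬ PRankLE 2 2 G) (t : G)
    (ht : orderOf t = 2) : ∃ E, IsElementaryAbelian 2 E ∧ 8 ≤ Nat.card E ∧ E ≤ centralizer {t} := by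
  obtain ⟨E, e1, e2⟩ := exists_eight h3
  obtain ⟨S, hS, l⟩ := exists_sylIn_ge (ea_pg e1) le_top
  obtain ⟨V, f⟩ := exists_fo hS e1 e2 l
  obtain ⟨b, b1, b2, b3⟩ := exists_b f e1 e2 l
  obtain ⟨u, u1, u2, u3⟩ := Two.exists_isConj_mem hS.toSylowTop (k := 1) ht
  have k : ∀ {u}, u ∈ S ⊓ 𝐂 V → IsConj t u → ∃ E, IsElementaryAbelian 2 E ∧ 8 ≤ Nat.card E ∧ E ≤ centralizer {t} :=
    fun h1 h2 => by
      obtain ⟨g, rfl⟩ := isConj_iff.1 h2
      obtain ⟨E, a1, a2, a3⟩ := f.eight b1 b2 b3 h1 (by rw [conj_mul, sq_of_ord ht]; simp)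
      exact eight_conj h2 ⟨E, a1, a2, a3.trans inf_le_right⟩
  by_cases c : S ≤ 𝐂 V
  · exact k ⟨u1, c u1⟩ u3
  have o : Odd S.index := by
    rw [← Nat.not_even_iff_odd, even_iff_two_dvd, ← relIndex_top_right]; exact hS.not_dvd
  rcases Trf.thompson_transfer_involution o (f.idx c) u1 (by simpa [u2] using pow_orderOf_eq_one u) with ⟨M, m1, m2, -⟩ | ⟨g, g1⟩
  · exact absurd m2 (h M m1)
  · exact k g1 (u3.trans (isConj_iff.2 ⟨g, rfl⟩))

theorem even_of_rank (h3 : ¬ PRankLE 2 2 G) : Even (Nat.card G) := by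
  obtain ⟨E, e1, e2⟩ := exists_eight h3
  exact even_iff_two_dvd.2 ((dvd_card_of_isPGroup (ea_pg e1) fun e => by
    rw [e, card_bot] at e2; omega).trans (card_subgroup_dvd_card E))

end CA.Dich
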