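import Cfsg.Agent.Lib.Perm.HupTr
import Cfsg.Agent.Lib.Lin.El2
import Cfsg.Agent.Lib.Lie.FieldAut
import Cfsg.Agent.Lib.Loc.EqO1
import Cfsg.Prelude.Def_Perm

/-! Solvable linear groups that are transitive on points and on lines. -/

set_option autoImplicit false
set_option linter.unusedSectionVars false

namespace CA.EqAff

open Subgroup Cfsg CA.BG CA.TrLin Module

section semi
variable {F : Type*} [Field F]

theorem uniq {a a' : Fˣ} {b b' : F} {φ φ' : F ≃+* F} (h : ∀ x, (a : F) * φ x + b = a' * φ' x + b') :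
    φ = φ' ∧ a = a' ∧ b = b' := by
  have h0 : b = b' := by simpa using h 0
  have h1 : a = a' := Units.ext (by simpa [h0] using h 1)
  subst h0 h1
  exact ⟨RingEquiv.ext fun x => mul_left_cancel₀ a.ne_zero (add_right_cancel (h x)), rfl, rfl⟩

theorem ex_pi (g : semiaffineGroup F) : ∃ φ : F ≃+* F, ∃ a : Fˣ, ∃ b : F, ∀ x, g.1 x = a * φ x + b :=
  let ⟨a, b, φ, h⟩ := g.2
  ⟨φ, a, b, h⟩

theorem ch_eq {g : semiaffineGroup F} {a : Fˣ} {b : F} {φ : F ≃+* F} (h : ∀ x, g.1 x = a * φ x + b) :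
    (ex_pi g).choose = φ :=
  let ⟨_, _, h1⟩ := (ex_pi g).choose_spec
  (uniq fun x => (h1 x).symm.trans (h x)).1

variable (F) in
/-- the field automorphism of a semi-affine map -/
noncomputable def pi : semiaffineGroup F →* (F ≃+* F) := MonoidHom.mk' (fun g => (ex_pi g).choose) fun g h => by
  obtain ⟨a, b, φ, e⟩ := g.2
  obtain ⟨c, d, ψ, e'⟩ := h.2
  rw [ch_eq e, ch_eq e']
  refine ch_eq (a := a * Units.map (φ : F →* F) c) (b := a * φ d + b) fun x => ?_
  simp only [coe_mul, Equiv.Perm.coe_mul, Function.comp_apply, e, e', Units.val_mul, Units.coe_map,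
    MonoidHom.coe_coe, map_add, map_mul, RingAut.mul_apply]
  ring

theorem pi_eq {g : semiaffineGroup F} {a : Fˣ} {b : F} {φ : F ≃+* F} (h : ∀ x, g.1 x = a * φ x + b) :
    pi F g = φ := ch_eq h

theorem aff_le : affineGroup F ≤ semiaffineGroup F := fun _ ⟨a, b, h⟩ => ⟨a, b, 1, h⟩

theorem ker_pi : (pi F).ker = (affineGroup F).subgroupOf (semiaffineGroup F) := by
  ext g
  obtain ⟨a, b, φ, e⟩ := g.2
  rw [MonoidHom.mem_ker, mem_subgroupOf]
  exact ⟨fun h => ⟨a, b, fun x => by rw [e, ← pi_eq e, h]; rfl⟩, fun ⟨c, d, h⟩ => pi_eq (φ := 1) h⟩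

theorem card_aff : Nat.card (affineGroup F) = (Nat.card F - 1) * Nat.card F := by
  rw [← Nat.card_units, ← Nat.card_prod]
  refine (Nat.card_congr (Equiv.ofBijective (fun x : Fˣ × F =>
    (⟨(x.1.mulLeft).trans (Equiv.addRight x.2), x.1, x.2, fun _ => rfl⟩ : affineGroup F)) ⟨fun x y h => ?_, ?_⟩)).symm
  · have := uniq (φ := 1) (φ' := 1) fun z => DFunLike.congr_fun (congrArg Subtype.val h) z
    exact Prod.ext this.2.1 this.2.2
  · exact fun ⟨g, a, b, h⟩ => ⟨(a, b), Subtype.ext (Equiv.ext fun z => (h z).symm)⟩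

theorem card_aut [Finite F] {p n : ℕ} [Fact p.Prime] (h : Nat.card F = p ^ n) : Nat.card (F ≃+* F) = n := by
  have := Fintype.ofFinite F
  have hp : p.Prime := Fact.out
  have : CharP F p := charP_of_card_eq_prime_pow (f := n) (by rw [← Nat.card_eq_fintype_card, h])
  let _ := ZMod.algebra F p
  rw [Nat.card_congr (CA.FieldAut.toAlg F p).toEquiv, IsGalois.card_aut_eq_finrank]
  have h2 := Module.natCard_eq_pow_finrank (K := ZMod p) (V := F)
  rw [Nat.card_zmod, h] at h2
  exact (Nat.pow_right_injective hp.two_le h2).symm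

theorem card_semi_dvd [Finite F] :
    Nat.card (semiaffineGroup F) ∣ (Nat.card F - 1) * Nat.card F * Nat.card (F ≃+* F) := by
  rw [← (pi F).ker.card_mul_index, index_ker, ker_pi, Nat.card_congr (subgroupOfEquivOfLe aff_le).toEquiv, card_aff]
  exact Nat.mul_dvd_mul_left _ (card_subgroup_dvd_card _)

end semi

theorem arith {p k : ℕ} (hp : 2 ≤ p) (hk : 1 ≤ k) (h : p ^ (k + 1) - 1 ∣ (k + 2) * (p ^ 2 - 1)) :
    k = 1 ∨ (k = 3 ∧ p = 2) := by
  obtain ⟨j, rfl⟩ := Nat.exists_eq_add_of_le' hk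
  have h1 : 4 ≤ p ^ 2 := by nlinarith
  have h2 := Nat.le_of_dvd (Nat.mul_pos (by omega) (by omega)) h
  have h3 : p ^ j ≤ j + 3 := by
    have e : p ^ (j + 1 + 1) = p ^ j * (p ^ 2 - 1) + p ^ j := by
      rw [← Nat.mul_succ, Nat.succ_eq_add_one, Nat.sub_add_cancel (by omega)]; ring
    have := Nat.one_le_pow j p (by omega)
    exact Nat.le_of_mul_le_mul_right (by omega : p ^ j * (p ^ 2 - 1) ≤ (j + 1 + 2) * (p ^ 2 - 1)) (by omega)
  have h4 : j ≤ 2 := by
    by_contra hj
    obtain ⟨i, rfl⟩ := Nat.exists_eq_add_of_le' (show 3 ≤ j by omega)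
    have h5 := Nat.pow_le_pow_left hp (i + 3)
    have h6 := Nat.lt_two_pow_self (n := i)
    rw [pow_add] at h5
    omega
  interval_cases j
  · exact .inl rfl
  · have : p ≤ 4 := by simpa using h3
    interval_cases p <;> simp at h
  · exact .inr ⟨rfl, by nlinarith⟩

section lin
variable {H W : Type*} [Group H] [Finite H] [AddCommGroup W] [Finite W]

theorem fix_card [DistribMulAction H W] {r : ℕ} [Fact r.Prime] {A : Subgroup H} (hA : IsPi {r} A) :
    Nat.card W ≡ Nat.card (FixedPoints.addSubgroup A W) [MOD r] :=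
  (hA.isPGroup Fact.out).card_modEq_card_fixedPoints W

theorem not81 [DistribMulAction H W] [FaithfulSMul H W] (hs : Group.IsSolvable H) (hW : Nat.card W = 81)
    (h5 : 5 ∣ Nat.card H) (h13 : 13 ∣ Nat.card H) : False := by
  have p5 : Fact (Nat.Prime 5) := ⟨by norm_num⟩
  have p13 : Fact (Nat.Prime 13) := ⟨by norm_num⟩
  have k0 : ∀ A : Subgroup H, A ≠ ⊥ → Nat.card (FixedPoints.addSubgroup A W) ∈ [1, 3, 9, 27] := fun A hA => by
    have h1 := (FixedPoints.addSubgroup A W).card_addSubgroup_dvd_card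
    have h2 : Nat.card (FixedPoints.addSubgroup A W) ≠ 81 := fun e => hA (eq_bot_iff.2 fun a ha => by
      have h3 := AddSubgroup.eq_top_of_card_eq _ (e.trans hW.symm)
      exact eq_of_smul_eq_smul (α := W) fun w => (h3.ge (AddSubgroup.mem_top w) ⟨a, ha⟩).trans (one_smul H w).symm)
    rw [hW, show 81 = 3 ^ 4 from rfl, Nat.dvd_prime_pow Nat.prime_three] at h1
    obtain ⟨i, h3, h4⟩ := h1
    rw [h4] at h2 ⊢
    interval_cases i <;> simp at h2 ⊢
  have k5 : ∀ x : H, orderOf x = 5 → ∀ w : W, x • w = w → w = 0 := fun x hx w hw => by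
    have h1 := fix_card (W := W) (isPi_of_card_eq p5.out ((Nat.card_zpowers x).trans hx))
    have h2 := k0 (zpowers x) (zpowers_ne_bot.2 fun e => by simp [e] at hx)
    have h3 : Nat.card (FixedPoints.addSubgroup (zpowers x) W) = 1 := by
      rw [hW] at h1
      simp only [List.mem_cons, List.not_mem_nil, or_false] at h2
      rcases h2 with e | e | e | e <;> rw [e] at h1 ⊢ <;> exact absurd h1 (by decide)
    exact AddSubgroup.card_eq_one.1 h3 ▸ (show w ∈ FixedPoints.addSubgroup (zpowers x) W from fun ⟨_, h⟩ =>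
      (zpowers_le.2 (show x ∈ MulAction.stabilizer H w from hw) h)) |>.trans rfl
  have key : ∀ (A : Subgroup H) (x : H), IsPi {13} A → A ≠ ⊥ → orderOf x = 5 → x ∈ 𝓝(A) → False :=
    fun A x hA h0 hx hn => by
      have h1 := fix_card (W := W) hA
      have h2 := k0 A h0
      have h3 : Nat.card (FixedPoints.addSubgroup A W) = 3 := by
        rw [hW] at h1
        simp only [List.mem_cons, List.not_mem_nil, or_false] at h2
        rcases h2 with e | e | e | e <;> rw [e] at h1 ⊢ <;> exact absurd h1 (by decide)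
      have h4 : ∀ g ∈ 𝓝(A), ∀ w ∈ FixedPoints.addSubgroup A W, g • w ∈ FixedPoints.addSubgroup A W :=
        fun g hg w hw a => by
          have := hw ⟨_, (mem_normalizer_iff.1 (inv_mem hg) _).1 a.2⟩
          change (g⁻¹ * a * g⁻¹⁻¹) • w = w at this
          change (a : H) • g • w = g • w
          rw [inv_inv, mul_smul, mul_smul, inv_smul_eq_iff] at this
          exact this
      have h6 := card_dvd_of_free (A := zpowers x) (W := FixedPoints.addSubgroup A W)
        (fun a ha => h4 a (zpowers_le.2 hn ha)) fun a ha v v0 e => by_contra fun a1 => v0 (k5 a (by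
          have := orderOf_dvd_natCard (⟨a, ha⟩ : zpowers x)
          rw [Nat.card_zpowers, hx, orderOf_mk] at this
          exact ((Nat.dvd_prime p5.out).1 this).resolve_left (mt orderOf_eq_one_iff.1 a1)) v e)
      rw [Nat.card_zpowers, hx, h3] at h6
      omega
  obtain ⟨K, hK⟩ := hall_exists (H := (⊤ : Subgroup H)) {5, 13} inferInstance
  have d : ∀ r : ℕ, r.Prime → r ∈ ({5, 13} : Set ℕ) → r ∣ Nat.card H → ∃ x ∈ K, orderOf x = r := fun r hr h1 h2 => by
    have := Fact.mk hr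
    rw [← K.card_mul_index] at h2
    obtain ⟨x, hx⟩ := exists_prime_orderOf_dvd_card' r ((hr.dvd_mul.1 h2).resolve_right fun e =>
      hK.idx r hr (relIndex_top_right K ▸ e) h1)
    exact ⟨x, x.2, (orderOf_coe x).trans hx⟩
  obtain ⟨x, hx, x5⟩ := d 5 p5.out (by simp) h5
  obtain ⟨y, hy, y13⟩ := d 13 p13.out (by simp) h13
  obtain ⟨E, hE, hm⟩ := exists_minNormal (le_norm_self K) (N := K) (fun e => by
    rw [e, mem_bot] at hx; simp [hx] at x5)
  obtain ⟨r, hr, he⟩ := hm.elem inferInstance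
  have h1 := isPi_of_elem hr he
  rcases hK.pi r hr ((h1.dvd_card hm.1).trans (card_dvd_of_le hE)) with rfl | rfl
  swap
  · exact key E x h1 hm.1 x5 (hm.2.1 hx)
  have h2 := card_dvd_of_free (A := E) (W := (⊤ : AddSubgroup W)) (fun _ _ _ _ => trivial) fun a ha v v0 e =>
    by_contra fun a1 => v0 (k5 a (orderOf_eq_prime (he.2 a ha) a1) v e)
  obtain ⟨i, h3⟩ := IsPi.exists_card p5.out h1
  rw [AddSubgroup.card_top, hW, h3] at h2
  have h4 : i = 1 := by
    have h6 : i ≠ 0 := fun e => hm.1 (card_eq_one.1 (by simp [h3, e]))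
    have h7 : ¬ 2 ≤ i := fun e => absurd ((pow_dvd_pow 5 e).trans h2) (by norm_num)
    omega
  rw [h4, pow_one] at h3
  have := isCyclic_of_prime_card h3
  obtain ⟨z, hz⟩ := exists_prime_orderOf_dvd_card' (G := E) 5 (h3 ▸ dvd_rfl)
  have h6 : E.normalizerMonoidHom ⟨y, hm.2.1 hy⟩ = 1 := orderOf_eq_one_iff.1 (Nat.eq_one_of_dvd_coprimes
    (show Nat.Coprime 13 4 by norm_num) ((orderOf_map_dvd _ _).trans (by rw [← y13, orderOf_mk]))
    ((_root_.orderOf_dvd_natCard _).trans (by rw [IsCyclic.card_mulAut, h3]; decide)))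
  have h7 : y * z * y⁻¹ = z := congrArg Subtype.val (DFunLike.congr_fun h6 z)
  exact key (zpowers y) z (isPi_of_card_eq p13.out ((Nat.card_zpowers y).trans y13))
    (zpowers_ne_bot.2 fun e => by simp [e] at y13) ((orderOf_coe z).trans hz)
    (cent_le_norm _ (cent_zpowers y ▸ mem_cent1.2 (mul_inv_eq_iff_eq_mul.1 h7).symm))

variable {R : Type*} [Field R] [Module R W]

theorem idx {K : Type*} [Group K] (σ : K →* (W ≃ₗ[R] W)) (A : Submodule R W)
    (htr : ∀ B : Submodule R W, finrank R B = finrank R A → ∃ g, B = A.map (σ g : W →ₗ[R] W)) :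
    ∃ S : Subgroup K, (∀ g, A.map (σ g : W →ₗ[R] W) = A → g ∈ S) ∧
      S.index = Nat.card {B : Submodule R W // finrank R B = finrank R A} := by
  let _ : MulAction K (Submodule R W) :=
    { smul := fun g B => B.map (σ g : W →ₗ[R] W)
      one_smul := fun B => show B.map (σ 1 : W →ₗ[R] W) = B by rw [map_one]; exact B.map_id
      mul_smul := fun g h B => show B.map (σ (g * h) : W →ₗ[R] W) = (B.map (σ h : W →ₗ[R] W)).map (σ g : W →ₗ[R] W) by
        rw [map_mul, ← Submodule.map_comp]; rfl }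
  refine ⟨MulAction.stabilizer K A, fun g h => h, ?_⟩
  rw [MulAction.index_stabilizer, ← Nat.card_coe_set_eq]
  refine Nat.card_congr (Equiv.subtypeEquivRight fun B => ⟨?_, fun h => ?_⟩)
  · rintro ⟨g, rfl⟩
    exact LinearEquiv.finrank_map_eq _ _
  · obtain ⟨g, rfl⟩ := htr B h
    exact ⟨g, rfl⟩

omit [Finite H] in
theorem gr12 {p k : ℕ} [Fact p.Prime] [Module (ZMod p) W] (hn : finrank (ZMod p) W = k + 2) :
    Nat.card {B : Submodule (ZMod p) W // finrank (ZMod p) B = 1} * (p - 1) = p ^ (k + 2) - 1 ∧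
    Nat.card {B : Submodule (ZMod p) W // finrank (ZMod p) B = 2} * (p - 1) * (p ^ 2 - 1) =
      (p ^ (k + 1) - 1) * (p ^ (k + 2) - 1) := by
  have hp : 2 ≤ p := (Fact.out : p.Prime).two_le
  have h1 := CA.El.card_gr (F := ZMod p) (V := W) (m := 1) (by omega)
  have h2 := CA.El.card_gr (F := ZMod p) (V := W) (m := 2) (by omega)
  have e : ∀ m, CA.El.Pq p (m + 1) = CA.El.Pq p m * (p ^ (m + 1) - 1) := fun m => Finset.prod_range_succ _ _
  rw [hn, Nat.card_zmod] at h1 h2
  rw [show k + 2 - 1 = k + 1 from rfl, e (k + 1), e 0] at h1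
  rw [Nat.add_sub_cancel, e (k + 1), e k, e 1, e 0] at h2
  simp only [show CA.El.Pq p 0 = 1 from rfl, one_mul, zero_add, pow_one] at h1 h2
  exact ⟨Nat.eq_of_mul_eq_mul_left (Nat.pos_of_ne_zero (CA.El.Pq_ne_zero hp (k + 1))) (by rw [← h1]; ring),
    Nat.eq_of_mul_eq_mul_left (Nat.pos_of_ne_zero (CA.El.Pq_ne_zero hp k)) (by rw [← mul_assoc _ (p ^ (k + 1) - 1), ← h2]; ring)⟩

theorem semi_dvd [DistribMulAction H W] [FaithfulSMul H W] {F : Type*} [Field F] [Finite F] (e : W ≃+ F)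
    (he : ∀ g : H, ∃ (a : F) (σ : F ≃+* F), ∀ v, e (g • v) = a * σ (e v)) :
    Nat.card H ∣ (Nat.card W - 1) * Nat.card (F ≃+* F) := by
  have k : ∀ g : H, ∃ (a : Fˣ) (σ : F ≃+* F), ∀ x, e (g • e.symm x) = a * σ x + 0 := fun g => by
    obtain ⟨a, σ, h⟩ := he g
    have a0 : a ≠ 0 := fun e0 => by simpa [e0, smul_eq_zero_iff_eq] using h (e.symm 1)
    exact ⟨Units.mk0 a a0, σ, fun x => by simp [h]⟩
  let ψ : H →* semiaffineGroup F := (e.toEquiv.permCongrHom.toMonoidHom.comp (MulAction.toPermHom H W)).codRestrict _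
    fun g => let ⟨a, σ, h⟩ := k g; ⟨a, 0, σ, h⟩
  rw [← ((pi F).comp ψ).ker.card_mul_index, index_ker]
  refine Nat.mul_dvd_mul ?_ (card_subgroup_dvd_card _)
  rw [← AddSubgroup.card_top (G := W)]
  refine card_dvd_of_free (fun _ _ _ _ => trivial) fun g hg v v0 e1 => eq_of_smul_eq_smul (α := W) fun w => ?_
  obtain ⟨a, σ, h⟩ := k g
  obtain rfl : σ = 1 := (pi_eq (g := ψ g) h).symm.trans hg
  have h1 := h (e v)
  have h2 := h (e w)
  rw [e.symm_apply_apply] at h1 h2
  rw [e1, add_zero, RingAut.one_apply, eq_comm, mul_eq_right₀ (by simpa using v0)] at h1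
  rw [one_smul, ← e.injective.eq_iff, h2, h1]
  simp

theorem lin {p n : ℕ} [Fact p.Prime] [Module (ZMod p) W] [DistribMulAction H W] [FaithfulSMul H W]
    (hs : Group.IsSolvable H) (hn : Nat.card W = p ^ n) (h3 : 3 ≤ n)
    (htr : ∀ A B : AddSubgroup W, Nat.card A = Nat.card B → ∃ g : H, ∀ w, w ∈ B ↔ ∃ a ∈ A, g • a = w) :
    (∃ e : W ≃+ GaloisField p n, ∀ g : H, ∃ (a : (GaloisField p n)ˣ) (σ : GaloisField p n ≃+* GaloisField p n),
      ∀ v, e (g • v) = a * σ (e v)) ∧
      ((n = 3 ∧ (p = 2 → 7 ∣ Nat.card H)) ∨ (n = 5 ∧ p = 2 ∧ 155 ∣ Nat.card H)) := by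
  have hp : p.Prime := Fact.out
  have : SMulCommClass H (ZMod p) W := ⟨CA.RegLin.smul_comm_zmod⟩
  have : SMulCommClass (ZMod p) H W := SMulCommClass.symm _ _ _
  have cd : ∀ B : Submodule (ZMod p) W, Nat.card B = p ^ finrank (ZMod p) B := fun B => by
    rw [Module.natCard_eq_pow_finrank (K := ZMod p), Nat.card_zmod]
  have hr : finrank (ZMod p) W = n := Nat.pow_right_injective hp.two_le (show p ^ _ = p ^ n by
    rw [← hn, Module.natCard_eq_pow_finrank (K := ZMod p), Nat.card_zmod])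
  obtain ⟨k, rfl⟩ := Nat.exists_eq_add_of_le' (show 2 ≤ n by omega)
  obtain ⟨g1, g2⟩ := gr12 hr
  let ρ := DistribMulAction.toModuleAut (S := H) (ZMod p) W
  let s := DistribMulAction.toModuleAut (S := (ZMod p)ˣ) (ZMod p) W
  let τ := ρ.noncommCoprod s fun g c => LinearEquiv.ext fun w => smul_comm g (c : ZMod p) w
  have t1 : ∀ g, τ (g, 1) = ρ g := fun g => (congrArg (ρ g * ·) (map_one s)).trans (mul_one _)
  have t2 : ∀ (c : (ZMod p)ˣ) (v : W), τ (1, c) v = (c : ZMod p) • v := fun c v => one_smul H _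
  have tr : ∀ A B : Submodule (ZMod p) W, finrank (ZMod p) B = finrank (ZMod p) A →
      ∃ g, B = A.map (ρ g : W →ₗ[ZMod p] W) := fun A B h => by
    obtain ⟨g, hg⟩ := htr A.toAddSubgroup B.toAddSubgroup ((cd A).trans (h ▸ (cd B).symm))
    exact ⟨g, Submodule.ext hg⟩
  have ex : ∀ m ≤ k + 2, ∃ A : Submodule (ZMod p) W, finrank (ZMod p) A = m := fun m hm => by
    obtain ⟨f, hf⟩ := exists_linearIndependent_of_le_finrank (R := ZMod p) (M := W) (hm.trans hr.ge)
    exact ⟨_, (finrank_span_eq_card hf).trans (Fintype.card_fin m)⟩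
  have dv : ∀ m ≤ k + 2, Nat.card {B : Submodule (ZMod p) W // finrank (ZMod p) B = m} ∣ Nat.card H := fun m hm => by
    obtain ⟨A, rfl⟩ := ex m hm
    obtain ⟨S, -, h⟩ := idx ρ A (tr A)
    exact h ▸ S.index_dvd_card
  have d1 := dv 1 (by omega)
  have d2 := dv 2 (by omega)
  have : Nontrivial W := Finite.one_lt_card_iff_nontrivial.1 (hn ▸ Nat.one_lt_pow (by omega) hp.one_lt)
  have : Finite τ.range := Finite.of_surjective _ τ.rangeRestrict_surjective
  have ht : Tr τ.range W := fun v w hv hw => by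
    obtain ⟨g, hg⟩ := tr (Submodule.span (ZMod p) {v}) (Submodule.span (ZMod p) {w})
      (by rw [finrank_span_singleton hv, finrank_span_singleton hw])
    obtain ⟨_, h1, h2⟩ := Submodule.mem_map.1 (hg.le (Submodule.mem_span_singleton_self w))
    obtain ⟨c, rfl⟩ := Submodule.mem_span_singleton.1 h1
    have c0 : c ≠ 0 := fun e => hw (by simp [← h2, e])
    exact ⟨⟨_, (g, Units.mk0 c c0), rfl⟩, h2⟩
  rcases CA.HupTr.huppert p ht (Group.isSolvable_of_surjective τ.rangeRestrict_surjective) with ⟨F, _, _, e, he⟩ | h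
  swap
  · have h4 : p = 3 ∧ k = 2 := by
      simp only [hn, Set.mem_insert_iff, Set.mem_singleton_iff] at h
      have key : ∀ r m : ℕ, r.Prime → p ^ (k + 2) = r ^ m → p = r ∧ k + 2 = m := fun r m hr h => by
        obtain rfl := (Nat.prime_dvd_prime_iff_eq hp hr).1 (hp.dvd_of_dvd_pow (h ▸ dvd_pow_self p (by omega)))
        exact ⟨rfl, Nat.pow_right_injective hp.two_le h⟩
      rcases h with h | h | h | h | h | h
      · have := key 3 2 (by norm_num) h; omega
      · have := key 5 2 (by norm_num) h; omega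
      · have := key 7 2 (by norm_num) h; omega
      · have := key 11 2 (by norm_num) h; omega
      · have := key 23 2 (by norm_num) h; omega
      · have := key 3 4 (by norm_num) h; omega
    obtain ⟨rfl, rfl⟩ := h4
    exact (not81 hs hn (Dvd.dvd.trans (by omega) d1) (Dvd.dvd.trans (by omega) d2)).elim
  have hF : Nat.card F = p ^ (k + 2) := by rw [← hn, Nat.card_congr e.toEquiv]
  have h5 := semi_dvd e he
  obtain ⟨A, hA⟩ := ex 2 (by omega)
  obtain ⟨S, h6, h7⟩ := idx τ.range.subtype A fun B h =>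
    let ⟨g, h⟩ := tr A B h; ⟨⟨_, (g, 1), rfl⟩, h.trans (by rw [← t1]; rfl)⟩
  have h8 : p - 1 ∣ Nat.card S := by
    rw [show p - 1 = Nat.card (ZMod p)ˣ by rw [Nat.card_units, Nat.card_zmod]]
    refine card_dvd_of_injective ((τ.rangeRestrict.comp (MonoidHom.inr _ _)).codRestrict S fun c => h6 _ ?_)
      ((injective_iff_map_eq_one _).2 fun c hc => ?_)
    · refine Submodule.eq_of_le_of_finrank_eq ?_ (LinearEquiv.finrank_map_eq _ _)
      rintro _ ⟨a, ha, rfl⟩
      exact (t2 c a).symm ▸ A.smul_mem (c : ZMod p) ha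
    · obtain ⟨v, hv⟩ := exists_ne (0 : W)
      have := DFunLike.congr_fun (congrArg (·.1.1) hc) v
      exact Units.ext (smul_left_injective _ hv ((t2 c v).symm.trans (this.trans (one_smul _ v).symm)))
  rw [card_aut hF, hn, ← S.card_mul_index, h7, hA] at h5
  have h9 := Nat.mul_dvd_mul_right ((Nat.mul_dvd_mul_right h8 _).trans h5) (p ^ 2 - 1)
  rw [mul_comm (p - 1), g2, mul_comm, mul_assoc] at h9
  have h10 := arith hp.two_le (by omega) (Nat.dvd_of_mul_dvd_mul_left
    (Nat.sub_pos_of_lt (Nat.one_lt_pow (by omega) hp.one_lt)) h9)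
  have := Fintype.ofFinite (GaloisField p (k + 2))
  let φ : F ≃+* GaloisField p (k + 2) := FiniteField.ringEquivOfCardEq (by
    rw [← Nat.card_eq_fintype_card, ← Nat.card_eq_fintype_card, GaloisField.card p _ (by omega), hF])
  refine ⟨⟨e.trans φ.toAddEquiv, fun g => ?_⟩, h10.imp ?_ ?_⟩
  · obtain ⟨a, σ, h⟩ := he ⟨_, (g, 1), rfl⟩
    have a0 : φ a ≠ 0 := fun e0 => by simpa [(map_eq_zero φ).1 e0, smul_eq_zero_iff_eq] using h (e.symm 1)
    exact ⟨Units.mk0 _ a0, (φ.symm.trans σ).trans φ, fun v =>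
      (congrArg φ ((congrArg e (DFunLike.congr_fun (t1 g) v)).symm.trans (h v))).trans (by simp)⟩
  · rintro rfl
    exact ⟨rfl, by rintro rfl; exact Dvd.dvd.trans (by omega) d1⟩
  · rintro ⟨rfl, rfl⟩
    exact ⟨rfl, rfl, Dvd.dvd.trans (by omega) d2⟩

end lin

theorem equiv_of_dvd {X Y : Type*} [Group X] [Group Y] [Finite Y] (f : X →* Y) (hf : Function.Injective f) {m : ℕ}
    (h0 : m ≠ 0) (h1 : m ∣ Nat.card X) (h2 : Nat.card Y ∣ m) : Nonempty (X ≃* Y) :=
  ⟨MulEquiv.ofBijective f ((Nat.bijective_iff_injective_and_card f).2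
    ⟨hf, Nat.dvd_antisymm (card_dvd_of_injective f hf) (h2.trans h1)⟩)⟩

/-- the conclusion for the group `X` -/
def Concl (X : Type*) [Group X] (p n : ℕ) [Fact p.Prime] : Prop :=
  (n = 3 ∧ (∃ f : X →* semiaffineGroup (GaloisField p 3), Function.Injective f) ∧
    (p = 2 → Nonempty (X ≃* semiaffineGroup (GaloisField 2 3)) ∨ Nonempty (X ≃* affineGroup (GaloisField 2 3)))) ∨
  (n = 5 ∧ p = 2 ∧ Nonempty (X ≃* semiaffineGroup (GaloisField 2 5)))

theorem core {X : Type*} [Group X] [Finite X] {p n : ℕ} [Fact p.Prime] (V : Subgroup X) [V.Normal]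
    (he : IsElementaryAbelian p V) (hcard : ♯V = p ^ n) (hn : 3 ≤ n) (hC : 𝓒(V) ≤ V) (hcop : (♯V).Coprime V.index)
    (hs : Group.IsSolvable X) (htr : ∀ A B : Subgroup X, A ≤ V → B ≤ V → ♯A = ♯B → ∃ g, B = cj g A) :
    Concl X p n := by
  obtain ⟨H, hH⟩ := exists_right_complement'_of_coprime hcop
  have := he.1
  let _ : CommGroup V := { (inferInstance : Group V) with mul_comm := mul_comm' }
  have hext : ∀ {x y : Additive V}, (x.toMul : X) = y.toMul → x = y := fun h =>
    Additive.toMul.injective (Subtype.ext h)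
  obtain ⟨_⟩ : Nonempty (Module (ZMod p) (Additive V)) :=
    ⟨AddCommGroup.zmodModule fun x => hext (he.2 _ x.toMul.2)⟩
  let _ : DistribMulAction H (Additive V) :=
    { smul := fun g v => Additive.ofMul (MulAut.conjNormal (g : X) v.toMul)
      one_smul := fun v => hext (show (1 : X) * _ * 1⁻¹ = _ by simp)
      mul_smul := fun g h v => hext (show (g * h : X) * _ * (g * h : X)⁻¹ = g * (h * _ * (h : X)⁻¹) * (g : X)⁻¹ by group)
      smul_zero := fun g => hext (show (g : X) * 1 * (g : X)⁻¹ = 1 by simp)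
      smul_add := fun g v w => congrArg Additive.ofMul (map_mul (MulAut.conjNormal (g : X)) v.toMul w.toMul) }
  have hsm : ∀ (g : H) (x : Additive V), ((g • x).toMul : X) = g * (x.toMul : X) * (g : X)⁻¹ := fun _ _ => rfl
  have dec : ∀ x : X, ∃ (v : Additive V) (h : H), (v.toMul : X) * h = x := fun x =>
    let ⟨⟨v, h⟩, e⟩ := hH.2 x
    ⟨Additive.ofMul v, h, e⟩
  have k1 : ∀ g : H, (∀ v : Additive V, g • v = v) → g = 1 := fun g e =>
    Subtype.ext (disjoint_def.1 hH.disjoint (hC fun n hn => (mul_inv_eq_iff_eq_mul.1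
      (congrArg (fun x : Additive V => (x.toMul : X)) (e (Additive.ofMul ⟨n, hn⟩)))).symm) g.2)
  have : FaithfulSMul H (Additive V) := ⟨fun {g h} e => mul_inv_eq_one.1 (k1 _ fun v => by
    rw [mul_smul, e, smul_inv_smul])⟩
  obtain ⟨⟨e, h1⟩, h2⟩ := lin (H := H) (W := Additive V) inferInstance hcard hn fun A B hAB => by
    obtain ⟨g, hg⟩ := htr (A.toSubgroup'.map V.subtype) (B.toSubgroup'.map V.subtype) (map_subtype_le _)
      (map_subtype_le _) (by rw [card_subtype, card_subtype]; exact hAB)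
    obtain ⟨v, h, rfl⟩ := dec g
    have k : ∀ a : Additive V, ((h • a).toMul : X) = v.toMul * h * (a.toMul : X) * (v.toMul * h : X)⁻¹ := fun a => by
      have := congrArg Subtype.val (mul_comm v.toMul (h • a).toMul)
      rw [coe_mul, coe_mul, hsm] at this
      rw [hsm, mul_inv_rev, ← mul_assoc, eq_mul_inv_iff_mul_eq, ← this]
      group
    refine ⟨h, fun w => ⟨fun hw => ?_, ?_⟩⟩
    · obtain ⟨_, ⟨a, ha, rfl⟩, h3⟩ := hg.le ⟨w.toMul, hw, rfl⟩
      exact ⟨Additive.ofMul a, ha, hext ((k _).trans h3)⟩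
    · rintro ⟨a, ha, rfl⟩
      obtain ⟨b, hb, h3⟩ := hg.ge (conj_mem_cj.2 ⟨a.toMul, ha, rfl⟩)
      exact (show Additive.ofMul b = h • a from hext (h3.trans (k a).symm)) ▸ hb
  let E : Additive V ≃ X ⧸ H := Equiv.ofBijective (fun v => ((v.toMul : X) : X ⧸ H)) ⟨fun v w h =>
    hext (inv_mul_eq_one.1 (disjoint_def.1 hH.disjoint (V.mul_mem (V.inv_mem v.toMul.2) w.toMul.2)
      (QuotientGroup.eq.1 h))), fun b => by
      obtain ⟨x, rfl⟩ := QuotientGroup.mk_surjective b
      obtain ⟨v, h, rfl⟩ := dec x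
      exact ⟨v, (QuotientGroup.mk_mul_of_mem _ h.2).symm⟩⟩
  have hE : ∀ (v w : Additive V) (h : H), ((v.toMul : X) * h) • E w = E (v + h • w) := fun v w h =>
    QuotientGroup.eq.2 (by
      change ((v.toMul : X) * h * w.toMul)⁻¹ * (v.toMul * (h * w.toMul * (h : X)⁻¹)) ∈ H
      simp [mul_assoc])
  let σ := (E.symm.trans e.toEquiv).permCongrHom.toMonoidHom.comp (MulAction.toPermHom X (X ⧸ H))
  have hσ : ∀ (v : Additive V) (h : H) (y : GaloisField p n), σ (v.toMul * h) y = e (h • e.symm y) + e v :=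
    fun v h y => by
      change e (E.symm (((v.toMul : X) * h) • E (e.symm y))) = _
      rw [hE, E.symm_apply_apply, map_add, add_comm]
  let f : X →* semiaffineGroup (GaloisField p n) := σ.codRestrict _ fun x => by
    obtain ⟨v, h, rfl⟩ := dec x
    obtain ⟨a, φ, h3⟩ := h1 h
    exact ⟨a, e v, φ, fun y => by rw [hσ, h3, e.apply_symm_apply]⟩
  have hf : Function.Injective f := (injective_iff_map_eq_one f).2 fun x hx => by
    obtain ⟨v, h, rfl⟩ := dec x
    have h3 : ∀ w, h • w + v = w := fun w => e.injective (by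
      have := (hσ v h (e w)).symm.trans (DFunLike.congr_fun (congrArg Subtype.val hx) (e w))
      rwa [e.symm_apply_apply, ← map_add] at this)
    obtain rfl : v = 0 := by simpa using h3 0
    rw [k1 h fun w => by simpa using h3 w]
    simp
  have h4 := hH.card_mul_card
  have h5 := card_semi_dvd (F := GaloisField p n)
  have h6 := GaloisField.card p n (by omega)
  rw [card_aut h6, h6] at h5
  rw [hcard] at h4
  rcases h2 with ⟨rfl, h2⟩ | ⟨rfl, rfl, h2⟩
  · refine .inl ⟨rfl, ⟨f, hf⟩, ?_⟩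
    rintro rfl
    by_cases h3 : 3 ∣ Nat.card X
    · exact .inl (equiv_of_dvd f hf (by norm_num) (by have := h2 rfl; omega) h5)
    refine .inr (equiv_of_dvd (((semiaffineGroup _).subtype.comp f).codRestrict _ fun x => ?_)
      (fun x y h => hf (Subtype.ext (congrArg (fun z : affineGroup (GaloisField 2 3) => z.1) h))) (m := 56) (by norm_num) (by have := h2 rfl; omega)
      (by rw [card_aff, h6]; norm_num))
    refine mem_subgroupOf.1 (ker_pi.le (orderOf_eq_one_iff.1 (Nat.eq_one_of_dvd_coprimes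
      ((Nat.prime_three.coprime_iff_not_dvd).2 h3) ((_root_.orderOf_dvd_natCard _).trans (card_aut h6).dvd) ?_)))
    exact ((orderOf_map_dvd _ _).trans (orderOf_map_dvd _ _)).trans (_root_.orderOf_dvd_natCard x)
  · exact .inr ⟨rfl, rfl, equiv_of_dvd f hf (by norm_num) (by omega) h5⟩

open CA.EqO in
theorem core' {X : Type*} [Group X] [Finite X] {p n : ℕ} [Fact p.Prime] {V : Subgroup X} [V.Normal] (hD : DP p X)
    (hV : Syl p V ⊤) (he : IsElementaryAbelian p V) (hcard : ♯V = p ^ n) (hn : 3 ≤ n) (h0 : pPrimeCore p X = ⊥)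
    (hs : Group.IsSolvable X) : Concl X p n := by
  have hp : p.Prime := Fact.out
  have h1 := cent_pcore_le (H := (⊤ : Subgroup X)) hp inferInstance ((core_p'_top hp).trans h0)
  rw [← hV.eq_core (top_norm V ⊤), top_inf_eq] at h1
  exact core V he hcard hn h1 (relIndex_top_right V ▸ hV.pi.nat.coprime hV.idx) hs
    fun A B hA _ => hD A B (hV.pi.of_le hA)

open CA.EqO in
theorem DP.norm {G : Type*} [Group G] [Finite G] {p : ℕ} (hp : p.Prime) {P : Subgroup G} (h : DP p G)
    (hP : Syl p P ⊤) (hc : IsMulCommutative P) : DP p 𝓝(P) := fun A B hA e => by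
  have k : ∀ A : Subgroup 𝓝(P), IsPi {p} A → A.map 𝓝(P).subtype ≤ P := fun A hA =>
    hP.le_of_norm (pi_map hA _) le_top (map_subtype_le A)
  have hB := k B (isPi_iff.2 (e ▸ hA.nat))
  obtain ⟨g, h1⟩ := h _ (B.map 𝓝(P).subtype) (pi_map hA _) (by rw [card_subtype, card_subtype, e])
  have h2 : P ≤ 𝓒(B.map 𝓝(P).subtype) := cent_of_comm hc le_rfl hB
  have h3 : cj g P ≤ 𝓒(B.map 𝓝(P).subtype) :=
    cent_of_comm ((isComm_cj g).2 hc) le_rfl (h1.le.trans (cj_mono g (k A hA)))
  have h4 := hP.cj g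
  rw [cj_top] at h4
  obtain ⟨c, h5, h6⟩ := (h4.of_le h3 le_top).syl_conj hp (hP.of_le h2 le_top)
  refine ⟨⟨c * g, mem_norm_iff_cj.2 (by rw [cj_mul, h6])⟩, map_injective 𝓝(P).subtype_injective ?_⟩
  rw [map_cj, subtype_apply, cj_mul, ← h1, cj_of_mem_norm (cent_le_norm _ h5)]

end CA.EqAff
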