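import Cfsg.Agent.S0126
import Cfsg.Agent.Lib.Odd.BG4x1
import Cfsg.Agent.Lib.Grp.PGBasic

set_option autoImplicit false
open Subgroup
open scoped commutatorElement

/-! Orbits without fixed points of a normal `q`-element (Isaacs–Navarro–Wolf, odd case). -/

namespace CA.H29Van
universe u

section basic
variable {G V : Type*} [Group G] [AddCommGroup V] [DistribMulAction G V]

/-- vectors fixed by `B` -/
def fx (V : Type*) [AddCommGroup V] [DistribMulAction G V] (B : Subgroup G) : AddSubgroup V where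
  carrier := {w | ∀ b ∈ B, b • w = w}
  add_mem' := fun {a b} ha hb c hc => by rw [smul_add, ha c hc, hb c hc]
  zero_mem' := fun c _ => smul_zero c
  neg_mem' := fun {a} ha c hc => by rw [smul_neg, ha c hc]

theorem mem_fx {B : Subgroup G} {w : V} : w ∈ fx V B ↔ ∀ b ∈ B, b • w = w := Iff.rfl

/-- the norm map of `B` -/
noncomputable def sB [Finite G] (B : Subgroup G) : V →+ V :=
  haveI := Fintype.ofFinite B
  { toFun := fun v => ∑ b : B, (b : G) • v
    map_zero' := by simp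
    map_add' := fun a b => by simp [smul_add, Finset.sum_add_distrib] }

variable [Finite G]

theorem sB_fix {B : Subgroup G} {v : V} (h : ∀ b ∈ B, b • v = v) : sB B v = Nat.card B • v := by
  classical
  letI := Fintype.ofFinite B
  change ∑ b : B, (b : G) • v = _
  rw [Finset.sum_congr rfl (fun (b : B) _ => h b b.2)]
  simp [Nat.card_eq_fintype_card]

theorem smul_sB_mem {B : Subgroup G} {c : G} (hc : c ∈ B) (v : V) : c • sB B v = sB B v := by
  classical
  letI := Fintype.ofFinite B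
  change c • ∑ b : B, (b : G) • v = ∑ b : B, (b : G) • v
  rw [Finset.smul_sum]
  exact Fintype.sum_equiv (Equiv.mulLeft (⟨c, hc⟩ : B)) _ _ (fun b => by simp [mul_smul])

theorem smul_sB_comm {B : Subgroup G} {c : G} (hc : ∀ b ∈ B, c * b = b * c) (v : V) :
    c • sB B v = sB B (c • v) := by
  classical
  letI := Fintype.ofFinite B
  change c • ∑ b : B, (b : G) • v = ∑ b : B, (b : G) • c • v
  rw [Finset.smul_sum]
  exact Finset.sum_congr rfl (fun b _ => by rw [← mul_smul, ← mul_smul, hc b b.2])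

theorem sB_smul_mem {B : Subgroup G} {c : G} (hc : c ∈ B) (v : V) : sB B (c • v) = sB B v := by
  classical
  letI := Fintype.ofFinite B
  change ∑ b : B, (b : G) • c • v = ∑ b : B, (b : G) • v
  exact Fintype.sum_equiv (Equiv.mulRight (⟨c, hc⟩ : B)) _ _ (fun b => by simp [mul_smul])

theorem smul_sB_normal {B : Subgroup G} [hB : B.Normal] (c : G) (v : V) :
    c • sB B v = sB B (c • v) := by
  classical
  letI := Fintype.ofFinite B
  change c • ∑ b : B, (b : G) • v = ∑ b : B, (b : G) • c • v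
  rw [Finset.smul_sum]
  exact Fintype.sum_equiv (MulAut.conjNormal c : MulAut B).toEquiv _ _
    (fun b => by simp [← mul_smul])

omit [Finite G] in
theorem tors {q : ℕ} [Finite V] (hc : q.Coprime (Nat.card V)) (n : ℕ) {v : V}
    (h : q ^ n • v = 0) : v = 0 := by
  have h1 : addOrderOf v ∣ q ^ n := addOrderOf_dvd_of_nsmul_eq_zero h
  have h2 : addOrderOf v ∣ Nat.card V := addOrderOf_dvd_natCard v
  have h3 : addOrderOf v = 1 :=
    Nat.eq_one_of_dvd_coprimes (Nat.Coprime.pow_left n hc) h1 h2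
  exact AddMonoid.addOrderOf_eq_one_iff.1 h3

theorem tors_card {q : ℕ} [Fact q.Prime] [Finite V] (hc : q.Coprime (Nat.card V)) {Q B : Subgroup G}
    (hQ : IsPGroup q Q) (hB : B ≤ Q) {v : V} (h : Nat.card B • v = 0) : v = 0 := by
  obtain ⟨n, hn⟩ := IsPGroup.iff_card.1 (hQ.to_le hB)
  exact tors hc n (hn ▸ h)

/-- norm of an element -/
def nm (q : ℕ) (x : G) (w : V) : V := ∑ j ∈ Finset.range q, x ^ j • w

omit [Finite G] in
theorem smul_nm {q : ℕ} {x : G} (hx : x ^ q = 1) (w : V) : x • nm q x w = nm q x w := by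
  unfold nm
  rw [Finset.smul_sum]
  have h1 := Finset.sum_range_succ (fun j => x ^ j • w) q
  have h2 := Finset.sum_range_succ' (fun j => x ^ j • w) q
  simp only [hx, pow_zero] at h1 h2
  rw [h1] at h2
  have h3 := add_right_cancel h2
  rw [h3]
  exact Finset.sum_congr rfl (fun j _ => by rw [← mul_smul, ← pow_succ'])

omit [Finite G] in
theorem smul_nm_comm {q : ℕ} {x c : G} (hx : Commute c x) {w : V} (hw : c • w = w) :
    c • nm q x w = nm q x w := by
  unfold nm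
  rw [Finset.smul_sum]
  exact Finset.sum_congr rfl (fun j _ => by
    rw [← mul_smul, (hx.pow_right j).eq, mul_smul, hw])

omit [Finite G] in
theorem exists_nm_ne {q : ℕ} [Finite V] (hc : q.Coprime (Nat.card V)) (hq : 0 < q) {z d : G}
    (hz : z ^ q = 1) (hzf : ∀ j, 0 < j → j < q → ∀ v : V, z ^ j • v = v → v = 0)
    (hdz : Commute d z) {w : V} (hw : w ≠ 0) : ∃ i : ℕ, nm q (d * z ^ i) w ≠ 0 := by
  by_contra hcon
  push Not at hcon
  have h1 : ∑ i ∈ Finset.range q, nm q (d * z ^ i) w = 0 := Finset.sum_eq_zero fun i _ => hcon i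
  have h2 : ∑ i ∈ Finset.range q, nm q (d * z ^ i) w =
      ∑ j ∈ Finset.range q, d ^ j • nm q (z ^ j) w := by
    unfold nm
    rw [Finset.sum_comm]
    refine Finset.sum_congr rfl fun j _ => ?_
    rw [Finset.smul_sum]
    refine Finset.sum_congr rfl fun i _ => ?_
    rw [(hdz.pow_right i).mul_pow, mul_smul, ← pow_mul, ← pow_mul, mul_comm]
  rw [h2, Finset.sum_eq_single 0] at h1
  · apply hw
    apply tors hc 1
    simpa [nm] using h1
  · intro j hj hj0
    have : nm q (z ^ j) w = 0 := by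
      apply hzf j (Nat.pos_of_ne_zero hj0) (Finset.mem_range.1 hj)
      apply smul_nm
      rw [← pow_mul, mul_comm, pow_mul, hz, one_pow]
    rw [this, smul_zero]
  · intro h; exact absurd (Finset.mem_range.2 hq) h

theorem exists_max [Finite V] (D : Subgroup G) {v0 : V} (h0 : v0 ≠ 0) :
    ∃ w : V, w ≠ 0 ∧ ∀ w' : V, w' ≠ 0 →
      Nat.card ↥(D ⊓ MulAction.stabilizer G w') ≤ Nat.card ↥(D ⊓ MulAction.stabilizer G w) := by
  obtain ⟨w, hw, hm⟩ := Set.exists_max_image {w : V | w ≠ 0}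
    (fun w => Nat.card ↥(D ⊓ MulAction.stabilizer G w)) (Set.toFinite _) ⟨v0, h0⟩
  exact ⟨w, hw, hm⟩

theorem mem_of_max {D : Subgroup G} {w : V} (hm : ∀ w' : V, w' ≠ 0 →
      Nat.card ↥(D ⊓ MulAction.stabilizer G w') ≤ Nat.card ↥(D ⊓ MulAction.stabilizer G w))
    {s : V} (hs : s ≠ 0) (hBs : ∀ b ∈ D ⊓ MulAction.stabilizer G w, b • s = s) {d : G} (hd : d ∈ D)
    (hds : d • s = s) : d ∈ D ⊓ MulAction.stabilizer G w := by
  have hle : D ⊓ MulAction.stabilizer G w ≤ D ⊓ MulAction.stabilizer G s :=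
    fun b hb => ⟨hb.1, hBs b hb⟩
  rw [CA.PGBasic.eq_of_le_of_card_le hle (hm s hs)]
  exact ⟨hd, hds⟩

omit [Finite G] in
theorem card_inf_stab_smul (D : Subgroup G) [hD : D.Normal] (g : G) (w : V) :
    Nat.card ↥(D ⊓ MulAction.stabilizer G (g • w)) = Nat.card ↥(D ⊓ MulAction.stabilizer G w) := by
  refine Nat.card_congr ⟨fun x => ⟨g⁻¹ * x * g, ?_, ?_⟩, fun x => ⟨g * x * g⁻¹, ?_, ?_⟩, ?_, ?_⟩
  · simpa using hD.conj_mem _ x.2.1 g⁻¹
  · have : (x : G) • g • w = g • w := x.2.2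
    change (g⁻¹ * x * g) • w = w
    rw [mul_smul, mul_smul, this, inv_smul_smul]
  · exact hD.conj_mem _ x.2.1 g
  · have : (x : G) • w = w := x.2.2
    change (g * x * g⁻¹) • g • w = g • w
    rw [mul_smul, inv_smul_smul, mul_smul, this]
  · intro x; ext; simp [mul_assoc]
  · intro x; ext; simp [mul_assoc]

omit [Finite G] in
theorem fix_ncl {y : G} {w : V} (h : ∀ g : G, y • g • w = g • w) :
    ∀ u ∈ normalClosure ({y} : Set G), u • w = w := by
  let K : Subgroup G :=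
    { carrier := {u | ∀ g : G, u • g • w = g • w}
      mul_mem' := fun {a b} ha hb g => by rw [mul_smul, hb g, ha g]
      one_mem' := fun g => one_smul _ _
      inv_mem' := fun {a} ha g => by rw [inv_smul_eq_iff, ha g] }
  have hK : K.Normal := ⟨fun n hn g g' => by
    have := hn (g⁻¹ * g')
    rw [mul_smul, mul_smul, ← mul_smul g⁻¹, this, mul_smul, smul_inv_smul]⟩
  intro u hu
  have : u ∈ K := normalClosure_le_normal (Set.singleton_subset_iff.2 (show y ∈ K from h)) hu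
  simpa using this 1

/-- Case 1: a central element of `Q` has a nonzero fixed vector. -/
theorem case1 [Finite V] [FaithfulSMul G V] {q : ℕ} [Fact q.Prime] (hc : q.Coprime (Nat.card V))
    {Q : Subgroup G} [Q.Normal] (hQ : IsPGroup q Q) {y : G} (hyQ : y ∈ Q)
    (F0 : ∀ w : V, (∀ g : G, y • g • w = g • w) → w = 0)
    (IH : ∀ (H : Subgroup G) (W : AddSubgroup V), Q ≤ H → W ≠ ⊤ → (∀ h ∈ H, ∀ w ∈ W, h • w ∈ W) →
      (∃ w ∈ W, y • w ≠ w) → ∃ w ∈ W, ∀ h ∈ H, y • h • w ≠ h • w)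
    {a : G} (ha : a ∈ Q ⊓ centralizer (Q : Set G)) (ha1 : a ≠ 1) {w1 : V} (hw1 : w1 ≠ 0)
    (haw : a • w1 = w1) : ∃ v : V, ∀ g : G, y • g • v ≠ g • v := by
  classical
  set A := Q ⊓ centralizer (Q : Set G) with hA
  haveI hAn : A.Normal := inferInstance
  obtain ⟨w2, hw2, hm2⟩ := exists_max A hw1
  obtain ⟨g0, hg0⟩ : ∃ g : G, y • g • w2 ≠ g • w2 := by
    by_contra hcon; push Not at hcon; exact hw2 (F0 _ hcon)
  set w0 := g0 • w2 with hw0
  have hm : ∀ w' : V, w' ≠ 0 → Nat.card ↥(A ⊓ MulAction.stabilizer G w') ≤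
      Nat.card ↥(A ⊓ MulAction.stabilizer G w0) := fun w' h => by
    rw [hw0, card_inf_stab_smul]; exact hm2 w' h
  set B := A ⊓ MulAction.stabilizer G w0 with hB
  have hBA : B ≤ A := inf_le_left
  have hAQ : ∀ b ∈ A, ∀ u ∈ Q, u * b = b * u := fun b hb u hu => hb.2 u hu
  have hBne : B ≠ ⊥ := by
    intro h
    have h1 := hm w1 hw1
    rw [h, card_bot] at h1
    have h2 : A ⊓ MulAction.stabilizer G w1 = ⊥ := eq_bot_of_card_le _ h1
    have : a ∈ A ⊓ MulAction.stabilizer G w1 := ⟨ha, haw⟩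
    rw [h2] at this
    exact ha1 (mem_bot.1 this)
  set H := normalizer (B : Set G) with hH
  have hQH : Q ≤ H := fun u hu => by
    rw [hH, mem_normalizer_iff]
    intro b
    constructor
    · intro hb; rw [hAQ b (hBA hb) u hu, mul_inv_cancel_right]; exact hb
    · intro hb
      have := hAQ _ (hBA hb) u hu
      have h2 : u * b * u⁻¹ = b := by
        have h3 : u * (u * b * u⁻¹) = u * b := by rw [this]; group
        exact mul_left_cancel h3
      rwa [h2] at hb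
  have hWtop : fx V B ≠ ⊤ := by
    intro h
    apply hBne
    rw [eq_bot_iff]
    intro b hb
    rw [mem_bot]
    apply eq_of_smul_eq_smul (α := V)
    intro v
    rw [one_smul]
    exact (h ▸ AddSubgroup.mem_top v : v ∈ fx V B) b hb
  have hinv : ∀ h ∈ H, ∀ w ∈ fx V B, h • w ∈ fx V B := fun h hh w hw b hb => by
    have : h⁻¹ * b * h⁻¹⁻¹ ∈ B := (mem_normalizer_iff.1 (H.inv_mem hh) b).1 hb
    have h2 := hw _ this
    rw [inv_inv, mul_smul, mul_smul, inv_smul_eq_iff] at h2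
    exact h2
  obtain ⟨w, hw, hwy⟩ := IH H (fx V B) hQH hWtop hinv ⟨w0, fun b hb => hb.2, hg0⟩
  have hterm : ∀ u : G, u ∉ H → sB B (u • w) = 0 := by
    intro u hu
    by_contra hs
    apply hu
    have hle : ∀ b ∈ B, u * b * u⁻¹ ∈ B := by
      intro b hb
      have hA' : u * b * u⁻¹ ∈ A := hAn.conj_mem _ (hBA hb) u
      refine mem_of_max hm hs (fun b' hb' => smul_sB_mem hb' _) hA' ?_
      rw [smul_sB_comm (fun b' hb' => hAQ _ (hBA hb') _ hA'.1)]
      rw [mul_smul, inv_smul_smul, mul_smul, hw b hb]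
    rw [hH]
    exact mem_normalizer_fintype hle
  letI := Fintype.ofFinite (G ⧸ H)
  refine ⟨∑ t : G ⧸ H, t.out • w, fun g hg => ?_⟩
  set t0 : G ⧸ H := QuotientGroup.mk g⁻¹ with ht0
  have hh0 : g * t0.out ∈ H := by
    have : (QuotientGroup.mk g⁻¹ : G ⧸ H) = QuotientGroup.mk t0.out := by rw [QuotientGroup.out_eq']
    simpa using QuotientGroup.eq.1 this
  have key : sB B (g • ∑ t : G ⧸ H, t.out • w) = Nat.card B • (g * t0.out) • w := by
    rw [Finset.smul_sum, map_sum, Finset.sum_eq_single t0]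
    · rw [← mul_smul]; exact sB_fix (hinv _ hh0 w hw)
    · intro t _ ht
      rw [← mul_smul]
      apply hterm
      intro h
      apply ht
      rw [ht0, ← QuotientGroup.out_eq' t]
      symm
      exact QuotientGroup.eq.2 (by simpa using h)
    · intro h; exact absurd (Finset.mem_univ _) h
  have h1 := congrArg (sB B) hg
  rw [← smul_sB_comm (fun b hb => hAQ b (hBA hb) y hyQ), key, smul_comm, ← sub_eq_zero,
    ← smul_sub] at h1
  exact hwy _ hh0 (sub_eq_zero.1 (tors_card hc hQ (hBA.trans inf_le_left) h1))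

/-- Case 2: the centre of `Q` acts without fixed points. -/
theorem case2 [Finite V] {q : ℕ} [hq : Fact q.Prime] (hq2 : q ≠ 2) (hc : q.Coprime (Nat.card V))
    {Q A E : Subgroup G} (hQ : IsPGroup q Q) (hEQ : E ≤ Q)
    (hAf : ∀ a ∈ A, ∀ v : V, v ≠ 0 → a • v = v → a = 1)
    (hAQ : ∀ a ∈ A, ∀ u ∈ Q, u * a = a * u)
    (hEA : ∀ e ∈ E, ∀ u ∈ Q, ⁅e, u⁆ ∈ A) (hEE : ∀ e ∈ E, ∀ u ∈ Q, ⁅e, u⁆ ∈ E)
    (hEq : ∀ e ∈ E, e ^ q = 1) {z : G} (hzE : z ∈ E) (hzA : z ∈ A) (hz : orderOf z = q)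
    {v0 : V} (h0 : v0 ≠ 0) :
    ∃ v : V, ∀ k ∈ Q, k • v = v → ∀ e ∈ E, k * e = e * k := by
  classical
  -- a maximal abelian subgroup of `E`
  obtain ⟨D, ⟨hDE, hDc⟩, hDm⟩ := Set.exists_max_image
    {D : Subgroup G | D ≤ E ∧ IsMulCommutative D} (fun D => Nat.card D) (Set.toFinite _)
    ⟨⊥, bot_le, inferInstance⟩
  have hDD : ∀ a ∈ D, ∀ b ∈ D, a * b = b * a := CA.PGBasic.isMulCommutative_iff.1 hDc
  set C := centralizer (D : Set G) with hC
  have hCm : ∀ {u : G}, u ∈ C ↔ ∀ d ∈ D, d * u = u * d := fun {u} => mem_centralizer_iff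
  have hDC : D ≤ C := fun d hd => hCm.2 fun a ha => hDD a ha d hd
  have hCE : ∀ e ∈ E, e ∈ C → e ∈ D := by
    intro e he heC
    have h1 := hDm (D ⊔ zpowers e) ⟨sup_le hDE (zpowers_le.2 he),
      CA.PGBasic.isMulCommutative_sup_zpowers heC⟩
    rw [CA.PGBasic.eq_of_le_of_card_le (le_sup_left : D ≤ D ⊔ zpowers e) h1]
    exact mem_sup_right (mem_zpowers e)
  have hAD : ∀ a ∈ A, a ∈ E → a ∈ D := fun a ha haE =>
    hCE a haE (hCm.2 fun d hd => hAQ a ha d (hEQ (hDE hd)))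
  have hzD : z ∈ D := hAD z hzA hzE
  have hDn : ∀ u ∈ Q, ∀ d ∈ D, u * d * u⁻¹ ∈ D := by
    intro u hu d hd
    have h1 : ⁅d, u⁆ ∈ D := hAD _ (hEA d (hDE hd) u hu) (hEE d (hDE hd) u hu)
    have h2 : u * d * u⁻¹ = ⁅d, u⁆⁻¹ * d := by simp only [commutatorElement_def]; group
    rw [h2]; exact D.mul_mem (D.inv_mem h1) hd
  have hCn : ∀ u ∈ Q, ∀ c ∈ C, u * c * u⁻¹ ∈ C := by
    intro u hu c hcC
    refine hCm.2 fun d hd => ?_
    have h1 := hCm.1 hcC _ (hDn u⁻¹ (Q.inv_mem hu) d hd)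
    rw [inv_inv] at h1
    calc d * (u * c * u⁻¹) = u * (u⁻¹ * d * u * c) * u⁻¹ := by group
      _ = u * (c * (u⁻¹ * d * u)) * u⁻¹ := by rw [h1]
      _ = _ := by group
  obtain ⟨w, hw, hm⟩ := exists_max D h0
  set B := D ⊓ MulAction.stabilizer G w with hB
  have hBD : B ≤ D := inf_le_left
  have hBw : ∀ b ∈ B, b • w = w := fun b hb => hb.2
  have hzq : z ^ q = 1 := hz ▸ pow_orderOf_eq_one z
  have hDB : ∀ d ∈ D, ∃ i : ℕ, d * z ^ i ∈ B := by
    intro d hd
    have hdz : Commute d z := hDD d hd z hzD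
    obtain ⟨i, hi⟩ := exists_nm_ne hc hq.out.pos hzq (fun j hj hjq v hv => by
      by_contra hv0
      have h1 := hAf _ (A.pow_mem hzA j) v hv0 hv
      have h2 := orderOf_dvd_of_pow_eq_one h1
      rw [hz] at h2
      exact absurd (Nat.le_of_dvd hj h2) (by omega)) hdz hw
    have hx : d * z ^ i ∈ D := D.mul_mem hd (D.pow_mem hzD i)
    exact ⟨i, mem_of_max hm hi (fun b hb => smul_nm_comm (hDD b (hBD hb) _ hx) (hBw b hb)) hx
      (smul_nm (hEq _ (hDE hx)) w)⟩
  have hCB : ∀ u ∈ Q, (∀ b ∈ B, b * u = u * b) → u ∈ C := by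
    intro u hu h
    refine hCm.2 fun d hd => ?_
    obtain ⟨i, hi⟩ := hDB d hd
    have h1 := h _ hi
    have h2 := hAQ _ (A.pow_mem hzA i) u hu
    calc d * u = d * (u * z ^ i) * (z ^ i)⁻¹ := by group
      _ = d * z ^ i * u * (z ^ i)⁻¹ := by rw [h2]; group
      _ = u * d := by rw [h1]; group
  have hcomm : ∀ u ∈ Q, ∀ s : V, s ≠ 0 → (∀ b ∈ B, b • s = s) →
      (∀ b ∈ B, (u * b * u⁻¹) • s = s) → u ∈ C := by
    intro u hu s hs h1 h2
    refine hCB u hu fun b hb => ?_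
    have h3 : ⁅b, u⁆ = 1 := by
      refine hAf _ (hEA b (hDE (hBD hb)) u hu) s hs ?_
      have : ⁅b, u⁆ = b * (u * b⁻¹ * u⁻¹) := by simp only [commutatorElement_def]; group
      rw [this, mul_smul, h2 _ (B.inv_mem hb), h1 b hb]
    exact commutatorElement_eq_one_iff_mul_comm.1 h3
  by_cases hED : E ≤ D
  · refine ⟨w, fun k hk hkw e he => ?_⟩
    have : k ∈ C := hcomm k hk w hw hBw fun b hb => by
      rw [mul_smul, inv_smul_eq_iff.2 hkw.symm, mul_smul, hBw b hb, hkw]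
    exact (hCm.1 this e (hED he)).symm
  obtain ⟨e0, he0, he0D⟩ := SetLike.not_le_iff_exists.1 hED
  have hBQ : B ≤ Q := hBD.trans (hDE.trans hEQ)
  have hterm0 : ∀ u ∈ Q, u ∉ C → sB B (u • w) = 0 := by
    intro u hu huC
    by_contra hs
    refine huC (hcomm u hu _ hs (fun b hb => smul_sB_mem hb _) fun b hb => ?_)
    rw [smul_sB_comm (fun b' hb' => hDD _ (hDn u hu b (hBD hb)) _ (hBD hb')), mul_smul,
      inv_smul_smul, mul_smul, hBw b hb]
  have hterm1 : ∀ u ∈ C, sB B (u • w) = Nat.card B • u • w := by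
    intro u huC
    refine sB_fix fun b hb => ?_
    rw [← mul_smul, hCm.1 huC b (hBD hb), mul_smul, hBw b hb]
  set D' := D.subgroupOf E with hD'
  letI := Fintype.ofFinite (E ⧸ D')
  let o : E ⧸ D' := QuotientGroup.mk 1
  let v : V := ∑ t : E ⧸ D', if t = o then 0 else ((t.out : E) : G) • w
  have hF : ∀ u : G, sB B (u⁻¹ • v) =
      ∑ t : E ⧸ D', if t = o then 0 else sB B ((u⁻¹ * (t.out : E)) • w) := by
    intro u
    simp only [v]
    rw [Finset.smul_sum, map_sum]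
    refine Finset.sum_congr rfl fun t _ => ?_
    split_ifs
    · simp
    · rw [mul_smul]
  have hout : ∀ t : E ⧸ D', t ≠ o → ((t.out : E) : G) ∉ D := by
    intro t ht h
    apply ht
    rw [← QuotientGroup.out_eq' t]
    exact QuotientGroup.eq.2 (by simpa [hD', mem_subgroupOf] using h)
  have hF0 : ∀ u ∈ Q, (∀ e ∈ E, e ∉ D → u⁻¹ * e ∉ C) → sB B (u⁻¹ • v) = 0 := by
    intro u hu h
    rw [hF]
    refine Finset.sum_eq_zero fun t _ => ?_
    split_ifs with ht
    · rfl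
    · exact hterm0 _ (Q.mul_mem (Q.inv_mem hu) (hEQ t.out.2)) (h _ t.out.2 (hout t ht))
  have hF1 : ∀ e ∈ E, e ∉ D → ∃ d ∈ D, ∀ u ∈ Q, u⁻¹ * e ∈ C →
      sB B (u⁻¹ • v) = Nat.card B • (u⁻¹ * (e * d)) • w := by
    intro e he heD
    set t0 : E ⧸ D' := QuotientGroup.mk ⟨e, he⟩ with ht0
    have h1 : (⟨e, he⟩ : E)⁻¹ * t0.out ∈ D' :=
      QuotientGroup.eq.1 (by rw [QuotientGroup.out_eq'])
    have h2 : e⁻¹ * ((t0.out : E) : G) ∈ D := by simpa [hD', mem_subgroupOf] using h1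
    refine ⟨_, h2, fun u hu huC => ?_⟩
    have ht0o : t0 ≠ o := by
      intro h
      have := QuotientGroup.eq.1 h
      apply heD
      simpa [hD', mem_subgroupOf] using this
    rw [hF, Finset.sum_eq_single t0]
    · rw [if_neg ht0o, mul_inv_cancel_left, hterm1]
      have : u⁻¹ * ((t0.out : E) : G) = (u⁻¹ * e) * (e⁻¹ * ((t0.out : E) : G)) := by group
      rw [this]; exact C.mul_mem huC (hDC h2)
    · intro t _ ht
      split_ifs with hto
      · rfl
      · refine hterm0 _ (Q.mul_mem (Q.inv_mem hu) (hEQ t.out.2)) fun h => ht ?_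
        have h3 : e⁻¹ * ((t.out : E) : G) ∈ C := by
          have : e⁻¹ * ((t.out : E) : G) = (u⁻¹ * e)⁻¹ * (u⁻¹ * ((t.out : E) : G)) := by group
          rw [this]; exact C.mul_mem (C.inv_mem huC) h
        have h4 := hCE _ (E.mul_mem (E.inv_mem he) t.out.2) h3
        rw [ht0, ← QuotientGroup.out_eq' t]
        symm
        exact QuotientGroup.eq.2 (by simpa [hD', mem_subgroupOf] using h4)
    · intro h; exact absurd (Finset.mem_univ _) h
  have hne : ∀ x : G, Nat.card B • x • w ≠ 0 := fun x h =>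
    hw ((smul_eq_zero_iff_eq x).1 (tors_card hc hQ hBQ h))
  refine ⟨v, fun k hk hkv => ?_⟩
  have hFk : ∀ u : G, sB B ((k * u)⁻¹ • v) = sB B (u⁻¹ • v) := fun u => by
    rw [mul_inv_rev, mul_smul, inv_smul_eq_iff.2 hkv.symm]
  have hA1 : ∀ e ∈ E, e ∉ D → k⁻¹ * e ∉ C := by
    intro e he heD h
    obtain ⟨d, hd, h1⟩ := hF1 e he heD
    have h2 := h1 k hk h
    have h3 := hFk 1
    rw [mul_one, h2, hF0 1 Q.one_mem (fun e' he' he'D h' => he'D (hCE e' he' (by simpa using h')))]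
      at h3
    exact hne _ h3
  have hkC : k ∈ C := by
    have h1 : ¬ ∀ e ∈ E, e ∉ D → (k * e0)⁻¹ * e ∉ C := by
      intro h
      have h2 := hF0 _ (Q.mul_mem hk (hEQ he0)) h
      obtain ⟨d, hd, h3⟩ := hF1 e0 he0 he0D
      rw [hFk, h3 e0 (hEQ he0) (by simpa using C.one_mem)] at h2
      exact hne _ h2
    push Not at h1
    obtain ⟨e, he, heD, h2⟩ := h1
    have h3 := hCn e0 (hEQ he0) _ h2
    have h4 : e0 * ((k * e0)⁻¹ * e) * e0⁻¹ = k⁻¹ * (e * e0⁻¹) := by group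
    rw [h4] at h3
    have h5 : e * e0⁻¹ ∈ D := by
      by_contra h
      exact hA1 _ (E.mul_mem he (E.inv_mem he0)) h h3
    have h6 : k⁻¹ ∈ C := by
      have := C.mul_mem h3 (C.inv_mem (hDC h5))
      rwa [mul_inv_cancel_right] at this
    simpa using C.inv_mem h6
  have hfix : ∀ e ∈ E, e ∉ D → (e⁻¹ * k * e) • w = w := by
    intro e he heD
    obtain ⟨d, hd, h1⟩ := hF1 e he heD
    have hc1 : e⁻¹ * k * e ∈ C := by simpa using hCn e⁻¹ (Q.inv_mem (hEQ he)) k hkC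
    have h2 := h1 (k * e) (Q.mul_mem hk (hEQ he)) (by
      have : (k * e)⁻¹ * e = (e⁻¹ * k * e)⁻¹ := by group
      rw [this]; exact C.inv_mem hc1)
    have h3 := h1 e (hEQ he) (by simpa using C.one_mem)
    rw [hFk, h3, ← sub_eq_zero, ← smul_sub] at h2
    have h4 := sub_eq_zero.1 (tors_card hc hQ hBQ h2)
    have h5 : (k * e)⁻¹ * (e * d) = d * (e⁻¹ * k * e)⁻¹ := by
      rw [hCm.1 (C.inv_mem hc1) d hd]; group
    rw [h5, inv_mul_cancel_left, mul_smul] at h4
    have h6 := smul_left_cancel d h4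
    exact (eq_inv_smul_iff.1 h6)
  intro e he
  by_cases heD : e ∈ D
  · exact (hCm.1 hkC e heD).symm
  have h1 := hfix e he heD
  have h2 := hfix e⁻¹ (E.inv_mem he) (by simpa using heD)
  rw [inv_inv] at h2
  have h3 : (e⁻¹ * k * e)⁻¹ * (e * k * e⁻¹) = ⁅e⁻¹, k⁻¹⁆ * ⁅e, k⁻¹⁆⁻¹ := by
    simp only [commutatorElement_def]; group
  have h4 : (e⁻¹ * k * e)⁻¹ * (e * k * e⁻¹) = 1 := by
    refine hAf _ ?_ w hw ?_
    · rw [h3]
      exact A.mul_mem (hEA _ (E.inv_mem he) _ (Q.inv_mem hk)) (A.inv_mem (hEA _ he _ (Q.inv_mem hk)))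
    · rw [mul_smul, h2, inv_smul_eq_iff, h1]
  have h5 : Commute k (e ^ 2) := by
    have h6 : e⁻¹ * k * e = e * k * e⁻¹ := inv_mul_eq_one.1 h4
    calc k * e ^ 2 = e * (e⁻¹ * k * e) * e := by rw [pow_two]; simp [mul_assoc]
      _ = e * (e * k * e⁻¹) * e := by rw [h6]
      _ = e ^ 2 * k := by rw [pow_two]; simp [mul_assoc]
  obtain ⟨m, hm2⟩ := hq.out.odd_of_ne_two hq2
  have h7 : e = (e ^ 2) ^ (m + 1) := by
    rw [← pow_mul, show 2 * (m + 1) = q + 1 by omega, pow_succ, hEq e he, one_mul]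
  rw [h7]
  exact (h5.pow_right _).eq

theorem core [Finite V] [FaithfulSMul G V] {q : ℕ} [hq : Fact q.Prime]
    (hc : q.Coprime (Nat.card V)) {y : G} (hy : orderOf y = q)
    (hQ : IsPGroup q (normalClosure ({y} : Set G)))
    (hab : q ≠ 2 ∨ ∀ a ∈ normalClosure ({y} : Set G), ∀ b ∈ normalClosure ({y} : Set G),
      a * b = b * a)
    (IH : ∀ (H : Subgroup G) (W : AddSubgroup V), normalClosure ({y} : Set G) ≤ H → W ≠ ⊤ →
      (∀ h ∈ H, ∀ w ∈ W, h • w ∈ W) →
      (∃ w ∈ W, y • w ≠ w) → ∃ w ∈ W, ∀ h ∈ H, y • h • w ≠ h • w) :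
    ∃ v : V, ∀ g : G, y • g • v ≠ g • v := by
  classical
  set Q := normalClosure ({y} : Set G) with hQd
  have hyQ : y ∈ Q := subset_normalClosure rfl
  have hy1 : y ≠ 1 := by
    rintro rfl
    exact hq.out.one_lt.ne (by simpa using hy)
  obtain ⟨v0, hv0⟩ : ∃ v : V, y • v ≠ v := by
    by_contra h; push Not at h
    exact hy1 (eq_of_smul_eq_smul (α := V) fun v => by rw [h, one_smul])
  have hv00 : v0 ≠ 0 := by rintro rfl; exact hv0 (smul_zero _)
  have hWinv : ∀ h : G, ∀ w ∈ (sB (V := V) Q).ker, h • w ∈ (sB (V := V) Q).ker := by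
    intro h w hw
    rw [AddMonoidHom.mem_ker] at hw ⊢
    rw [← smul_sB_normal, hw, smul_zero]
  have hF : ∀ w ∈ (sB (V := V) Q).ker, (∀ g : G, y • g • w = g • w) → w = 0 := by
    intro w hw h
    rw [AddMonoidHom.mem_ker, sB_fix (fix_ncl h)] at hw
    exact tors_card hc hQ le_rfl hw
  by_cases hW : (sB (V := V) Q).ker = ⊤
  swap
  · obtain ⟨w, -, hw⟩ := IH ⊤ _ le_top hW (fun h _ => hWinv h) (by
      by_contra hcon; push Not at hcon
      have h1 : y • v0 - v0 ∈ (sB (V := V) Q).ker := by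
        rw [AddMonoidHom.mem_ker, map_sub, sB_smul_mem hyQ, sub_self]
      exact hv0 (sub_eq_zero.1 (hF _ h1 fun g => hcon _ (hWinv g _ h1))))
    exact ⟨w, fun g => hw g (mem_top g)⟩
  have F0 : ∀ w : V, (∀ g : G, y • g • w = g • w) → w = 0 := fun w h =>
    hF w (hW ▸ AddSubgroup.mem_top w) h
  set A := Q ⊓ centralizer (Q : Set G) with hA
  haveI hAn : A.Normal := inferInstance
  by_cases h1 : ∃ a ∈ A, a ≠ 1 ∧ ∃ w : V, w ≠ 0 ∧ a • w = w
  · obtain ⟨a, ha, ha1, w, hw, haw⟩ := h1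
    exact case1 hc hQ hyQ F0 IH ha ha1 hw haw
  have hAf : ∀ a ∈ A, ∀ v : V, v ≠ 0 → a • v = v → a = 1 := by
    intro a ha v hv hav
    by_contra h
    exact h1 ⟨a, ha, h, v, hv, hav⟩
  have hAQ : ∀ a ∈ A, ∀ u ∈ Q, u * a = a * u := fun b hb u hu => hb.2 u hu
  by_cases hyA : y ∈ A
  · exact ⟨v0, fun g hg => hy1 (hAf y hyA _ (by rwa [Ne, smul_eq_zero_iff_eq]) hg)⟩
  have hnc : ¬ ∀ a ∈ Q, ∀ b ∈ Q, a * b = b * a := fun h =>
    hyA ⟨hyQ, fun u hu => h u hu y hyQ⟩
  have hq2 : q ≠ 2 := hab.resolve_right hnc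
  have hcq : ∀ e ∈ Q, ∀ u ∈ Q, ⁅e, u⁆ ∈ A → e ^ q = 1 → ⁅e, u⁆ ^ q = 1 := by
    intro e he u hu hc' heq
    have h2 : e * u = u * e * ⁅e, u⁆ := by
      rw [hAQ _ hc' _ (Q.mul_mem hu he), commutatorElement_def]; group
    have h3 := CA.BG4.pow_mul_of h2 (hAQ _ hc' e he).symm (hAQ _ hc' u hu).symm q
    rw [heq, one_mul, mul_one] at h3
    exact (mul_eq_left.1 h3.symm)
  let E : Subgroup G :=
    { carrier := {x | x ∈ Q ∧ x ^ q = 1 ∧ ∀ u ∈ Q, ⁅x, u⁆ ∈ A}
      one_mem' := ⟨Q.one_mem, one_pow _, fun u _ => by simp⟩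
      inv_mem' := fun {x} hx => ⟨Q.inv_mem hx.1, by rw [inv_pow, hx.2.1, inv_one], fun u hu => by
        have : ⁅x⁻¹, u⁆ = x⁻¹ * ⁅x, u⁆⁻¹ * x⁻¹⁻¹ := by simp only [commutatorElement_def]; group
        rw [this]; exact hAn.conj_mem _ (A.inv_mem (hx.2.2 u hu)) _⟩
      mul_mem' := fun {x x'} hx hx' => ⟨Q.mul_mem hx.1 hx'.1, by
        have hr := hx'.2.2 x hx.1
        have h2 : x' * x = x * x' * ⁅x', x⁆ := by
          rw [hAQ _ hr _ (Q.mul_mem hx.1 hx'.1), commutatorElement_def]; group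
        have h3 := CA.BG4.mul_pow_three_aux (s := 1) (t := 1) h2
          (by rw [mul_one, hAQ _ hr x hx.1]) (by rw [mul_one, hAQ _ hr x' hx'.1])
          (Commute.one_left _) (Commute.one_left _) (Commute.one_left _) (Commute.one_left _)
          (Commute.one_left _) (Commute.one_left _) (Commute.one_left _) q
        obtain ⟨m, hm⟩ := CA.BG4.dvd_choose_two' hq.out hq2
        rw [h3, hx.2.1, hx'.2.1, hm, pow_mul, hcq x' hx'.1 x hx.1 hr hx'.2.1]
        simp, fun u hu => by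
        have : ⁅x * x', u⁆ = x * ⁅x', u⁆ * x⁻¹ * ⁅x, u⁆ := by
          simp only [commutatorElement_def]; group
        rw [this]; exact A.mul_mem (hAn.conj_mem _ (hx'.2.2 u hu) _) (hx.2.2 u hu)⟩ }
  have hEm : ∀ {x : G}, x ∈ E ↔ x ∈ Q ∧ x ^ q = 1 ∧ ∀ u ∈ Q, ⁅x, u⁆ ∈ A := Iff.rfl
  have hAE : ∀ a ∈ A, a ^ q = 1 → a ∈ E := fun a ha h => hEm.2 ⟨ha.1, h, fun u hu => by
    rw [commutatorElement_eq_one_iff_mul_comm.2 (hAQ a ha u hu).symm]; exact A.one_mem⟩
  have hEn : E.Normal := ⟨fun x hx g => hEm.2 ⟨(inferInstance : Q.Normal).conj_mem _ hx.1 g, by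
    rw [conj_pow, hx.2.1]; simp, fun u hu => by
    have h2 := hAn.conj_mem _ (hx.2.2 _ ((inferInstance : Q.Normal).conj_mem _ hu g⁻¹)) g
    have : g * ⁅x, g⁻¹ * u * g⁻¹⁻¹⁆ * g⁻¹ = ⁅g * x * g⁻¹, u⁆ := by
      simp only [commutatorElement_def]; group
    rwa [this] at h2⟩⟩
  obtain ⟨z', -, hz'c, hz'⟩ := CA.PGBasic.exists_mem_center_orderOf hQ (M := ⊤) (by
    intro h
    have : (⟨y, hyQ⟩ : Q) ∈ (⊤ : Subgroup Q) := mem_top _
    rw [h, mem_bot] at this
    exact hy1 (congrArg Subtype.val this))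
  have hcA : ∀ x : Q, x ∈ center Q → (x : G) ∈ A := fun x hx =>
    ⟨x.2, fun u hu => congrArg Subtype.val (mem_center_iff.1 hx ⟨u, hu⟩)⟩
  set z : G := z'.1 with hzd
  have hzA : z ∈ A := hcA z' hz'c
  have hz : orderOf z = q := by rw [hzd, orderOf_coe, hz']
  have hzq : z ^ q = 1 := hz ▸ pow_orderOf_eq_one z
  have hEnA : ¬ E ≤ A := by
    intro hEA
    obtain ⟨U, hUn, hUe, hUc⟩ := Cfsg.Agent.S0126.result hq2 hQ (fun h => hnc fun a ha b hb =>
      congrArg Subtype.val (h.commutative.is_comm.comm (⟨a, ha⟩ : Q) ⟨b, hb⟩))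
    obtain ⟨K, hKn, hKU, hKc⟩ := CA.PGBasic.exists_normal_card hQ (M := U) 1 (by
      rw [hUc]; exact Nat.pow_le_pow_right hq.out.pos (by norm_num))
    rw [pow_one] at hKc
    have hKZ := CA.PGBasic.le_center_of_card_eq hQ hKc
    have hri : K.relIndex U = q := by
      have := CA.PGBasic.card_mul_relIndex hKU
      rw [hKc, hUc, pow_two] at this
      exact Nat.eq_of_mul_eq_mul_left hq.out.pos this
    have hUK := CA.PGBasic.commutator_le_of_relIndex hQ hKU hri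
    have hUE : ∀ x ∈ U, (x : G) ∈ zpowers z := by
      intro x hx
      have hxq : (x : G) ^ q = 1 := congrArg Subtype.val (hUe.2 x hx)
      have hxA : (x : G) ∈ A := hEA (hEm.2 ⟨x.2, hxq, fun u hu =>
        hcA ⁅x, ⟨u, hu⟩⁆ (hKZ (hUK (commutator_mem_commutator hx (mem_top _))))⟩)
      obtain ⟨i, hi⟩ := exists_nm_ne hc hq.out.pos hzq (fun j hj hjq v hv => by
        by_contra hv0
        have h1 := hAf _ (A.pow_mem hzA j) v hv0 hv
        have h2 := orderOf_dvd_of_pow_eq_one h1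
        rw [hz] at h2
        exact absurd (Nat.le_of_dvd hj h2) (by omega)) (d := x.1) (hAQ z hzA x x.2) hv00
      have hcm : Commute (x : G) (z ^ i) := hAQ _ (A.pow_mem hzA i) x x.2
      have h3 := hAf _ (A.mul_mem hxA (A.pow_mem hzA i)) _ hi (smul_nm (by
        rw [hcm.mul_pow, hxq, ← pow_mul, mul_comm, pow_mul, hzq]; simp) _)
      rw [eq_inv_of_mul_eq_one_left h3]
      exact inv_mem (npow_mem_zpowers z i)
    have hle : Nat.card U ≤ Nat.card (zpowers z) := Nat.card_le_card_of_injective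
      (fun x : U => (⟨x.1.1, hUE x.1 x.2⟩ : zpowers z))
      (fun a b h => Subtype.ext (Subtype.ext (congrArg (fun t : zpowers z => (t : G)) h)))
    rw [hUc, Nat.card_zpowers, hz] at hle
    have := hq.out.one_lt
    nlinarith
  obtain ⟨v, hv⟩ := case2 hq2 hc hQ (A := A) (E := E) (fun x hx => hx.1) hAf hAQ
    (fun e he => he.2.2) (fun e he u hu => hAE _ (he.2.2 u hu) (hcq e he.1 u hu (he.2.2 u hu) he.2.1))
    (fun e he => he.2.1) (hAE z hzA hzq) hzA hz hv00
  refine ⟨v, fun g hg => hEnA ?_⟩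
  have hk : g⁻¹ * y * g ∈ Q := by simpa using (inferInstance : Q.Normal).conj_mem _ hyQ g⁻¹
  have h2 := hv _ hk (by rw [mul_smul, mul_smul, hg, inv_smul_smul])
  have h3 : y ∈ centralizer (E : Set G) := by
    rw [mem_centralizer_iff]
    intro e he
    have h4 := h2 _ (hEn.conj_mem _ he g⁻¹)
    calc e * y = g * (g⁻¹ * e * g⁻¹⁻¹ * (g⁻¹ * y * g)) * g⁻¹ := by group
      _ = y * e := by rw [← h4]; group
  have h5 : Q ≤ centralizer (E : Set G) :=
    normalClosure_le_normal (Set.singleton_subset_iff.2 h3)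
  intro e he
  exact ⟨he.1, fun u hu => (h5 hu e he).symm⟩

end basic

/-- restriction of an action to an invariant subgroup -/
@[reducible] def resAct {G V : Type*} [Group G] [AddCommGroup V] [DistribMulAction G V]
    (H : Subgroup G) (W : AddSubgroup V) (h : ∀ x ∈ H, ∀ w ∈ W, x • w ∈ W) :
    DistribMulAction H W where
  smul x w := ⟨(x : G) • (w : V), h x x.2 w w.2⟩
  one_smul w := Subtype.ext (one_smul G (w : V))
  mul_smul x y w := Subtype.ext (mul_smul (x : G) (y : G) (w : V))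
  smul_zero x := Subtype.ext (smul_zero (x : G))
  smul_add x a b := Subtype.ext (smul_add (x : G) (a : V) (b : V))

theorem KL_aux {q : ℕ} [hq : Fact q.Prime] (n : ℕ) : ∀ (V : Type u) [AddCommGroup V] [Finite V],
    Nat.card V = n → q.Coprime (Nat.card V) → ∀ (G : Type u) [Group G] [DistribMulAction G V]
    (Q : Subgroup G), Q.Normal → (∀ x ∈ Q, ∃ j : ℕ, ∀ v : V, x ^ q ^ j • v = v) →
    (q ≠ 2 ∨ ∀ a ∈ Q, ∀ b ∈ Q, ∀ v : V, a • b • v = b • a • v) →
    ∀ y ∈ Q, (∃ v : V, y • v ≠ v) → ∃ v : V, ∀ g : G, y • g • v ≠ g • v := by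
  induction n using Nat.strong_induction_on with
  | _ n ih =>
  intro V _ _ hn hc G _ _ Q hQn hQ hab y hyQ hy
  classical
  let ρ : G →* V ≃ₗ[ℤ] V := DistribMulAction.toModuleAut ℤ V
  let R := ρ.range
  let f : G →* R := ρ.rangeRestrict
  have hf : ∀ (g : G) (v : V), f g • v = g • v := fun g v => rfl
  have hfs : Function.Surjective f := ρ.rangeRestrict_surjective
  haveI : FaithfulSMul R V := ⟨fun {a b} h => Subtype.ext (LinearEquiv.ext h)⟩
  haveI : Finite (V ≃ₗ[ℤ] V) := Finite.of_injective (fun e : V ≃ₗ[ℤ] V => (e : V → V))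
    DFunLike.coe_injective
  let Q' := Q.map f
  haveI hQ'n : Q'.Normal := hQn.map f hfs
  have hQ' : IsPGroup q Q' := by
    rintro ⟨_, x, hx, rfl⟩
    obtain ⟨j, hj⟩ := hQ x hx
    refine ⟨j, Subtype.ext ?_⟩
    change f x ^ q ^ j = 1
    apply eq_of_smul_eq_smul (α := V)
    intro v
    rw [← map_pow, hf, hj, one_smul]
  have hy1 : f y ∉ (⊥ : Subgroup R) := by
    intro h
    obtain ⟨v, hv⟩ := hy
    rw [mem_bot] at h
    exact hv (by rw [← hf, h, one_smul])
  obtain ⟨k, hk⟩ := hQ' ⟨f y, y, hyQ, rfl⟩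
  obtain ⟨j, hj1, hj2⟩ := CA.PGBasic.exists_pow_not_mem (p := q) hy1 (k := k)
    (mem_bot.2 (congrArg Subtype.val hk))
  set y' := f y ^ q ^ j with hy'
  have ho : orderOf y' = q := orderOf_eq_prime (mem_bot.1 hj2) (fun h => hj1 (mem_bot.2 h))
  have hle : normalClosure ({y'} : Set R) ≤ Q' :=
    normalClosure_le_normal (Set.singleton_subset_iff.2 (Q'.pow_mem ⟨y, hyQ, rfl⟩ _))
  have hab' : q ≠ 2 ∨ ∀ a ∈ normalClosure ({y'} : Set R), ∀ b ∈ normalClosure ({y'} : Set R),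
      a * b = b * a := by
    refine hab.imp_right fun h a ha b hb => ?_
    obtain ⟨a', ha', rfl⟩ := hle ha
    obtain ⟨b', hb', rfl⟩ := hle hb
    apply eq_of_smul_eq_smul (α := V)
    intro v
    rw [mul_smul, mul_smul, hf, hf, hf, hf, h a' ha' b' hb']
  have hP := hQ'.to_le hle
  obtain ⟨v, hv⟩ := core (V := V) hc ho hP hab' (by
    intro H W hH hW hinv hne
    letI := resAct H W hinv
    have hlt : Nat.card W < n := by
      rw [← hn, ← AddSubgroup.card_top (G := V)]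
      have := Set.Finite.card_lt_card (Set.toFinite ((⊤ : AddSubgroup V) : Set V))
        (SetLike.coe_ssubset_coe.2 (lt_top_iff_ne_top.2 hW))
      simpa using this
    have hyN : y' ∈ normalClosure ({y'} : Set R) := subset_normalClosure rfl
    obtain ⟨w, hw⟩ := ih _ hlt W rfl
      (Nat.Coprime.coprime_dvd_right (AddSubgroup.card_addSubgroup_dvd_card W) hc) H
      ((normalClosure ({y'} : Set R)).subgroupOf H) inferInstance (fun x hx => by
        obtain ⟨m, hm⟩ := hP ⟨x, hx⟩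
        refine ⟨m, fun w => Subtype.ext ?_⟩
        have : (x : R) ^ q ^ m = 1 := congrArg Subtype.val hm
        change ((x ^ q ^ m : H) : R) • (w : V) = w
        rw [Subgroup.coe_pow, this, one_smul])
      (hab'.imp_right fun h a ha b hb w => Subtype.ext (by
        change (a : R) • (b : R) • (w : V) = (b : R) • (a : R) • (w : V)
        rw [← mul_smul, h a.1 ha b.1 hb, mul_smul])) ⟨y', hH hyN⟩ hyN (by
        obtain ⟨w, hw, h⟩ := hne
        exact ⟨⟨w, hw⟩, fun h' => h (congrArg Subtype.val h')⟩)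
    exact ⟨w, w.2, fun h hh h' => hw ⟨h, hh⟩ (Subtype.ext h')⟩)
  refine ⟨v, fun g hg => hv (f g) ?_⟩
  have : f y ∈ MulAction.stabilizer R (f g • v) := by
    rw [MulAction.mem_stabilizer_iff, hf, hf, hg]
  exact Subgroup.pow_mem _ this _

/-- Key lemma: an element of a normal subgroup acting as a `q`-group (`q` odd, or acting as an
abelian group), nontrivially on an abelian `q'`-group, has no fixed point in some orbit. -/
theorem KL {q : ℕ} [Fact q.Prime] {V G : Type u} [AddCommGroup V] [Finite V] [Group G]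
    [DistribMulAction G V] (hc : q.Coprime (Nat.card V)) (Q : Subgroup G) [hQn : Q.Normal]
    (hQ : ∀ x ∈ Q, ∃ j : ℕ, ∀ v : V, x ^ q ^ j • v = v)
    (hab : q ≠ 2 ∨ ∀ a ∈ Q, ∀ b ∈ Q, ∀ v : V, a • b • v = b • a • v)
    {y : G} (hy : y ∈ Q) (h : ∃ v : V, y • v ≠ v) : ∃ v : V, ∀ g : G, y • g • v ≠ g • v :=
  KL_aux _ V rfl hc G Q hQn hQ hab y hy h

end CA.H29Van
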