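import Cfsg.Agent.Lib.Loc.H29Van1
import Cfsg.Agent.Lib.Char.Clif
import Cfsg.Agent.Lib.Char.Cons
import Cfsg.Agent.Lib.Char.CharKer
import Cfsg.Agent.Lib.Grp.Subn
import Cfsg.Agent.Lib.Grp.Coprime2
import Cfsg.Agent.Lib.Grp.PGFrattini
import Cfsg.Agent.Lib.Grp.Fitting

set_option autoImplicit false
open Subgroup Cfsg
open scoped commutatorElement

/-! Vanishing elements of solvable groups (Isaacs–Navarro–Wolf). -/

namespace CA.H29Van
universe u
variable {G : Type u} [Group G]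

/-- `x` is a zero of some irreducible character -/
def Van (x : G) : Prop := ∃ χ : IrrCharacter G, (χ : G → ℂ) x = 0

theorem Van.of_surj {H : Type*} [Group H] (f : G →* H) (hf : Function.Surjective f) {x : G}
    (h : Van (f x)) : Van x := by
  obtain ⟨χ, hχ⟩ := h
  exact ⟨⟨_, CChar.CharFun.irr_comp_of_surjective χ.2 f hf⟩, hχ⟩

theorem Van.conj {x y : G} (h : Van x) (hc : IsConj x y) : Van y := by
  obtain ⟨χ, hχ⟩ := h
  obtain ⟨c, rfl⟩ := isConj_iff.1 hc
  exact ⟨χ, by rw [CChar.CharFun.irr_classFun χ.2]; exact hχ⟩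

/-- elements fixing all linear characters of `M` -/
def tr (M : Subgroup G) [M.Normal] : Subgroup G where
  carrier := {g | ∀ (lam : M →* ℂˣ) (m : M), lam (MulAut.conjNormal g m) = lam m}
  one_mem' := fun lam m => by simp
  mul_mem' := fun {a b} ha hb lam m => by rw [map_mul, MulAut.mul_apply, ha, hb]
  inv_mem' := fun {a} ha lam m => by
    rw [← ha lam (MulAut.conjNormal a⁻¹ m), ← MulAut.mul_apply, ← map_mul]; simp

theorem le_tr (M : Subgroup G) [M.Normal] : M ≤ tr M := fun g hg lam m => by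
  have : MulAut.conjNormal g m = ⟨g, hg⟩ * m * ⟨g, hg⟩⁻¹ := Subtype.ext (by simp)
  rw [this, map_mul, map_mul, map_inv, mul_comm (lam _) (lam m), mul_inv_cancel_right]

theorem cent_le_tr (M : Subgroup G) [M.Normal] : centralizer (M : Set G) ≤ tr M :=
  fun g hg lam m => by
  have : MulAut.conjNormal g m = m := Subtype.ext (by
    simp only [MulAut.conjNormal_apply]; rw [← hg m m.2, mul_inv_cancel_right])
  rw [this]

theorem sep {N : Type*} [Group N] [Finite N] {a : N} (h : a ∉ commutator N) :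
    ∃ lam : N →* ℂˣ, lam a ≠ 1 := by
  have h1 : Abelianization.of a ≠ 1 := fun h' => h ((QuotientGroup.eq_one_iff a).1 h')
  obtain ⟨φ, hφ⟩ := CommGroup.exists_apply_ne_one_of_hasEnoughRootsOfUnity (Abelianization N) ℂ h1
  exact ⟨φ.comp Abelianization.of, hφ⟩

variable [Finite G]

theorem cent_of_tr {M : Subgroup G} [M.Normal] (hM : Group.IsNilpotent M) {y : G}
    (hc : (orderOf y).Coprime (Nat.card M)) (hy : y ∈ tr M) : y ∈ centralizer (M : Set G) := by
  have h := CA.Coprime2.le_centralizer_of_commutator_le_frattini (A := zpowers y) (K := M)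
    (by rw [Nat.card_zpowers]; exact hc.coprime_dvd_right (card_subgroup_dvd_card _))
    (fun a ha k hk => by
      have ha' : a ∈ tr M := zpowers_le.2 hy ha
      refine ⟨MulAut.conjNormal a ⟨k, hk⟩ * ⟨k, hk⟩⁻¹, ?_, by simp⟩
      apply CA.PGFrattini.commutator_le_frattini_of_nilpotent
      by_contra hn
      obtain ⟨lam, hl⟩ := sep hn
      exact hl (by rw [map_mul, ha', map_inv, mul_inv_cancel]))
  exact h (mem_zpowers y)

theorem van_of_lam (M : Subgroup G) [M.Normal] (lam : M →* ℂˣ) {x : G}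
    (h : ∀ g : G, ∃ m : M, lam (MulAut.conjNormal (g * x * g⁻¹) m) ≠ lam m) : Van x := by
  classical
  letI := Fintype.ofFinite G
  have hθ := CChar.CharFun.irr_of_unitsHom lam
  obtain ⟨χ, hχ, hi⟩ := CA.Cons.exists_irr_over M hθ
  obtain ⟨ψ, -, hψ, -⟩ := CA.Clif.corr_surj (CA.Clif.le_inertia (CChar.CharFun.irr_classFun hθ))
    hθ rfl hχ hi
  refine ⟨⟨χ, hχ⟩, ?_⟩
  change χ x = 0
  rw [← hψ]
  refine CA.Ind.indFun_eq_zero_of_not_conj _ fun g hg => ?_
  obtain ⟨m, hm⟩ := h g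
  exact hm (Units.ext (CA.Clif.mem_inertia'.1 hg m))

/-- the action on linear characters -/
@[reducible] def linAct (M : Subgroup G) [M.Normal] : DistribMulAction G (Additive (M →* ℂˣ)) where
  smul g lam := Additive.ofMul ((Additive.toMul lam).comp (MulAut.conjNormal g⁻¹ : MulAut M).toMonoidHom)
  one_smul lam := by
    change Additive.ofMul _ = lam
    simp only [inv_one, map_one]; rfl
  mul_smul a b lam := by
    change Additive.ofMul _ = Additive.ofMul _
    rw [mul_inv_rev, map_mul]; rfl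
  smul_zero g := rfl
  smul_add g a b := rfl

theorem V1 {q : ℕ} [Fact q.Prime] (M : Subgroup G) [M.Normal] (hc : q.Coprime (Nat.card M))
    (Q : Subgroup G) [Q.Normal] (hQ : ∀ u ∈ Q, ∃ j : ℕ, u ^ q ^ j ∈ tr M)
    (hab : q ≠ 2 ∨ ∀ a ∈ Q, ∀ b ∈ Q, ⁅a, b⁆ ∈ tr M) {y : G} (hy : y ∈ Q) (hyM : y ∉ tr M)
    {x : G} {n : ℕ} (hx : y⁻¹ * x ^ n ∈ tr M) : Van x := by
  letI := linAct M
  have hsm : ∀ (g : G) (v : Additive (M →* ℂˣ)) (m : M),
      (g • v).toMul m = v.toMul (MulAut.conjNormal g⁻¹ m) := fun g v m => rfl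
  have htr : ∀ g : G, g ∈ tr M ↔ ∀ v : Additive (M →* ℂˣ), g • v = v := fun g => by
    constructor
    · intro h v
      exact Additive.toMul.injective (MonoidHom.ext fun m => by rw [hsm]; exact (tr M).inv_mem h _ _)
    · intro h
      rw [← inv_mem_iff]
      intro lam m
      have := hsm g (Additive.ofMul lam) m
      rw [h] at this
      exact this.symm
  have hcard : Nat.card (Additive (M →* ℂˣ)) = (commutator M).index :=
    CChar.CharKer.card_unitsHom
  haveI : Finite (Additive (M →* ℂˣ)) := Nat.finite_of_card_ne_zero (by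
    rw [hcard]; exact index_ne_zero_of_finite)
  obtain ⟨v, hv⟩ := KL (V := Additive (M →* ℂˣ)) (G := G) (q := q)
    (by rw [hcard]; exact hc.coprime_dvd_right (index_dvd_card _)) Q
    (fun u hu => (hQ u hu).imp fun j hj => (htr _).1 hj)
    (hab.imp_right fun h a ha b hb v => by
      have := (htr _).1 (h a ha b hb) (b • a • v)
      rw [← this, commutatorElement_def]
      simp [mul_smul]) hy (by
      by_contra hcon; push Not at hcon; exact hyM ((htr _).2 hcon))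
  refine van_of_lam M v.toMul fun g => ?_
  by_contra hcon
  push Not at hcon
  apply hv g⁻¹
  have h1 : (g * x * g⁻¹)⁻¹ • v = v :=
    Additive.toMul.injective (MonoidHom.ext fun m => by rw [hsm, inv_inv]; exact hcon m)
  have h2 : x ∈ MulAction.stabilizer G (g⁻¹ • v) := by
    rw [← inv_mem_iff, MulAction.mem_stabilizer_iff]
    conv_rhs => rw [← h1]
    rw [← mul_smul, ← mul_smul]; congr 1; group
  have h3 : x ^ n • g⁻¹ • v = g⁻¹ • v := Subgroup.pow_mem _ h2 n
  have h4 := (htr _).1 hx (g⁻¹ • v)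
  rw [mul_smul, h3, inv_smul_eq_iff] at h4
  exact h4.symm

theorem inw_aux {q : ℕ} [hq : Fact q.Prime] (hq2 : q ≠ 2) (c : ℕ) :
    ∀ (G : Type u) [Group G] [Finite G] [Group.IsSolvable G], Nat.card G = c →
      ∀ (x : G) (n k : ℕ), (x ^ n) ^ q ^ k = 1 → x ^ n ∉ pCore q G → Van x := by
  induction c using Nat.strong_induction_on with
  | _ c ih =>
  intro G _ _ _ hcG x n k hk hx
  have htop : (⊤ : Subgroup G) ≠ ⊥ := by
    intro h
    apply hx
    have : x ^ n ∈ (⊤ : Subgroup G) := mem_top _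
    rw [h, mem_bot] at this
    rw [this]; exact one_mem _
  obtain ⟨M, -, hM1, hMn, hmin⟩ := CA.Subn.exists_minimal_normal htop
  obtain ⟨hMc, r, hr, hMr⟩ := CA.Subn.elemAb_of_minimal_normal inferInstance hM1 hmin
  let f := QuotientGroup.mk' M
  have hfs : Function.Surjective f := QuotientGroup.mk'_surjective M
  by_cases h1 : (f x) ^ n ∈ pCore q (G ⧸ M)
  swap
  · refine Van.of_surj f hfs (ih _ ?_ (G ⧸ M) rfl (f x) n k (by rw [← map_pow, ← map_pow, hk, map_one]) h1)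
    rw [← hcG, ← card_mul_index M, ← index_eq_card]
    have h2 : 1 < Nat.card M := one_lt_card_iff_ne_bot M |>.2 hM1
    have h3 : 0 < M.index := Nat.pos_of_ne_zero index_ne_zero_of_finite
    nlinarith
  have hMp : IsPGroup r M := CA.Subn.isPGroup_of_pow_eq_one hMr
  haveI := Fact.mk hr
  by_cases hrq : r = q
  · subst hrq
    exact absurd (by rw [← CA.Core.comap_mk_pCore M hMp]; exact h1) hx
  have hc : q.Coprime (Nat.card M) :=
    (CA.Core.coprime_card_of_isPGroup hMp ((Nat.coprime_primes hr hq.out).2 hrq)).symm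
  set Q := (pCore q (G ⧸ M)).comap f with hQ
  have hQq : ∀ u ∈ Q, ∃ j : ℕ, u ^ q ^ j ∈ M := fun u hu => by
    obtain ⟨j, hj⟩ := CA.Core.isPGroup_pCore (p := q) ⟨f u, hu⟩
    exact ⟨j, (QuotientGroup.eq_one_iff _).1 (congrArg Subtype.val hj)⟩
  refine V1 M hc Q (fun u hu => (hQq u hu).imp fun j hj => le_tr M hj) (Or.inl hq2)
    (y := x ^ n) h1 (fun h => hx ?_) (n := n) (by simpa using one_mem _)
  have ho : (orderOf (x ^ n)).Coprime (Nat.card M) :=
    (hc.pow_left k).coprime_dvd_left (orderOf_dvd_of_pow_eq_one hk)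
  have h2 := cent_of_tr (CA.Core.isNilpotent_of_isMulCommutative hMc) ho h
  set C := Q ⊓ centralizer (M : Set G) with hC
  have hCn : Group.IsNilpotent C := by
    have hp : IsPGroup q (f.comp C.subtype).range := by
      refine (CA.Core.isPGroup_pCore (p := q) (G := G ⧸ M)).to_le ?_
      rintro _ ⟨u, rfl⟩; exact u.2.1
    haveI := hp.isNilpotent
    refine Subgroup.isNilpotent_of_ker_le_center (f.comp C.subtype).rangeRestrict ?_
    intro u hu
    have hu' : (u : G) ∈ M := (QuotientGroup.eq_one_iff _).1 (congrArg Subtype.val hu)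
    exact mem_center_iff.2 fun w => Subtype.ext (w.2.2 u hu').symm
  have h3 : zpowers (x ^ n) ≤ fittingSubgroup G :=
    (zpowers_le.2 (show x ^ n ∈ C from ⟨h1, h2⟩)).trans (CA.Core.le_fitting hCn)
  refine CA.Fitting.le_pCore_of_le_fitting h3 ?_ (mem_zpowers _)
  obtain ⟨j, -, hj⟩ := (Nat.dvd_prime_pow hq.out).1 (orderOf_dvd_of_pow_eq_one hk)
  exact IsPGroup.of_card (by rw [Nat.card_zpowers, hj])

/-- Isaacs–Navarro–Wolf: if the order of `x` modulo `O_q(G)` is divisible by the odd prime `q`,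
then `x` is vanishing. -/
theorem inw [Group.IsSolvable G] {q : ℕ} [hq : Fact q.Prime] (hq2 : q ≠ 2) {H : Type*} [Group H]
    (f : G →* H) (hf : pCore q G ≤ f.ker) {x : G} (hx : q ∣ orderOf (f x)) : Van x := by
  have h0 : orderOf x ≠ 0 := (orderOf_pos x).ne'
  obtain ⟨k, n, hn, h⟩ := Nat.exists_eq_pow_mul_and_not_dvd h0 q hq.out.ne_one
  refine inw_aux hq2 _ G rfl x n k (by rw [← pow_mul, mul_comm, ← h, pow_orderOf_eq_one]) fun h1 => hn ?_
  have := hf h1
  rw [MonoidHom.mem_ker, map_pow] at this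
  exact hx.trans (orderOf_dvd_of_pow_eq_one this)

theorem card_le_of_order [Group.IsSolvable G] {p : ℕ} [hp : Fact p.Prime] (h0 : pCore p G = ⊥)
    (h : ∀ x : G, p ∣ orderOf x → orderOf x = p) {P : Subgroup G} (hP : IsPGroup p P) :
    Nat.card P ≤ p := by
  by_contra hlt
  push Not at hlt
  obtain ⟨n, hn⟩ := IsPGroup.iff_card.1 hP
  have hn2 : 2 ≤ n := by
    by_contra h2
    have : n = 0 ∨ n = 1 := by omega
    have := hp.out.one_lt
    rcases ‹n = 0 ∨ n = 1› with rfl | rfl <;> simp [hn] at hlt <;> omega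
  obtain ⟨K, -, -, hK⟩ := CA.PGBasic.exists_normal_card hP (M := ⊤) 2 (by
    rw [card_top, hn]; exact Nat.pow_le_pow_right hp.out.pos hn2)
  set A := K.map P.subtype with hA
  have hAc : Nat.card A = p ^ 2 := by rw [hA, card_map_of_injective P.subtype_injective, hK]
  have hAp : IsPGroup p A := IsPGroup.of_card hAc
  have hAm : IsMulCommutative A := ⟨⟨IsPGroup.commutative_of_card_eq_prime_sq hAc⟩⟩
  have hAo : ∀ a ∈ A, a ≠ 1 → orderOf a = p := fun a ha h1 => by
    apply h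
    obtain ⟨k, hk⟩ := (IsPGroup.iff_orderOf.1 hAp) ⟨a, ha⟩
    rw [orderOf_mk] at hk
    rw [hk]
    refine dvd_pow_self _ ?_
    rintro rfl
    exact h1 (orderOf_eq_one_iff.1 (by simpa using hk))
  have hp1 := hp.out.one_lt
  have hAn : ¬ IsCyclic A := by
    intro hc
    obtain ⟨a, ha⟩ := hc.exists_generator
    have h1 := orderOf_eq_card_of_forall_mem_zpowers ha
    rw [hAc, ← orderOf_coe] at h1
    have h2 := h a (by rw [h1]; exact dvd_pow_self _ two_ne_zero)
    rw [h1] at h2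
    nlinarith
  have htop : (⊤ : Subgroup G) ≠ ⊥ := by
    intro h
    have : A = ⊥ := eq_bot_iff.2 (h ▸ le_top)
    rw [this, card_bot] at hAc
    nlinarith
  obtain ⟨M, -, hM1, hMn, hmin⟩ := CA.Subn.exists_minimal_normal htop
  obtain ⟨hMc, r, hr, hMr⟩ := CA.Subn.elemAb_of_minimal_normal inferInstance hM1 hmin
  have hMp : IsPGroup r M := CA.Subn.isPGroup_of_pow_eq_one hMr
  haveI := Fact.mk hr
  have hrp : p ≠ r := by
    rintro rfl
    exact hM1 (eq_bot_iff.2 (h0 ▸ CA.Core.le_pCore hMp))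
  have hcp : p.Coprime r := (Nat.coprime_primes hp.out hr).2 hrp
  refine hM1 (eq_bot_iff.2 (CA.Coprime2.le_of_forall_centralizer_singleton hAm hAn
    le_normalizer_of_normal (IsPGroup.coprime_card_of_ne p r hrp _ _ hAp hMp) fun a ha h1 m hm => ?_))
  rw [mem_bot]
  by_contra hm1
  have h2 : orderOf m = r := orderOf_eq_prime (hMr m hm.1) hm1
  have h3 : Commute a m := hm.2 a rfl
  have h4 := h3.orderOf_mul_eq_mul_orderOf_of_coprime (by rw [hAo a ha h1, h2]; exact hcp)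
  rw [hAo a ha h1, h2] at h4
  have h5 := h (a * m) (by rw [h4]; exact dvd_mul_right _ _)
  rw [h4] at h5
  have := hr.one_lt
  nlinarith

theorem orderOf_pow_lt {x : G} {r : ℕ} (hr : r.Prime) (h : r ∣ orderOf x) :
    orderOf (x ^ r) < orderOf x := by
  rw [orderOf_pow_of_dvd hr.ne_zero h]
  exact Nat.div_lt_self (orderOf_pos x) hr.one_lt

theorem odd_case [Group.IsSolvable G] {p : ℕ} [hp : Fact p.Prime] (hp2 : p ≠ 2)
    (hb : ∀ x x' : G, Van x → Van x' → p ∣ orderOf x → p ∣ orderOf x' → orderOf x = orderOf x')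
    {P : Subgroup (G ⧸ pCore p G)} (hP : IsPGroup p P) : Nat.card P ≤ p := by
  refine card_le_of_order CA.Core.pCore_quotient_pCore (fun xb hx => ?_) hP
  let f := QuotientGroup.mk' (pCore p G)
  have hk : pCore p G ≤ f.ker := by rw [QuotientGroup.ker_mk']
  obtain ⟨x, rfl⟩ := QuotientGroup.mk'_surjective (pCore p G) xb
  obtain ⟨s, hs⟩ := hx
  by_contra hne
  have hs1 : s ≠ 1 := by rintro rfl; exact hne (by simpa using hs)
  obtain ⟨r, hr, t, rfl⟩ := Nat.exists_prime_and_dvd hs1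
  have h1 : p ∣ orderOf (f x) := ⟨_, hs⟩
  have h2 : r ∣ orderOf (f x) := ⟨p * t, hs.trans (by ring)⟩
  have h3 : p ∣ orderOf (f (x ^ r)) := by
    rw [map_pow, orderOf_pow_of_dvd hr.ne_zero h2]
    refine ⟨t, Nat.div_eq_of_eq_mul_right hr.pos (hs.trans (by ring))⟩
  exact (orderOf_pow_lt hr (h2.trans (orderOf_map_dvd f x))).ne'
    (hb _ _ (inw hp2 f hk h1) (inw hp2 f hk h3) (h1.trans (orderOf_map_dvd f x))
      (h3.trans (orderOf_map_dvd f _)))

theorem exists_lift {H : Type*} [Group H] (f : G →* H) {p : ℕ} (hp : p.Prime) (x : G) {k : ℕ}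
    (hk : f x ^ p ^ k = 1) : ∃ y : G, f y = f x ∧ ∃ j : ℕ, y ^ p ^ j = 1 := by
  obtain ⟨j, n, hn, h⟩ := Nat.exists_eq_pow_mul_and_not_dvd (orderOf_pos x).ne' p hp.ne_one
  have hc : n.Coprime (orderOf (f x)) :=
    (((Nat.Prime.coprime_iff_not_dvd hp).2 hn).symm.pow_right k).coprime_dvd_right
      (orderOf_dvd_of_pow_eq_one hk)
  obtain ⟨m, hm⟩ := exists_pow_eq_self_of_coprime hc
  refine ⟨(x ^ n) ^ m, by rw [map_pow, map_pow, hm], j, ?_⟩
  rw [← pow_mul, mul_comm m, pow_mul, ← pow_mul x, mul_comm n, ← h, pow_orderOf_eq_one, one_pow]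

/-- hypotheses for the prime `2` -/
def H2 (G : Type u) [Group G] : Prop :=
  (∀ x x' : G, Van x → Van x' → 2 ∣ orderOf x → 2 ∣ orderOf x' → (∃ k : ℕ, x ^ 2 ^ k = 1) →
    ∃ k : ℕ, x' ^ 2 ^ k = 1) ∧ ∀ x : G, Van x → Van (x ^ 2) → ¬ 4 ∣ orderOf x

theorem H2.quot (h : H2 G) {H : Type u} [Group H] (f : G →* H) (hf : Function.Surjective f) :
    H2 H := by
  refine ⟨fun x x' hx hx' h2 h2' hk => ?_, fun x hx hx2 h4 => ?_⟩
  · obtain ⟨x, rfl⟩ := hf x
    obtain ⟨x', rfl⟩ := hf x'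
    obtain ⟨k, hk⟩ := hk
    obtain ⟨y, hy, hj⟩ := exists_lift f Nat.prime_two x hk
    obtain ⟨j, hj⟩ := h.1 y x' (Van.of_surj f hf (hy ▸ hx)) (Van.of_surj f hf hx')
      ((hy ▸ h2).trans (orderOf_map_dvd f y)) (h2'.trans (orderOf_map_dvd f x')) hj
    exact ⟨j, by rw [← map_pow, hj, map_one]⟩
  · obtain ⟨x, rfl⟩ := hf x
    exact h.2 x (Van.of_surj f hf hx) (Van.of_surj f hf (by rwa [map_pow]))
      (h4.trans (orderOf_map_dvd f x))

theorem two_dvd_of {H : Type*} [Group H] {a : H} {k : ℕ} (hk : a ^ 2 ^ k = 1) (h1 : a ≠ 1) :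
    2 ∣ orderOf a := by
  obtain ⟨j, -, hj⟩ := (Nat.dvd_prime_pow Nat.prime_two).1 (orderOf_dvd_of_pow_eq_one hk)
  rw [hj]
  refine dvd_pow_self _ ?_
  rintro rfl
  exact h1 (orderOf_eq_one_iff.1 (by simpa using hj))

theorem two_aux (c : ℕ) : ∀ (G : Type u) [Group G] [Finite G] [Group.IsSolvable G],
    Nat.card G = c → pCore 2 G = ⊥ → H2 G → ∀ P : Subgroup G, IsPGroup 2 P → Nat.card P ≤ 2 := by
  induction c using Nat.strong_induction_on with
  | _ c ih =>
  intro G _ _ _ hcG h0 hH P hP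
  haveI := Fact.mk Nat.prime_two
  rcases subsingleton_or_nontrivial G with hs | hs
  · rw [Nat.card_of_subsingleton (1 : P)]; norm_num
  set F := fittingSubgroup G with hF
  have hF1 : F ≠ ⊥ := CA.Fitting.fitting_ne_bot
  have hFo : (Nat.card F).Coprime 2 :=
    CA.Core.coprime_of_le_pPrimeCore (CA.Fitting.fitting_le_pPrimeCore_of_pCore_eq_bot 2 h0)
  let f := QuotientGroup.mk' F
  have hfs : Function.Surjective f := QuotientGroup.mk'_surjective F
  have hf1 : ∀ {x : G}, f x = 1 ↔ x ∈ F := fun {x} => QuotientGroup.eq_one_iff x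
  have hPc : Nat.card (P.map f) = Nat.card P := by
    have h1 : P ⊓ F = ⊥ := CA.Core.inf_eq_bot_of_isPGroup_of_coprime hP hFo
    have h2 : Function.Injective (f.comp P.subtype) := by
      rw [injective_iff_map_eq_one]
      intro a ha
      have : (a : G) ∈ P ⊓ F := ⟨a.2, hf1.1 ha⟩
      rw [h1, mem_bot] at this
      exact Subtype.ext this
    rw [← card_top (G := P), ← card_map_of_injective h2, ← map_map, ← MonoidHom.range_eq_map,
      range_subtype]
  rw [← hPc]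
  by_cases hR : pCore 2 (G ⧸ F) = ⊥
  · refine ih _ ?_ (G ⧸ F) rfl hR (hH.quot f hfs) _ (hP.map f)
    rw [← hcG, ← card_mul_index F, ← index_eq_card]
    have h2 : 1 < Nat.card F := one_lt_card_iff_ne_bot F |>.2 hF1
    have h3 : 0 < F.index := Nat.pos_of_ne_zero index_ne_zero_of_finite
    nlinarith
  obtain ⟨M, hMF, hM1, hMn, hmin⟩ := CA.Subn.exists_minimal_normal hF1
  obtain ⟨hMc, r, hr, hMr⟩ := CA.Subn.elemAb_of_minimal_normal inferInstance hM1 hmin
  have hFM := CA.Subn.fitting_le_centralizer_of_minimal_normal hmin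
  have hMM : ∀ a ∈ M, ∀ b ∈ M, a * b = b * a := CA.PGBasic.isMulCommutative_iff.1 hMc
  have hM2 : ∀ m ∈ M, ∀ k : ℕ, m ^ 2 ^ k = 1 → m = 1 := fun m hm k hk => by
    have h1 : orderOf m ∣ Nat.card F := by
      rw [← orderOf_mk m (hMF hm)]; exact orderOf_dvd_natCard _
    exact orderOf_eq_one_iff.1 (Nat.eq_one_of_dvd_coprimes (hFo.pow_right k) h1
      (orderOf_dvd_of_pow_eq_one hk))
  have key : ∀ A : Subgroup (G ⧸ F), A.Normal → IsPGroup 2 A → (∀ a ∈ A, ∀ b ∈ A, a * b = b * a) →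
      (∀ x : G, f x ∈ A → f x ≠ 1 → Van x ∧ 2 ∣ orderOf x ∧ ∃ k : ℕ, x ^ 2 ^ k = 1) ∧
      ∀ a ∈ A, ∀ b ∈ A, a ≠ 1 → b ≠ 1 → a = b := by
    intro A hAn hA2 hAc
    have hpow : ∀ a ∈ A, ∃ k : ℕ, a ^ 2 ^ k = 1 := fun a ha =>
      (hA2 ⟨a, ha⟩).imp fun k hk => congrArg Subtype.val hk
    have k1 : ∀ x : G, f x ∈ A → f x ≠ 1 → Van x := by
      intro x hx hx1
      obtain ⟨k, hk⟩ := hpow _ hx
      obtain ⟨y, hy, j, hj⟩ := exists_lift f Nat.prime_two x hk
      refine V1 (q := 2) F hFo.symm (A.comap f) (fun u hu => (hpow _ hu).imp fun i hi =>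
        le_tr F (hf1.1 (by rw [map_pow, hi]))) (Or.inr fun a ha b hb => le_tr F (hf1.1 (by
          rw [map_commutatorElement]
          exact commutatorElement_eq_one_iff_mul_comm.2 (hAc _ ha _ hb)))) (y := y)
        (by rw [mem_comap, hy]; exact hx) (fun h => hx1 ?_) (n := 1)
        (le_tr F (hf1.1 (by rw [pow_one, map_mul, map_inv, hy, inv_mul_cancel])))
      have ho : (orderOf y).Coprime (Nat.card F) :=
        (hFo.symm.pow_left j).coprime_dvd_left (orderOf_dvd_of_pow_eq_one hj)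
      rw [← hy]
      exact hf1.2 (CA.Fitting.centralizer_fitting_le (cent_of_tr CA.Core.isNilpotent_fitting ho h))
    have k2 : ∀ x : G, f x ∈ A → f x ≠ 1 → 2 ∣ orderOf x := fun x hx hx1 => by
      obtain ⟨k, hk⟩ := hpow _ hx
      exact (two_dvd_of hk hx1).trans (orderOf_map_dvd f x)
    have k3 : ∀ x : G, f x ∈ A → f x ≠ 1 → ∃ k : ℕ, x ^ 2 ^ k = 1 := fun x hx hx1 => by
      obtain ⟨k, hk⟩ := hpow _ hx
      obtain ⟨y, hy, hj⟩ := exists_lift f Nat.prime_two x hk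
      exact hH.1 y x (k1 y (hy ▸ hx) (hy ▸ hx1)) (k1 x hx hx1) (k2 y (hy ▸ hx) (hy ▸ hx1))
        (k2 x hx hx1) hj
    have k4 : ∀ x : G, f x ∈ A → f x ≠ 1 → x ^ 2 ∈ F := fun x hx hx1 => by
      by_contra h
      have h1 : f (x ^ 2) ∈ A := by rw [map_pow]; exact A.pow_mem hx 2
      have h2 : f (x ^ 2) ≠ 1 := fun h' => h (hf1.1 h')
      refine hH.2 x (k1 x hx hx1) (k1 _ h1 h2) ?_
      have h3 := k2 _ h1 h2
      rw [orderOf_pow_of_dvd two_ne_zero (k2 x hx hx1)] at h3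
      have h4 := k2 x hx hx1
      omega
    have k5 : ∀ x : G, f x ∈ A → f x ≠ 1 → ∀ m ∈ M, x * m * x⁻¹ = m⁻¹ := by
      intro x hx hx1 m hm
      have hm' : x * m * x⁻¹ ∈ M := hMn.conj_mem m hm x
      set s := m * (x * m * x⁻¹) with hs
      have hsM : s ∈ M := M.mul_mem hm hm'
      have h1 : m * x ^ 2 = x ^ 2 * m := hFM (k4 x hx hx1) m hm
      have h2 : Commute x s := by
        have h3 := hMM _ hm _ hm'
        calc x * s = (x * m * x⁻¹) * (x ^ 2 * m) * x⁻¹ := by rw [hs, pow_two]; group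
          _ = (x * m * x⁻¹) * m * x := by rw [← h1, pow_two]; group
          _ = s * x := by rw [← h3]
      have hfs' : f (x * s) = f x := by rw [map_mul, hf1.2 (hMF hsM), mul_one]
      obtain ⟨k, hk⟩ := k3 x hx hx1
      obtain ⟨j, hj⟩ := k3 (x * s) (hfs' ▸ hx) (hfs' ▸ hx1)
      have h4 : s ^ 2 ^ (k + j) = 1 := by
        have h5 : (x * s) ^ 2 ^ (k + j) = 1 := by rw [pow_add, mul_comm, pow_mul, hj, one_pow]
        rw [h2.mul_pow, pow_add, pow_mul x, hk, one_pow, one_mul, ← pow_add] at h5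
        exact h5
      exact eq_inv_of_mul_eq_one_right (hM2 s hsM _ h4)
    refine ⟨fun x hx hx1 => ⟨k1 x hx hx1, k2 x hx hx1, k3 x hx hx1⟩, fun a ha b hb ha1 hb1 => ?_⟩
    obtain ⟨x, rfl⟩ := hfs a
    obtain ⟨y, rfl⟩ := hfs b
    by_contra hne
    have h1 : f (x⁻¹ * y) ∈ A := by rw [map_mul, map_inv]; exact A.mul_mem (A.inv_mem ha) hb
    have h2 : f (x⁻¹ * y) ≠ 1 := by rw [map_mul, map_inv]; exact fun h => hne (inv_mul_eq_one.1 h)
    apply hM1
    rw [eq_bot_iff]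
    intro m hm
    have h3 := k5 _ h1 h2 m hm
    have h4 := k5 y hb hb1 m hm
    have h5 := k5 x ha ha1 m hm
    have h6 : x⁻¹ * y * m * (x⁻¹ * y)⁻¹ = m := by
      calc x⁻¹ * y * m * (x⁻¹ * y)⁻¹ = x⁻¹ * (y * m * y⁻¹) * x := by group
        _ = x⁻¹ * (x * m * x⁻¹) * x := by rw [h4, h5]
        _ = m := by group
    rw [h6] at h3
    exact mem_bot.2 (hM2 m hm 1 (by rw [pow_one, pow_two]; exact mul_eq_one_iff_eq_inv.2 h3))
  set R := pCore 2 (G ⧸ F) with hRd
  have hR2 : IsPGroup 2 R := CA.Core.isPGroup_pCore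
  obtain ⟨z', -, hz'c, hz'⟩ := CA.PGBasic.exists_mem_center_orderOf hR2 (M := ⊤) (by
    intro h
    apply hR
    rw [eq_bot_iff]
    intro a ha
    have : (⟨a, ha⟩ : R) ∈ (⊤ : Subgroup R) := mem_top _
    rw [h, mem_bot] at this
    exact mem_bot.2 (congrArg Subtype.val this))
  set Z := R ⊓ centralizer (R : Set (G ⧸ F)) with hZ
  have hZn : Z.Normal := inferInstance
  obtain ⟨hZ1, hZ2⟩ := key Z hZn (hR2.to_le inf_le_left) (fun a ha b hb => hb.2 a ha.1)
  have hzZ : z'.1 ∈ Z := ⟨z'.2, fun u hu => congrArg Subtype.val (mem_center_iff.1 hz'c ⟨u, hu⟩)⟩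
  have hzo : orderOf z'.1 = 2 := by rw [orderOf_coe, hz']
  have hz1 : z'.1 ≠ 1 := fun h => by rw [h, orderOf_one] at hzo; omega
  have hzc : ∀ g : G ⧸ F, Commute g z'.1 := fun g => by
    have := hZ2 _ (hZn.conj_mem _ hzZ g) _ hzZ (by simpa using hz1) hz1
    exact mul_inv_eq_iff_eq_mul.1 this
  obtain ⟨x0, hx0⟩ := hfs z'.1
  obtain ⟨hv0, he0, hk0⟩ := hZ1 x0 (hx0 ▸ hzZ) (hx0 ▸ hz1)
  have h2g : IsPGroup 2 (G ⧸ F) := by
    rw [IsPGroup.iff_orderOf]
    intro g
    refine ⟨_, Nat.eq_prime_pow_of_unique_prime_dvd (orderOf_pos g).ne' fun {q} hq hqd => ?_⟩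
    by_contra hq2
    haveI := Fact.mk hq
    set w := g ^ (orderOf g / q) with hw
    have hwo : orderOf w = q := orderOf_pow_orderOf_div (orderOf_pos g).ne' hqd
    have h1 := (hzc w).orderOf_mul_eq_mul_orderOf_of_coprime (by
      rw [hwo, hzo]; exact (Nat.coprime_primes hq Nat.prime_two).2 hq2)
    rw [hwo, hzo] at h1
    obtain ⟨x, hx⟩ := hfs (w * z'.1)
    have h2 : Van x := inw hq2 f (by rw [QuotientGroup.ker_mk']; exact CA.Fitting.pCore_le_fitting)
      (by rw [hx, h1]; exact dvd_mul_right _ _)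
    have h3 : orderOf (f x) ∣ orderOf x := orderOf_map_dvd f x
    rw [hx, h1] at h3
    obtain ⟨k, hk⟩ := hH.1 x0 x hv0 h2 he0 ((dvd_mul_left _ _).trans h3) hk0
    exact hq2 ((Nat.prime_dvd_prime_iff_eq hq Nat.prime_two).1 (hq.dvd_of_dvd_pow
      (((dvd_mul_right _ _).trans h3).trans (orderOf_dvd_of_pow_eq_one hk))))
  refine (card_le_card_group _).trans ?_
  by_contra hlt
  obtain ⟨n, hn⟩ := IsPGroup.iff_card.1 h2g
  have hn2 : 2 ≤ n := by
    by_contra h2
    have : n = 0 ∨ n = 1 := by omega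
    rcases this with rfl | rfl <;> simp [hn] at hlt
  obtain ⟨A, hAn, -, hA⟩ := CA.PGBasic.exists_normal_card h2g (M := ⊤) 2 (by
    rw [card_top, hn]; exact Nat.pow_le_pow_right two_pos hn2)
  obtain ⟨-, hA2⟩ := key A hAn (h2g.to_subgroup A) (fun a ha b hb => congrArg Subtype.val
    (IsPGroup.commutative_of_card_eq_prime_sq hA ⟨a, ha⟩ ⟨b, hb⟩))
  classical
  have hle : Nat.card A ≤ Nat.card Prop := Nat.card_le_card_of_injective
    (fun a : A => (a : G ⧸ F) = 1) (fun a b h => by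
      by_cases ha : (a : G ⧸ F) = 1
      · exact Subtype.ext (ha.trans (h.mp ha : (b : G ⧸ F) = 1).symm)
      · exact Subtype.ext (hA2 _ a.2 _ b.2 ha (fun hb => ha (h.mpr hb))))
  rw [hA] at hle
  simp at hle

theorem all_case [Group.IsSolvable G] {p : ℕ} [hp : Fact p.Prime]
    (hb : ∀ x x' : G, Van x → Van x' → p ∣ orderOf x → p ∣ orderOf x' → orderOf x = orderOf x')
    {P : Subgroup (G ⧸ pCore p G)} (hP : IsPGroup p P) : Nat.card P ≤ p := by
  by_cases hp2 : p = 2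
  swap
  · exact odd_case hp2 hb hP
  subst hp2
  refine two_aux _ _ rfl CA.Core.pCore_quotient_pCore
    (H2.quot ⟨?_, ?_⟩ (QuotientGroup.mk' _) (QuotientGroup.mk'_surjective _)) P hP
  · rintro x x' hx hx' h2 h2' ⟨k, hk⟩
    exact ⟨k, orderOf_dvd_iff_pow_eq_one.1 (hb x x' hx hx' h2 h2' ▸ orderOf_dvd_of_pow_eq_one hk)⟩
  · intro x hx hx2 h4
    have h2 : 2 ∣ orderOf x := (by norm_num : 2 ∣ 4).trans h4
    refine (orderOf_pow_lt Nat.prime_two h2).ne' (hb _ _ hx hx2 h2 ?_)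
    rw [orderOf_pow_of_dvd two_ne_zero h2]
    omega

end CA.H29Van
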