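import Cfsg.Agent.Lib.Loc.H6Ctl
import Cfsg.Agent.Lib.Loc.H6Fin
import Cfsg.Agent.Lib.Grp.Fus3

/-!
Further results on control of fusion and on sections `Qd(p)`.
-/

set_option autoImplicit false

namespace CA.H6Ctl2

open Subgroup Cfsg CA.Amb CA.AmbSyl CA.AmbCore CA.AmbRes CA.AmbChar CA.H6Op CA.H6Stab CA.H6PSolv
  CA.H6NPC CA.H6ZJ CA.H6Ctl CA.H6Qd CA.H6QdA
open CA.H6J hiding Z
open scoped commutatorElement MatrixGroups

universe u

section sec
variable {G : Type*} [Group G] {G' : Type*} [Group G'] {X : Type*} [Group X]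

theorem sec_inf {H N : Subgroup G} (h : Sec X H (H ⊓ N)) : Sec X H N :=
  let ⟨K, hK, ψ, h1, h2⟩ := h
  ⟨K, hK, ψ, h1, fun x hx => h2 x (mem_inf.2 ⟨hK x.2, hx⟩)⟩

theorem sec_of_top {L N : Subgroup G} (h : Sec X (⊤ : Subgroup L) (N.subgroupOf L)) : Sec X L N := by
  have := h.map_injective L.subtype_injective
  rw [map_subtype_top, subgroupOf_map_subtype, inf_comm] at this
  exact sec_inf this

theorem sec_map_of_ker (f : G →* G') {H : Subgroup G} (h : Sec X H f.ker) : Sec X (H.map f) ⊥ := by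
  obtain ⟨K, hK, ψ, h1, h2⟩ := h
  have hs := f.subgroupMap_surjective K
  let ψ' := (f.subgroupMap K).liftOfSurjective hs
    ⟨ψ, fun x hx => h2 x (congrArg Subtype.val (MonoidHom.mem_ker.1 hx))⟩
  refine ⟨K.map f, map_mono hK, ψ', fun y => ?_, fun x hx => ?_⟩
  · obtain ⟨x, rfl⟩ := h1 y
    exact ⟨f.subgroupMap K x, MonoidHom.liftOfRightInverse_comp_apply _ _ _ _ _⟩
  · rw [show x = 1 from Subtype.ext hx, map_one]

theorem exists_of_sec {H N : Subgroup G} (hN : N ≤ H) (hn : H ≤ 𝐍 N) (h : Sec X H N) :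
    ∃ (A B : Subgroup G) (_ : (B.subgroupOf A).Normal), N ≤ B ∧ B ≤ A ∧ A ≤ H ∧
      Nonempty ((A ⧸ B.subgroupOf A) ≃* X) := by
  obtain ⟨K, hK, ψ, h1, h2⟩ := h
  have hex : ∀ x : ↥(K ⊔ N), ∃ k : K, (k : G)⁻¹ * x ∈ N := fun x => by
    obtain ⟨k, hk, n, hn, e⟩ := (mem_sup_of_norm (hK.trans hn)).1 x.2
    exact ⟨⟨k, hk⟩, by rw [← e, inv_mul_cancel_left]; exact hn⟩
  choose κ hκ using hex
  have key : ∀ (x : ↥(K ⊔ N)) (k : K), (k : G)⁻¹ * x ∈ N → ψ (κ x) = ψ k := fun x k hk => by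
    have := h2 ((κ x)⁻¹ * k) (by simpa [mul_assoc] using mul_mem (hκ x) (inv_mem hk))
    rwa [map_mul, map_inv, inv_mul_eq_one] at this
  let ψ' : ↥(K ⊔ N) →* X := MonoidHom.mk' (fun x => ψ (κ x)) fun x y => by
    rw [← map_mul]
    refine key _ _ ?_
    have := mul_mem (inv_conj_mem_of_mem_normalizer (hn (hK (κ y).2)) (hκ x)) (hκ y)
    convert this using 1
    simp only [coe_mul]; group
  have hs : Function.Surjective ψ' := fun y => by
    obtain ⟨k, rfl⟩ := h1 y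
    exact ⟨⟨k, mem_sup_left k.2⟩, key _ k (by simp)⟩
  have e : (ψ'.ker.map (K ⊔ N).subtype).subgroupOf (K ⊔ N) = ψ'.ker :=
    comap_map_eq_self_of_injective (subtype_injective _) _
  have hn' : ((ψ'.ker.map (K ⊔ N).subtype).subgroupOf (K ⊔ N)).Normal := by rw [e]; infer_instance
  refine ⟨K ⊔ N, _, hn', fun n hn => ⟨⟨n, mem_sup_right hn⟩, ?_, rfl⟩, map_subtype_le _, sup_le hK hN,
    ⟨(QuotientGroup.quotientMulEquivOfEq e).trans (QuotientGroup.quotientKerEquivOfSurjective ψ' hs)⟩⟩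
  exact (key _ 1 (by simpa using hn)).trans (map_one ψ)

end sec

section
variable {G : Type*} [Group G] [Finite G] {p : ℕ} [hp : Fact p.Prime]

theorem ctl_of_sup_norm {L S T O : Subgroup G} (hO : O ≤ L) (hn : L ≤ 𝐍 O)
    (hc : (Nat.card O).Coprime p) (hS : IsPGroup p S) (hL : S ≤ L) (hT : T ≤ S)
    (h : L ≤ 𝐍 (T ⊔ O)) : Ctl L S (𝐍 T) := by
  have := normal_subgroupOf_of_norm hn
  have := normal_subgroupOf_of_norm h
  refine Ctl.of_subgroupOf hL ?_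
  rw [← Amb.normalizer_subgroupOf (hT.trans hL)]
  refine ctl_of_map_norm (f := QuotientGroup.mk' (O.subgroupOf L)) ?_ (isPGroup_subgroupOf hS L)
    le_top (comap_mono hT) ?_
  · rwa [top_inf_eq, QuotientGroup.ker_mk', H6Basic.card_subgroupOf, inf_eq_left.2 hO]
  · have e : (T.subgroupOf L).map (QuotientGroup.mk' (O.subgroupOf L)) =
        ((T ⊔ O).subgroupOf L).map (QuotientGroup.mk' (O.subgroupOf L)) := by
      rw [subgroupOf_sup (hT.trans hL) hO, Subgroup.map_sup, QuotientGroup.map_mk'_self, sup_bot_eq]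
    rw [e]
    exact norm_map _ norm_of_normal

theorem coprime_res_cent {T Q : Subgroup G} (hT : SylIn p T (𝐂 Q)) (h : T ≤ Q) :
    (Nat.card (pResidualOf p (𝐂 Q))).Coprime p :=
  (hp.out.coprime_iff_not_dvd.2 (hasNPC_iff_res.1 (Fus3.hasNPC_of_le_centralizer (sylIn_iff.1 hT)
    (cent_symm (centralizer_anti h))))).symm

/-- a group acting as `SL(2,p)` on a section that is the natural module -/
theorem sec_qd_of_theta_top (hp2 : p ≠ 2) {V N : Subgroup G} [V.Normal] [N.Normal]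
    (θ : G → Fin 2 → ZMod p) (hadd : ∀ v ∈ V, ∀ w ∈ V, θ (v * w) = θ v + θ w)
    (hs : ∀ c, ∃ v ∈ V, θ v = c)
    (h1 : ∀ x, ∃ M, ∀ v ∈ V, θ (x * v * x⁻¹) = mv M (θ v))
    (h2 : ∀ M, ∃ x, ∀ v ∈ V, θ (x * v * x⁻¹) = mv M (θ v))
    (hN : ∀ v ∈ V, v ∈ N → θ v = 0) : Sec (qd p) (⊤ : Subgroup G) N := by
  choose ψ0 hψ0 using h1
  choose s hsV hs using hs
  have huniq : ∀ x M, (∀ v ∈ V, θ (x * v * x⁻¹) = mv M (θ v)) → ψ0 x = M := fun x M h => by
    rw [← inv_mul_eq_one]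
    refine eq_one_of_mulVec fun c => ?_
    rw [mv_mul, ← hs c, ← h _ (hsV c), hψ0 _ _ (hsV c), mv_inv_mv]
  have hconj : ∀ x, ∀ v ∈ V, x * v * x⁻¹ ∈ V := fun x v hv => Normal.conj_mem inferInstance v hv x
  let ψ : G →* SL(2, ZMod p) := MonoidHom.mk' ψ0 fun x y => huniq _ _ fun v hv => by
    rw [mv_mul, ← hψ0 y v hv, ← hψ0 x _ (hconj y v hv)]
    congr 1; group
  have h0 : θ 1 = 0 := by simpa using hadd 1 (one_mem _) 1 (one_mem _)
  have hinv : ∀ v ∈ V, θ v⁻¹ = -θ v := fun v hv => by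
    rw [eq_neg_iff_add_eq_zero, ← hadd _ (inv_mem hv) _ hv, inv_mul_cancel, h0]
  let M0 : Subgroup G :=
    { carrier := {v | v ∈ V ∧ θ v = 0}
      one_mem' := ⟨one_mem _, h0⟩
      mul_mem' := fun {a b} ha hb => ⟨mul_mem ha.1 hb.1, by rw [hadd _ ha.1 _ hb.1, ha.2, hb.2, add_zero]⟩
      inv_mem' := fun {a} ha => ⟨inv_mem ha.1, by rw [hinv _ ha.1, ha.2, neg_zero]⟩ }
  have : M0.Normal := ⟨fun a ha g => ⟨hconj g a ha.1, by rw [hψ0 g a ha.1, ha.2, mv_zero]⟩⟩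
  have hker : N ⊔ M0 ≤ ψ.ker := by
    refine sup_le (fun n hn => huniq _ _ fun v hv => ?_) fun m hm => huniq _ _ fun v hv => ?_
    · have e : n * v * n⁻¹ = n * (v * n⁻¹ * v⁻¹) * v := by group
      have h3 : n * (v * n⁻¹ * v⁻¹) ∈ V := by
        simpa only [mul_assoc] using mul_mem (hconj n v hv) (inv_mem hv)
      rw [e, hadd _ h3 _ hv, hN _ h3 (mul_mem hn (Normal.conj_mem inferInstance _ (inv_mem hn) v)),
        mv_one, zero_add]
    · rw [hadd _ (mul_mem hm.1 hv) _ (inv_mem hm.1), hadd _ hm.1 _ hv, hinv _ hm.1, hm.2, mv_one]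
      simp
  let f := QuotientGroup.mk' (N ⊔ M0)
  have hf : ∀ v ∈ V, ∀ w ∈ V, θ v = θ w → f v = f w := fun v hv w hw e =>
    QuotientGroup.eq.2 (mem_sup_right (⟨mul_mem (inv_mem hv) hw, by
      rw [hadd _ (inv_mem hv) _ hw, hinv _ hv, e, neg_add_cancel]⟩ : v⁻¹ * w ∈ M0))
  have h := sec_qd_of_action hp2 (QuotientGroup.lift (N ⊔ M0) ψ hker) (fun M => by
      obtain ⟨x, hx⟩ := h2 M
      exact ⟨f x, huniq _ _ hx⟩) (fun c => f (s c)) (fun c d => by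
      rw [← map_mul]
      exact hf _ (hsV _) _ (mul_mem (hsV _) (hsV _)) (by rw [hadd _ (hsV _) _ (hsV _), hs, hs, hs]))
    (fun c hc => by
      obtain ⟨n, hn, m, hm, e⟩ := (mem_sup_of_norm norm_of_normal).1
        ((QuotientGroup.eq_one_iff _).1 hc)
      have h3 : n ∈ V := by
        rw [eq_mul_inv_of_mul_eq e]; exact mul_mem (hsV c) (inv_mem hm.1)
      rw [← hs c, ← e, hadd _ h3 _ hm.1, hN _ h3 hn, hm.2, add_zero])
    (fun x c => by
      obtain ⟨x, rfl⟩ := QuotientGroup.mk'_surjective _ x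
      rw [← map_inv, ← map_mul, ← map_mul]
      exact hf _ (hconj _ _ (hsV c)) _ (hsV _) (by rw [hψ0 _ _ (hsV c), hs, hs]; rfl))
  rw [← map_top_of_surjective f (QuotientGroup.mk'_surjective _)] at h
  refine h.of_map.mono le_rfl ?_
  rw [MonoidHom.comap_bot, QuotientGroup.ker_mk']
  exact le_sup_left

theorem sec_qd_of_theta (hp2 : p ≠ 2) {X V N : Subgroup G} (hVX : V ≤ X) (hV : X ≤ 𝐍 V)
    (hNX : X ≤ 𝐍 N) (θ : G → Fin 2 → ZMod p) (hadd : ∀ v ∈ V, ∀ w ∈ V, θ (v * w) = θ v + θ w)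
    (hs : ∀ c, ∃ v ∈ V, θ v = c)
    (h1 : ∀ x ∈ X, ∃ M, ∀ v ∈ V, θ (x * v * x⁻¹) = mv M (θ v))
    (h2 : ∀ M, ∃ x ∈ X, ∀ v ∈ V, θ (x * v * x⁻¹) = mv M (θ v))
    (hN : ∀ v ∈ V, v ∈ N → θ v = 0) : Sec (qd p) X N := by
  have := normal_subgroupOf_of_norm hV
  have := normal_subgroupOf_of_norm hNX
  refine sec_of_top (sec_qd_of_theta_top hp2 (V := V.subgroupOf X) (fun x => θ x)
    (fun v hv w hw => hadd _ hv _ hw) (fun c => ?_) (fun x => ?_) (fun M => ?_)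
    fun v hv hn => hN _ hv hn)
  · obtain ⟨v, hv, e⟩ := hs c
    exact ⟨⟨v, hVX hv⟩, hv, e⟩
  · obtain ⟨M, h⟩ := h1 x x.2
    exact ⟨M, fun v hv => h _ hv⟩
  · obtain ⟨x, hx, h⟩ := h2 M
    exact ⟨⟨x, hx⟩, fun v hv => h _ hv⟩

/-- a group involving `Qd(p)` involves it in the normalizer of a `p`-centric subgroup -/
theorem exists_centric_of_sec (hp2 : p ≠ 2) (h : Sec (qd p) (⊤ : Subgroup G) ⊥) :
    ∃ T : Subgroup G, IsPGroup p T ∧ SylIn p (T ⊓ 𝐂 T) (𝐂 T) ∧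
      ∀ N : Subgroup G, 𝐍 T ≤ 𝐍 N → T ⊓ N = ⊥ → Sec (qd p) (𝐍 T) N := by
  classical
  replace h : Sec (qdOver (ZMod p)) (⊤ : Subgroup G) ⊥ := h
  obtain ⟨K, -, g0, hg0, -⟩ := h
  obtain ⟨V1, hV1⟩ := exists_sylIn p ((V (ZMod p)).comap g0)
  obtain ⟨e1, e2⟩ := H6Fin.normalizer_le_map hg0 hV1 isPGroup_V
  let V0 := V1.map K.subtype
  have hV0 : IsPGroup p V0 := hV1.pg.map _
  let θ : G → Fin 2 → ZMod p := fun x => if h : x ∈ K then tr (g0 ⟨x, h⟩) else 0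
  have hθ : ∀ x : K, θ x = tr (g0 x) := fun x => dif_pos x.2
  have hadd : ∀ v ∈ V0, ∀ w ∈ V0, θ (v * w) = θ v + θ w := by
    rintro _ ⟨v, hv, rfl⟩ _ ⟨w, hw, rfl⟩
    obtain ⟨c, hc⟩ := mem_V.1 (hV1.le hv)
    obtain ⟨d, hd⟩ := mem_V.1 (hV1.le hw)
    rw [← map_mul]
    simp only [coe_subtype, hθ]
    rw [map_mul, hc, hd, tr_mul, tr_aff, tr_aff, tr_aff]
  have h0 : θ 1 = 0 := by simpa using hadd 1 (one_mem _) 1 (one_mem _)
  have hinv : ∀ v ∈ V0, θ v⁻¹ = -θ v := fun v hv => by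
    rw [eq_neg_iff_add_eq_zero, ← hadd _ (inv_mem hv) _ hv, inv_mul_cancel, h0]
  let A : G → SL(2, ZMod p) → Prop := fun x M => ∀ v ∈ V0, θ (x * v * x⁻¹) = mv M (θ v)
  have Amul : ∀ x y M M', y ∈ 𝐍 V0 → A x M → A y M' → A (x * y) (M * M') :=
    fun x y M M' hy h1 h2 v hv => by
      rw [mv_mul, ← h2 v hv, ← h1 _ (conj_mem_of_mem_normalizer hy hv)]
      congr 1; group
  let X0 : Subgroup G := Alperin.subgroupOfMul {x | x ∈ 𝐍 V0 ∧ ∃ M, A x M}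
    ⟨one_mem _, 1, fun v _ => by simp⟩ fun a b ⟨ha, M, hM⟩ ⟨hb, M', hM'⟩ =>
      ⟨mul_mem ha hb, _, Amul _ _ _ _ hb hM hM'⟩
  let X1 : Subgroup G := Alperin.subgroupOfMul {x | x ∈ 𝐍 V0 ∧ A x 1}
    ⟨one_mem _, fun v _ => by simp⟩ fun a b ⟨ha, hM⟩ ⟨hb, hM'⟩ =>
      ⟨mul_mem ha hb, by simpa using Amul _ _ _ _ hb hM hM'⟩
  have hX1 : V0 ⊔ 𝐂 V0 ≤ X1 := by
    refine sup_le (fun x hx => ⟨le_normalizer hx, fun v hv => ?_⟩)
      fun x hx => ⟨centralizer_le_normalizer _ hx, fun v hv => ?_⟩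
    · rw [hadd _ (mul_mem hx hv) _ (inv_mem hx), hadd _ hx _ hv, hinv _ hx, mv_one]; abel
    · rw [← mem_centralizer_sub.1 hx v hv, mul_inv_cancel_right, mv_one]
  obtain ⟨T, hT, hVT⟩ := exists_sylIn_ge hV0 (le_sup_left : V0 ≤ V0 ⊔ 𝐂 V0)
  refine ⟨T, hT.pg, hT.inf_of_norm_by ((centralizer_anti hVT).trans le_sup_right)
    (norm_centralizer le_normalizer), fun N hN hTN => ?_⟩
  refine (sec_qd_of_theta hp2 (X := X0 ⊓ 𝐍 T) (V := V0) (le_inf (fun x hx => ?_)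
    (hVT.trans le_normalizer)) (fun x hx => hx.1.1) (inf_le_right.trans hN) θ hadd (fun c => ?_)
    (fun x hx => hx.1.2) (fun M => ?_) fun v hv hn => ?_).mono inf_le_right le_rfl
  · exact ⟨le_normalizer hx, 1, (hX1 (mem_sup_left hx)).2⟩
  · obtain ⟨v, hv, e⟩ : aff 1 c ∈ V1.map g0 := e1.ge (aff_mem_V.2 rfl)
    exact ⟨v, mem_map_of_mem _ hv, by rw [hθ, e, tr_aff]⟩
  · obtain ⟨k, hk, e⟩ := e2 (norm_of_normal (mem_top (aff M 0)))
    have hk' : (k : G) ∈ 𝐍 V0 := norm_map K.subtype le_rfl (mem_map_of_mem _ hk)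
    have hA : A k M := by
      rintro _ ⟨v, hv, rfl⟩
      obtain ⟨c, hc⟩ := mem_V.1 (hV1.le hv)
      have := hθ (k * v * k⁻¹)
      rw [map_mul, map_mul, map_inv, e, hc, conj_tr, tr_aff] at this
      rw [coe_subtype, hθ, hc, tr_aff]
      exact this
    obtain ⟨n, hn, hn'⟩ := hT.frattini' (L := 𝐍 V0)
      (norm_sup le_rfl (norm_centralizer le_rfl)) hk'
    have h3 := Amul _ _ _ _ (hX1 hn).1 hA (hX1 hn).2
    rw [mul_one] at h3
    exact ⟨k * n, mem_inf.2 ⟨⟨mul_mem hk' (hX1 hn).1, M, h3⟩, hn'⟩, h3⟩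
  · rw [mem_bot.1 (hTN.le (mem_inf.2 ⟨hVT hv, hn⟩)), h0]

/-- one step of a series of strongly closed subgroups with abelian factors -/
def Step (L S U V : Subgroup G) : Prop := U ≤ V ∧ V ≤ S ∧ SC L S V ∧ ⁅V, V⁆ ≤ U

omit [Finite G] hp in
theorem sc_of_ctl {S H D : Subgroup G} (h : Ctl ⊤ S H) (hD : D ≤ S) (h' : SC H S D) : SC ⊤ S D :=
  fun x hx g hg hgx => by
    obtain ⟨m, hm, k⟩ := h.elem (hD hx) hg hgx
    exact k ▸ h' x hx m hm.2 (k ▸ hgx)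

end

theorem chain_of_free {p : ℕ} [hp : Fact p.Prime] (hp2 : p ≠ 2) (G : Type u) [Group G] [Finite G]
    (S : Subgroup G) (h : ¬ Sec (qd p) (⊤ : Subgroup G) ⊥) (hS : SylIn p S ⊤) :
    Relation.ReflTransGen (Step ⊤ S) ⊥ S := by
  induction hn : Nat.card G using Nat.strong_induction_on generalizing G with
  | _ n ih =>
  subst hn
  by_cases hS0 : S = ⊥
  · rw [hS0]
  have hF := fn_ZJ (p := p) (dvd_zero p)
  set W := H6J.Z (J 0 S)
  have hWS : W ≤ S := hF.le S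
  have hc : Ctl ⊤ S (𝐍 W) := ctl_of_free hp2 (dvd_zero p) fn_id h hS le_rfl (sc_self _ _)
  have hSN : S ≤ 𝐍 W := le_normalizer.trans (hF.norm hS.pg)
  have : (W.subgroupOf (𝐍 W)).Normal := normal_subgroupOf_of_norm le_rfl
  let f := QuotientGroup.mk' (W.subgroupOf (𝐍 W))
  have hf : f.ker = W.subgroupOf (𝐍 W) := QuotientGroup.ker_mk' _
  have hfs : Function.Surjective f := QuotientGroup.mk'_surjective _
  have hW0 : W.subgroupOf (𝐍 W) ≠ ⊥ := fun h0 => hF.ne_bot hS.pg hS0 (by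
    rw [subgroupOf_eq_bot, disjoint_iff, inf_eq_left.2 le_normalizer] at h0; exact h0)
  have h1 := ih _ ((card_quot_lt hW0).trans_le (card_le_card_group _)) _ _
    (free_quo _ _ _ (free_sub _ _ _ h))
    (sylIn_map_top (sylIn_subgroupOf_top (hS.mono hSN le_top)) hfs) rfl
  have hSc : ((S.subgroupOf (𝐍 W)).map f).comap f = S.subgroupOf (𝐍 W) :=
    comap_map_eq_self (hf.le.trans (comap_mono hWS))
  have h2 := h1.lift (p := Step ⊤ S) (fun U => (U.comap f).map (𝐍 W).subtype) (by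
    rintro U V ⟨k1, k2, k3, k4⟩
    have k5 : (V.comap f).map (𝐍 W).subtype ≤ S := by
      rw [map_le_iff_le_comap]; exact (comap_mono k2).trans hSc.le
    refine ⟨map_mono (comap_mono k1), k5, sc_of_ctl hc k5 ?_, ?_⟩
    · rintro _ ⟨x, hx, rfl⟩ g hg hgx
      refine ⟨⟨g, hg⟩ * x * ⟨g, hg⟩⁻¹, ?_, rfl⟩
      have := k3 (f x) hx (f ⟨g, hg⟩) (mem_top _) (by
        rw [← map_inv, ← map_mul, ← map_mul]; exact mem_map_of_mem f hgx)
      simpa only [map_mul, map_inv, SetLike.mem_coe, mem_comap] using this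
    · rw [← map_commutator]
      refine map_mono (map_le_iff_le_comap.1 ?_)
      rw [map_commutator, map_comap_eq_self_of_surjective hfs]
      exact k4)
  beta_reduce at h2
  rw [Function.onFun, hSc, map_subgroupOf_eq_of_le hSN, MonoidHom.comap_bot, hf,
    map_subgroupOf_eq_of_le le_normalizer] at h2
  exact .head ⟨bot_le, hWS, hc.sc hWS inf_le_right,
    (comm_eq_bot_of_le (le_cent_of_isMulCommutative (isMulCommutative_Z _))).le⟩ h2

/-- no automizer of a `p`-subgroup involves `SL(2,p)` -/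
def AutFree (p : ℕ) (G : Type*) [Group G] : Prop :=
  ∀ Q : Subgroup G, IsPGroup p Q → ¬ Sec SL(2, ZMod p) (𝐍 Q) (𝐂 Q)

theorem cons_of_autFree {p : ℕ} [hp : Fact p.Prime] (hp2 : p ≠ 2) {G : Type u} [Group G] [Finite G]
    (h : AutFree p G) {S : Subgroup G} (hS : SylIn p S ⊤) : Cons ⊤ S := by
  refine cons_main (fun G _ => AutFree p G) (fun G _ _ H h Q hQ h' => ?_)
    (fun G _ _ N _ h Q hQ h' => ?_) (fn_ZJ (dvd_zero p)) (fun G _ _ S h1 h2 h3 => ?_) G S h hS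
  · have := h'.map_injective H.subtype_injective
    rw [map_subtype_normalizer, map_subtype_centralizer] at this
    refine h _ (hQ.map H.subtype) ((sec_inf (this.mono le_rfl ?_)).mono inf_le_right le_rfl)
    exact inf_le_inf_right _ inf_le_left
  · obtain ⟨P, hP⟩ := exists_sylIn p (Q.comap (QuotientGroup.mk' N))
    obtain ⟨e1, e2⟩ := H6Fin.normalizer_le_map (QuotientGroup.mk'_surjective N) hP hQ
    refine h P hP.pg ((h'.mono e2 le_rfl).of_map.mono le_rfl ?_)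
    rw [← map_le_iff_le_comap, ← e1]
    exact cent_map _ le_rfl
  · exact normal_of_top_le (zj_Z hp2 (dvd_zero p) h2 h3 fun V _ hn hV =>
      stab_of_not_sec hp2 hV hn fun h' => h1 V hV (h'.mono hn le_rfl))

end CA.H6Ctl2
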