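import Cfsg.Agent.Lib.Loc.H6Off
import Cfsg.Agent.Lib.Loc.H6ZJ
import Cfsg.Agent.Lib.Fus.FusGl
import Cfsg.Agent.Lib.Grp.PGBasic
import Cfsg.Prelude.Def_DStar

/-!
The subgroup `D*(S)`; Thompson's replacement lemma for a single element.
-/

set_option autoImplicit false

namespace CA.H6DS

open Subgroup Cfsg CA.Amb CA.AmbSyl CA.AmbCore CA.AmbRes CA.AmbChar CA.H6Op
open CA.H6J hiding Z
open scoped commutatorElement

variable {G : Type*} [Group G] {p : ℕ}

theorem thompson [Finite G] {X A : Subgroup G} (hA : A ∈ mx 0 X) {x : G} (hx : x ∈ X)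
    (hM : IsMulCommutative (closure {g : G | ∃ a ∈ A, g = ⁅x, a⁆})) :
    closure {g : G | ∃ a ∈ A, g = ⁅x, a⁆} ⊔ A ⊓ 𝐂 (closure {g : G | ∃ a ∈ A, g = ⁅x, a⁆}) ∈
      mx 0 X := by
  set M := closure {g : G | ∃ a ∈ A, g = ⁅x, a⁆} with hY
  have hm : ∀ a ∈ A, ⁅x, a⁆ ∈ M := fun a ha => subset_closure ⟨a, ha, rfl⟩
  have hMX : M ≤ X := by
    rw [hY, closure_le]
    rintro _ ⟨a, ha, rfl⟩
    exact comm_le_of_le le_rfl le_rfl (commutator_mem_commutator hx (hA.1 ha))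
  set B := A ⊓ 𝐂 M
  have key : B.relIndex A ≤ (𝐂 A).relIndex M := by
    let φ : (A ⧸ B.subgroupOf A) → (M ⧸ (𝐂 A).subgroupOf M) := fun q =>
      QuotientGroup.mk ⟨⁅x, (q.out : G)⁆, hm _ q.out.2⟩
    refine Nat.card_le_card_of_injective φ fun q r e => ?_
    rw [← q.out_eq, ← r.out_eq]
    refine QuotientGroup.eq.2 ?_
    have h1 := QuotientGroup.eq.1 e
    rw [mem_subgroupOf] at h1 ⊢
    generalize q.out = a at *
    generalize r.out = b at *
    obtain ⟨a, ha⟩ := a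
    obtain ⟨b, hb⟩ := b
    simp only [coe_mul, coe_inv] at h1 ⊢
    set c := a⁻¹ * b with hc
    have hcA : c ∈ A := mul_mem (inv_mem ha) hb
    have h2 : ⁅x, a⁆⁻¹ * ⁅x, b⁆ = a * ⁅x, c⁆ * a⁻¹ := by
      simp only [hc, commutatorElement_def]; group
    rw [h2] at h1
    have h3 : ⁅x, c⁆ ∈ 𝐂 A := by
      simpa [mul_assoc] using inv_conj_mem_of_mem_normalizer (norm_centralizer le_normalizer ha) h1
    refine ⟨hcA, cent_symm (H := M) (K := zpowers c) ?_ (mem_zpowers c)⟩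
    rw [hY, closure_le, centralizer_zpowers]
    rintro _ ⟨d, hd, rfl⟩
    rw [SetLike.mem_coe, mem_centralizer_singleton_iff]
    have k1 := hA.2.1.comm hcA hd
    have k2 := h3 d hd
    have k3 := H6Basic.comm_of_isMulCommutative hM (hm c hcA) (hm d hd)
    generalize c = c at *
    have k4 : ⁅x, c⁆ * (c * ⁅x, d⁆ * c⁻¹) = ⁅x, c⁆ * ⁅x, d⁆ :=
      calc _ = ⁅x, c * d⁆ := by simp only [commutatorElement_def]; group
        _ = ⁅x, d⁆ * (d * ⁅x, c⁆) * d⁻¹ := by rw [k1]; simp only [commutatorElement_def]; group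
        _ = _ := by rw [k2, k3]; group
    exact (mul_inv_eq_iff_eq_mul.1 (mul_left_cancel k4)).symm
  have hM' := isAb_zero_iff.2 hM
  refine mem_mx_of_card_le hA (sup_le hMX (inf_le_left.trans hA.1))
    (hM'.sup (hA.2.1.of_le inf_le_left) (cent_symm inf_le_right)) ?_
  have k1 := card_sup_mul_card_inf (H := M) (N := B) (norm_of_centralizer (cent_symm inf_le_right))
  have k2 : M ⊓ B = 𝐂 A ⊓ M := le_antisymm
    (le_inf (inf_le_right.trans (inf_le_left.trans hA.2.1.le_centralizer)) inf_le_left)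
    (le_inf inf_le_right (le_inf (le_of_le_centralizer hA (inf_le_right.trans hMX)
      (fun _ _ => pow_zero _) inf_le_left) (inf_le_right.trans hM'.le_centralizer)))
  rw [k2, ← card_inf_mul_relIndex (𝐂 A) M, mul_assoc, mul_comm] at k1
  rw [Nat.eq_of_mul_eq_mul_left Nat.card_pos k1, ← card_mul_relIndex (inf_le_left : B ≤ A), mul_comm]
  exact Nat.mul_le_mul_right _ key

/-- Gillam's theorem -/
theorem gillam [Finite G] {S A : Subgroup G} (hS : IsMulCommutative ↥⁅S, S⁆) (hA : A ∈ mx 0 S) :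
    ∃ B ∈ mx 0 S, S ≤ 𝐍 B ∧ B ≤ ncl A S := by
  obtain ⟨B, ⟨h1, h2⟩, hmax⟩ := Set.exists_max_image {B | B ∈ mx 0 S ∧ B ≤ ncl A S}
    (fun B => Nat.card ↥(B ⊓ ⁅S, S⁆)) (Set.toFinite _) ⟨A, hA, le_ncl _ _⟩
  refine ⟨B, h1, le_normalizer_iff_cj.2 fun x hx => cj_le_iff'.2 fun b hb => ?_, h2⟩
  have hM : closure {g : G | ∃ a ∈ B, g = ⁅x, a⁆} ≤ ⁅S, B⁆ := by
    rw [closure_le]
    rintro _ ⟨a, ha, rfl⟩
    exact commutator_mem_commutator hx ha
  have hM' := hM.trans (commutator_mono le_rfl h1.1)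
  have h3 := H6Basic.eq_of_le_of_card_le (le_inf (le_sup_of_le_right (le_inf inf_le_left
    (inf_le_right.trans ((isAb_zero_iff.2 hS).le_centralizer.trans (centralizer_anti hM')))))
    inf_le_right) (hmax _ ⟨thompson h1 hx (H6Basic.isMulCommutative_of_le hS hM'), sup_le
      (hM.trans ((commutator_mono le_rfl h2).trans (commutator_le_right_of_norm (norm_ncl _ _))))
      (inf_le_left.trans h2)⟩)
  have h4 : ⁅x, b⁆ ∈ B := ((le_inf le_sup_left hM').trans h3.ge (subset_closure ⟨b, hb, rfl⟩)).1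
  simpa [commutatorElement_def] using mul_mem h4 hb

/-- the defining property of the family behind `D*` -/
def Fam (S A : Subgroup G) : Prop :=
  A ≤ S ∧ IsMulCommutative A ∧ ∀ x ∈ S,
    ⁅⁅A ⊔ zpowers x, A ⊔ zpowers x⁆, A ⊔ zpowers x⁆ = ⊥ → x ∈ 𝐂 A

def DS (S : Subgroup G) : Subgroup G := sSup {A | Fam S A}

theorem class_two {A : Subgroup G} {x : G} (hA : IsMulCommutative A)
    (h : ⁅A, zpowers x⁆ ≤ 𝐂 A ⊓ 𝐂 (zpowers x)) :
    ⁅⁅A ⊔ zpowers x, A ⊔ zpowers x⁆, A ⊔ zpowers x⁆ = ⊥ := by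
  rw [← centralizer_sup] at h
  have hn : A ⊔ zpowers x ≤ 𝐍 (𝐂 (A ⊔ zpowers x)) := norm_centralizer le_normalizer
  have h1 := le_sup_left.trans hn
  have h2 := le_sup_right.trans hn
  refine comm_eq_bot_of_le (comm_sup_le h1 h2 (comm_sup_le' h1 h2 ?_ h)
    (comm_sup_le' h1 h2 ((commutator_comm _ _).le.trans h) ?_))
  · exact (comm_eq_bot_of_le (isAb_zero_iff.2 hA).le_centralizer).le.trans bot_le
  · exact (comm_eq_bot_of_le (isAb_zpowers (pow_zero x)).le_centralizer).le.trans bot_le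

theorem fam_map {G' : Type*} [Group G'] {f : G →* G'} (hf : Function.Injective f) {S A : Subgroup G} :
    Fam (S.map f) (A.map f) ↔ Fam S A := by
  have e : ∀ x, ⁅⁅A.map f ⊔ zpowers (f x), A.map f ⊔ zpowers (f x)⁆, A.map f ⊔ zpowers (f x)⁆ = ⊥ ↔
      ⁅⁅A ⊔ zpowers x, A ⊔ zpowers x⁆, A ⊔ zpowers x⁆ = ⊥ := fun x => by
    rw [← MonoidHom.map_zpowers, ← Subgroup.map_sup, ← map_commutator, ← map_commutator,
      map_eq_bot_iff_of_injective _ hf]
  have e' : ∀ x, f x ∈ 𝐂 (A.map f) ↔ x ∈ 𝐂 A := fun x => by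
    rw [← mem_map_iff_mem hf, map_centralizer_of_injective hf]
    exact ⟨fun h => ⟨⟨x, rfl⟩, h⟩, fun h => h.2⟩
  refine and_congr (map_le_map_iff_of_injective hf) (and_congr ?_ ⟨fun h x hx h' => ?_, ?_⟩)
  · rw [← isAb_zero_iff, ← isAb_zero_iff, isAb_map_iff hf]
  · exact (e' x).1 (h _ ⟨x, hx, rfl⟩ ((e x).2 h'))
  · rintro h _ ⟨x, hx, rfl⟩ h'
    exact (e' x).2 (h x hx ((e x).1 h'))

theorem DS_le (S : Subgroup G) : DS S ≤ S := sSup_le fun _ h => h.1

theorem DS_map {G' : Type*} [Group G'] {f : G →* G'} (hf : Function.Injective f) (S : Subgroup G) :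
    DS (S.map f) = (DS S).map f := by
  refine le_antisymm (sSup_le fun A hA => ?_)
    (map_le_iff_le_comap.2 (sSup_le fun A hA => map_le_iff_le_comap.1
      (le_sSup ((fam_map hf).2 hA))))
  have e := map_comap_eq_self (hA.1.trans (map_le_range f S))
  rw [← e] at hA ⊢
  exact map_mono (le_sSup ((fam_map hf).1 hA))

theorem mem_fam_iff {A : Subgroup G} : A ∈ dStarFamily G ↔ Fam ⊤ A :=
  ⟨fun h => ⟨le_top, h.1, fun x _ h' => mem_centralizer_sub.2 (h.2 x h')⟩,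
    fun h => ⟨h.2.1, fun x h' => mem_centralizer_sub.1 (h.2.2 x (mem_top x) h')⟩⟩

theorem dStar_eq : dStar G = DS ⊤ := congrArg sSup (Set.ext fun _ => mem_fam_iff)

theorem dStarOf_eq (S : Subgroup G) : dStarOf S = DS S := by
  rw [dStarOf, dStar_eq, ← DS_map S.subtype_injective, map_subtype_top]

theorem norm_DS (S : Subgroup G) : 𝐍 S ≤ 𝐍 (DS S) := fun g hg =>
  cj_eq_self_iff.1 ((DS_map (conj_injective g) S).symm.trans (congrArg DS (cj_eq_self hg)))

theorem Z_le_DS (S : Subgroup G) : H6J.Z S ≤ DS S :=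
  le_sSup ⟨inf_le_left, isMulCommutative_Z S, fun _ hx _ => cent_symm inf_le_right hx⟩

variable [Finite G] [hp : Fact p.Prime] {S A B : Subgroup G}

theorem Fam.le_cent (hS : IsPGroup p S) (h : Fam S A) (hB : B ≤ S) (hB' : IsMulCommutative B)
    (hn : A ≤ 𝐍 B) : B ≤ 𝐂 A := by
  refine (eq_of_inf_normalizer_le ((hS.to_le h.1).to_sup_of_normal_right' (hS.to_le hB) hn)
    (Q := A ⊔ B ⊓ 𝐂 A) (sup_le_sup_left inf_le_left _) ?_).ge.trans
    (sup_le (isAb_zero_iff.2 h.2.1).le_centralizer inf_le_right) |> le_sup_right.trans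
  rintro y ⟨h1, h2⟩
  obtain ⟨a, ha, x, hx, rfl⟩ := (mem_sup_of_norm hn).1 h1
  have h3 : x ∈ 𝐍 (A ⊔ B ⊓ 𝐂 A) := by
    simpa using mul_mem (inv_mem (le_normalizer (mem_sup_left ha : a ∈ A ⊔ B ⊓ 𝐂 A))) h2
  refine mul_mem (mem_sup_left ha) (mem_sup_right ⟨hx, h.2.2 x (hB hx) (class_two h.2.1 (le_inf
    ?_ ?_))⟩)
  · exact ((commutator_mono le_sup_left le_rfl).trans (commutator_le_left_of_norm
      (zpowers_le.2 h3))).trans (sup_le (isAb_zero_iff.2 h.2.1).le_centralizer inf_le_right)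
  · exact ((commutator_mono le_rfl (zpowers_le.2 hx)).trans (commutator_le_right_of_norm hn)).trans
      ((isAb_zero_iff.2 hB').le_centralizer.trans (centralizer_anti (zpowers_le.2 hx)))

theorem DS_le_of_cent (hS : IsPGroup p S) (hB : B ≤ S) (hB' : IsMulCommutative B) (hn : S ≤ 𝐍 B)
    (hc : S ⊓ 𝐂 B ≤ B) : DS S ≤ B :=
  sSup_le fun _ h => (le_inf h.1 (cent_symm (h.le_cent hS hB hB' (h.1.trans hn)))).trans hc

omit [Finite G] hp in
theorem Fam.of_le (h : Fam S A) (hAB : A ≤ B) {x : G} (hx : x ∈ S)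
    (h' : ⁅⁅B ⊔ zpowers x, B ⊔ zpowers x⁆, B ⊔ zpowers x⁆ = ⊥) : x ∈ 𝐂 A :=
  have e := sup_le_sup_right hAB (zpowers x)
  h.2.2 x hx (eq_bot_iff.2 ((commutator_mono (commutator_mono e e) e).trans h'.le))

theorem fam_DS_top (hG : IsPGroup p G) : Fam ⊤ (DS (⊤ : Subgroup G)) := by
  haveI := hG.isNilpotent
  obtain ⟨B, h1, h2, -, h3⟩ := PGBasic.exists_scn (⊥ : Subgroup G)
  refine ⟨le_top, H6Basic.isMulCommutative_of_le h2 (DS_le_of_cent (hG.to_subgroup ⊤) le_top h2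
    norm_of_normal (inf_le_right.trans h3.le)), fun x hx h => ?_⟩
  exact cent_symm (H := DS ⊤) (K := zpowers x) (sSup_le fun A hA => cent_symm (zpowers_le.2
    (hA.of_le (le_sSup hA) hx h))) (mem_zpowers x)

theorem fam_DS (hS : IsPGroup p S) : Fam S (DS S) := by
  have := (fam_map S.subtype_injective).2 (fam_DS_top hS)
  rwa [← DS_map S.subtype_injective, map_subtype_top] at this

omit [Finite G] hp in
theorem Fam.mem_cent (h : Fam S A) {x : G} (hx : x ∈ S) (hn : x ∈ 𝐍 A)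
    (hq : ⁅A, zpowers x⁆ ≤ 𝐂 (zpowers x)) : x ∈ 𝐂 A :=
  h.2.2 x hx (class_two h.2.1 (le_inf ((commutator_le_left_of_norm (zpowers_le.2 hn)).trans
    (isAb_zero_iff.2 h.2.1).le_centralizer) hq))

theorem DS_le_ZJ (hS : IsPGroup p S) : DS S ≤ H6J.Z (J 0 S) := by
  have h := fam_DS hS
  have hn := le_normalizer.trans (norm_DS S)
  have h1 : J 0 S ≤ 𝐂 (DS S) := by
    by_contra h1
    obtain ⟨A, hA, h2, h3⟩ := FusGl.exists_quad hS (isAb_zero_iff.2 h.2.1) h.1 hn h1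
    refine h3 fun a ha => h.mem_cent (hA.1 ha) (hn (hA.1 ha)) ?_
    have e := zpowers_le.2 ha
    exact (commutator_mono le_rfl e).trans ((cent_symm (commutator_eq_bot_iff'.1 h2)).trans
      (centralizer_anti e))
  obtain ⟨A, hA⟩ := mx_nonempty 0 S
  exact le_inf (fun x hx => le_J hA (mem_mx_of_mem_centralizer_J hA (h.1 hx) (cent_symm h1 hx)
    (pow_zero x))) (cent_symm h1)

/-- the `D*`-theorem -/
theorem norm_DS_of_stab {L : Subgroup G} (hS : SylIn p S L) (hc : CharP p L)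
    (hst : ∀ V, V ≤ L → L ≤ 𝐍 V → IsPGroup p V → Stab p L V) : L ≤ 𝐍 (DS S) := by
  have h := fam_DS hS.pg
  have hO := pCoreOf_le_syl hS
  have h1 : DS S ≤ pCoreOf p L := H6ZJ.le_pCoreOf_of_stab hc (hst _ (pCoreOf_le p L)
    (norm_pCoreOf p L) (isPGroup_pCoreOf p L)) (h.1.trans hS.le) (hS.pg.to_le h.1) h.2.1
    (hO.trans (le_normalizer.trans (norm_DS S)))
  have h2 : ∀ g ∈ L, Fam (cj g S) (cj g (DS S)) := fun g _ => (fam_map (conj_injective g)).2 h
  have h3 : ncl (DS S) L ≤ pCoreOf p L := ncl_le h1 (norm_pCoreOf p L)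
  have h4 : ∀ g ∈ L, cj g S ≤ 𝐍 (cj g (DS S)) := fun g _ =>
    norm_map _ (le_normalizer.trans (norm_DS S))
  have h5 : ncl (DS S) L ≤ 𝐂 (ncl (DS S) L) := ncl_le_cent (norm_ncl _ _) (cent_symm
    (ncl_le_iff.2 fun g hg => h.le_cent hS.pg ((cj_le_ncl _ hg).trans (h3.trans hO)) (h2 g hg).2.1
      (h1.trans ((pCoreOf_le_syl (hS.conj_mem hg)).trans (h4 g hg)))))
  have hn := norm_ncl (DS S) L
  set W := ncl (DS S) L with hW
  have h6 : Fam S W := by
    refine ⟨h3.trans hO, le_centralizer_iff_isMulCommutative.1 h5, fun x hx hq => ?_⟩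
    have hq' : ⁅⁅W, zpowers x⁆, zpowers x⁆ = ⊥ := eq_bot_iff.2 ((commutator_mono
      (commutator_mono le_sup_left le_sup_right) le_sup_right).trans hq.le)
    have hp' := (isPGroup_pCoreOf p L).to_le h3
    have hx' := (hst W (h3.trans (pCoreOf_le p L)) hn hp').mem hp' hn (hS.le hx) hq'
    refine cent_symm (H := W) (K := zpowers x) (ncl_le_iff.2 fun g hg => cent_symm (zpowers_le.2 ?_))
      (mem_zpowers x)
    have hs := hS.conj_mem hg
    have hW' := cj_le_ncl (DS S) hg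
    obtain ⟨s, hs', c, hc', rfl⟩ := (mem_sup_of_norm (norm_centralizer (hs.le.trans hn))).1
      (Op_le_sup hs hx')
    refine mul_mem ((h2 g hg).mem_cent hs' (h4 g hg hs') ?_) (centralizer_anti hW' hc')
    have k1 : zpowers s ≤ zpowers (s * c) ⊔ 𝐂 W := zpowers_le.2 (by
      simpa using mul_mem (mem_sup_left (mem_zpowers (s * c)))
        (inv_mem (mem_sup_right hc' : c ∈ zpowers (s * c) ⊔ 𝐂 W)))
    have k2 := zpowers_le.2 (hn (hS.le hx))
    refine (commutator_mono hW' k1).trans ((comm_sup_cent k2 le_rfl).le.trans (cent_symm (k1.trans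
      (sup_le (commutator_eq_bot_iff'.1 hq') (centralizer_anti (commutator_le_left_of_norm k2))))))
  exact le_normalizer_iff_cj.2 fun g hg => (cj_le_ncl _ hg).trans (le_sSup h6)

end CA.H6DS
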