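import Cfsg.Agent.Lib.Loc.H6Pull
import Cfsg.Agent.Lib.Loc.H6PU
import Cfsg.Agent.Lib.Loc.H6SL

/-! Rank one subgroups over the Baumann subgroup in `p`-minimal groups. -/

set_option autoImplicit false
set_option linter.unusedVariables false

namespace CA.H6Exp

open Subgroup Cfsg CA.Amb CA.AmbSyl CA.AmbCore CA.AmbRes CA.AmbWC CA.AmbSpe CA.H6Nat CA.H6Nat2
open CA.H6Core CA.H6Core2 CA.H6Off CA.H6TV1 CA.H6TV2 CA.H6TV3 CA.H6TV4 CA.H6TV5 CA.H6TV5.CL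
open CA.H6TV6 CA.H6TV7 CA.H6TV8 CA.H6PD CA.H6J CA.H6Bau CA.H6Pull CA.H6E0 CA.H6Am1 CA.H6Am2 CA.H6Am3
open CA.H6KS2 (Mod exists_mod)
open scoped commutatorElement MatrixGroups Matrix

universe u

variable {G : Type*} [Group G] {p q : ℕ}

theorem ex_fix [Finite G] [Fact p.Prime] {P Y : Subgroup G} (hP : IsPGroup p P) :
    ∀ (n : ℕ) (W : Subgroup G), Nat.card W = n → IsPGroup p W → P ≤ 𝐍 W → ¬ W ≤ Y →
      ∃ v ∈ W, v ∉ Y ∧ ∀ b ∈ P, ⁅b, v⁆ ∈ Y := by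
  intro n
  induction n using Nat.strong_induction_on with
  | _ n ih =>
    intro W hc hW hn h1
    by_cases h2 : ⁅W, P⁆ ≤ Y
    · obtain ⟨v, hv, hv'⟩ := SetLike.not_le_iff_exists.1 h1
      exact ⟨v, hv, hv', fun b hb => comm_symm_mem (h2 (commutator_mem_commutator hv hb))⟩
    · have hlt := commutator_lt hP hW hn fun e => h1 (e ▸ bot_le)
      obtain ⟨v, hv, h3⟩ := ih _ (hc ▸ card_lt_of_lt hlt) _ rfl (hW.to_le hlt.le) (norm_comm_right _ _) h2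
      exact ⟨v, hlt.le hv, h3⟩

section ext

variable {F : Type*} [Field F] {E U U₀ X : Subgroup G}

open Classical in
/-- extension of a natural module to a larger group acting by matrices of determinant one -/
noncomputable def ext (d : ND F E U U₀) (hn : X ≤ 𝐍 U)
    (h : ∀ x ∈ X, ∃ m : SL(2, F), ∀ u ∈ U, d.ψ (x * u * x⁻¹) = m.1 *ᵥ d.ψ u) : ND F X U U₀ :=
  have hr : ∀ {x} (hx : x ∈ X), ∀ u ∈ U, d.ψ (x * u * x⁻¹) =
      (if hx : x ∈ X then (h x hx).choose else 1).1 *ᵥ d.ψ u := fun {x} hx => by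
    rw [dif_pos hx]; exact (h x hx).choose_spec
  { norm := hn
    le := d.le
    r := fun x => if hx : x ∈ X then (h x hx).choose else 1
    ψ := d.ψ
    r_mul := fun {a b} ha hb => sl_mulVec_ext fun x => by
      obtain ⟨u, hu, rfl⟩ := d.ψ_surj x
      rw [sl_mul_mulVec, ← hr hb u hu, ← hr ha _ (conj_mem_of_mem_normalizer (hn hb) hu),
        ← hr (mul_mem ha hb) u hu]
      congr 1; group
    ψ_mul := d.ψ_mul
    ψ_surj := d.ψ_surj
    ψ_zero := d.ψ_zero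
    act := fun he hu => hr he _ hu }

theorem ext_r (d : ND F E U U₀) (hn : X ≤ 𝐍 U)
    (h : ∀ x ∈ X, ∃ m : SL(2, F), ∀ u ∈ U, d.ψ (x * u * x⁻¹) = m.1 *ᵥ d.ψ u) {x : G} (hx : x ∈ X)
    (he : x ∈ E) : (ext d hn h).r x = d.r x := sl_mulVec_ext fun y => by
  obtain ⟨u, hu, rfl⟩ := d.ψ_surj y
  rw [← d.act he hu]
  exact ((ext d hn h).act hx hu).symm

theorem ex_mat (d : ND F E U U₀) (hn : X ≤ 𝐍 U) (h : X ≤ E ⊔ Kn U U₀) :
    ∀ x ∈ X, ∃ m : SL(2, F), ∀ u ∈ U, d.ψ (x * u * x⁻¹) = m.1 *ᵥ d.ψ u := by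
  intro x hx
  obtain ⟨e, he, k, hk, rfl⟩ := (mem_sup_of_norm (norm_Kn d.norm d.norm₀)).1 (h hx)
  refine ⟨d.r e, fun u hu => ?_⟩
  have h1 := (mem_Kn'.1 hk).2 u hu
  have h2 : k * u * k⁻¹ ∈ U := mem_of_div' (a := u) (d.le h1) hu
  rw [← (d.ψ_eq_iff h2 hu).2 h1, ← d.act he h2]
  congr 1; group

theorem nt_ext (h : Nt F E U U₀) (hE : E ≤ X) (hn : X ≤ 𝐍 U) (hX : X ≤ E ⊔ Kn U U₀) : Nt F X U U₀ := by
  obtain ⟨d, hd⟩ := H6Nat.acts_iff.1 h
  refine H6Nat.acts_iff.2 ⟨ext d hn (ex_mat d hn hX), eq_top_iff.2 fun m _ => ?_⟩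
  obtain ⟨e, he, rfl⟩ := (d.mem_rim le_rfl).1 (hd ▸ mem_top m)
  exact ((ext d hn _).mem_rim le_rfl).2 ⟨e, hE he, ext_r d hn _ (hE he) he⟩

end ext

section loc

variable [Finite G] [Fact p.Prime] {V P T M A L B : Subgroup G} {𝒟 : Set (Subgroup G)}

theorem np_kn (n : NP p V A L) (hV : IsPGroup p V) {c : G} (hc : IsPGroup p (zpowers c))
    (h1 : c ∈ 𝐂 L) (h2 : c ∈ 𝐍 V) : c ∈ Kn V (V ⊓ 𝐂 L) := by
  have n0 : ∀ {X : Subgroup G}, X ≤ 𝐍 V → X ≤ 𝐍 L → X ≤ 𝐍 (V ⊓ 𝐂 L) := fun a b =>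
    norm_inf a (norm_centralizer b)
  have hz : zpowers c ≤ 𝐍 V := zpowers_le.2 h2
  have hz' : zpowers c ≤ 𝐂 L := zpowers_le.2 h1
  obtain ⟨v, hv, hv', h3⟩ := ex_fix (Y := V ⊓ 𝐂 L) hc _ V rfl hV hz fun h =>
    n.not_le_cent (h.trans (inf_le_right.trans (centralizer_anti n.le)))
  have hVn : V ≤ 𝐍 (V ⊓ 𝐂 L) := by
    obtain ⟨F, _, _, -, -, c⟩ := n.ex
    exact c.nt.normU₀
  have h4 := n.le_sup (W := Fx V (V ⊓ 𝐂 L) (zpowers c)) (Fx_le _ _ _) (norm_Fx n.norm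
    (n0 n.norm le_normalizer) (norm_of_centralizer (cent_symm hz'))) fun h => hv' ⟨hv, h
      (mem_Fx'.2 ⟨hv, hVn hv, fun y hy => comm_symm_mem (h3 y hy)⟩)⟩
  have h5 : V ≤ Fx V (V ⊓ 𝐂 L) (zpowers c) := h4.trans (sup_le le_rfl (le_Fx_iff.2 ⟨inf_le_left,
    le_normalizer, commutator_le_left_of_norm (n0 hz (norm_of_centralizer hz'))⟩))
  exact le_Kn_iff.2 ⟨n0 hz (norm_of_centralizer hz'), (le_Fx_iff.1 h5).2.2⟩ (mem_zpowers c)

variable (h : CL p q V P T M 𝒟) (l : Loc p V P M 𝒟 T A L)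
include h l

omit [Finite G] [Fact p.Prime] in
theorem comm_le_JD : ⁅V, A⁆ ≤ 𝐂 (JD 𝒟 T) := by
  refine cent_symm (JD_le_iff.2 fun C hC hCT => cent_symm ?_)
  by_cases e : C = A
  · rw [e]; exact l.np.quad
  · exact FH.cent_comm ((l.oth C hC hCT e).2.trans (centralizer_anti l.np.le))
      ((l.oth C hC hCT e).1.trans (centralizer_anti l.np.le))

omit [Finite G] [Fact p.Prime] in
theorem norm_le_M : L ⊓ 𝐍 A ≤ M := fun y hy => h.lh.nJ <| mem_inf.2 ⟨l.sub hy.1, by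
  rw [← cj_eq_self_iff, h.tv.inv.cj_JD (l.sub hy.1)]
  refine le_antisymm (JD_le_iff.2 fun C hC hCT => ?_) (JD_le_iff.2 fun C hC hCT => ?_)
  · have h1 := h.tv.inv C hC _ (inv_mem (l.sub hy.1))
    have h2 : cj y⁻¹ C ≤ T := le_cj_iff.1 hCT
    by_cases e : cj y⁻¹ C = A
    · rw [cj_eq_iff, inv_inv, cj_eq_self hy.2] at e
      exact le_JD hC (e ▸ l.le)
    · have := cj_eq_self (norm_of_centralizer (cent_symm (l.oth _ h1 h2 e).2) hy.1)
      rw [cj_cj_inv] at this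
      exact le_JD hC (this ▸ h2)
  · refine le_JD hC ?_
    by_cases e : C = A
    · rw [e, ← cj_eq_self hy.2]; exact cj_mono _ l.le
    · rw [← cj_eq_self (norm_of_centralizer (cent_symm (l.oth _ hC hCT e).2) hy.1)]
      exact cj_mono _ hCT⟩

theorem le_M_of {Y : Subgroup G} (h1 : A ≤ Y) (h2 : ¬ L ≤ Y) : L ⊓ Y ≤ M := fun y hy =>
  norm_le_M h l ⟨hy.1, by
    by_contra hn
    exact h2 ((l.np.two hy.1 fun e => hn (cj_eq_self_iff.1 e)).2.ge.trans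
      (sup_le h1 (cj_le_of_mem h1 hy.2)))⟩

theorem not_le_M : ¬ L ≤ M :=
  l.out M ⟨1, one_mem _, (cj_one M).symm⟩ ((JD_le _ _).trans h.lh.TM)

variable (hB : B ≤ T) (hc : V ⊓ 𝐂 (JD 𝒟 T) ≤ 𝐂 B)
include hB hc

omit [Fact p.Prime] in
theorem B_norm_A : B ≤ 𝐍 A := fun b hb => by
  have hP := h.lh.syl.le (hB hb)
  have h1 : ⁅V, A⁆ ≤ 𝐂 B := (le_inf (h.tv.cV l.mem) (comm_le_JD h l)).trans hc
  by_contra hn
  have := (l.oth _ (h.tv.inv A l.mem b hP) (cj_le_of_mem l.le (hB hb))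
    fun e => hn (cj_eq_self_iff.1 e)).1
  rw [← cj_eq_self (h.tv.norm hP), ← cj_commutator,
    cj_eq_self (norm_of_centralizer (cent_symm h1) hb)] at this
  exact l.np.comm_not_le this

theorem B_norm_L : B ≤ 𝐍 L := fun b hb =>
  norm_L h l (h.lh.syl.le (hB hb)) (h.tv.inv.norm_JD (h.lh.syl.le (hB hb)) (le_normalizer (hB hb)))
    (B_norm_A h l hB hc hb)

theorem B_cent_A : B ≤ 𝐂 A := by
  have hP := hB.trans h.lh.syl.le
  have h1 : ⁅V, A⁆ ≤ 𝐂 B := (le_inf (h.tv.cV l.mem) (comm_le_JD h l)).trans hc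
  obtain ⟨v, hv, hv', h3⟩ := ex_fix (Y := V ⊓ 𝐂 A) (h.lh.syl.pg.to_le hB) _ V rfl (ea_pg h.tv.ea)
    (hP.trans h.tv.norm) fun e => l.np.not_le_cent (e.trans inf_le_right)
  intro b hb
  rw [mem_centralizer_sub]
  intro a ha
  have ha' := conj_mem_of_mem_normalizer (B_norm_A h l hB hc hb) ha
  have h4 : ⁅a, v⁆ ∈ 𝐂 B := h1 (comm_symm_mem (commutator_mem_commutator hv ha))
  have h5 := mem_centralizer_sub.1 h4 b hb
  have h6 := mem_centralizer_sub.1 (h3 b hb).2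
  have h7 := mem_centralizer_sub.1 (h.tv.ab (h3 b hb).1)
  have h8 : ⁅b * a * b⁻¹, v⁆ = ⁅a, v⁆ := by
    have e1 : b * v * b⁻¹ = ⁅b, v⁆ * v := by rw [commutatorElement_def]; group
    have e2 : b * ⁅a, v⁆ * b⁻¹ = ⁅a, v⁆ := by rw [h5]; group
    rw [conj_comm, e1, commutatorElement_mul_right_eq_mul_conj,
      commutatorElement_eq_one_iff_mul_comm.2 (h6 _ ha'), one_mul, ← h7 _ (comm_mem_right hv
        (h.tv.nV l.mem ha')), mul_inv_cancel_right] at e2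
    exact e2
  by_contra hne
  refine hv' ⟨hv, l.np.cent (a := a⁻¹ * (b * a * b⁻¹)) (mul_mem (inv_mem ha) ha') (fun e => hne ?_) hv ?_⟩
  · rw [inv_mul_eq_one] at e
    calc a * b = b * a * b⁻¹ * b := by rw [← e]
      _ = _ := by group
  · rw [commutatorElement_mul_left_eq_conj_mul, h8]
    simp only [commutatorElement_def]; group

theorem B_split {b : G} (hb : b ∈ B) : ∃ a ∈ A, a * b ∈ 𝐂 L :=
  split h l.mem l.np l.sub (B_cent_A h l hB hc hb) (B_norm_L h l hB hc hb)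
    (h.tv.norm (h.lh.syl.le (hB hb)))

theorem B_le_Kn : B ≤ L ⊔ Kn V (V ⊓ 𝐂 L) := fun b hb => by
  obtain ⟨a, ha, h1⟩ := B_split h l hB hc hb
  have h2 : a * b ∈ T := mul_mem (l.le ha) (hB hb)
  have := np_kn l.np (ea_pg h.tv.ea) (isPGroup_zpowers_of_mem h.lh.syl.pg h2) h1
    (h.tv.norm (h.lh.syl.le h2))
  simpa using (L ⊔ Kn V (V ⊓ 𝐂 L)).mul_mem (mem_sup_left (inv_mem (l.np.le ha))) (mem_sup_right this)

end loc

section r1

variable [Finite G] [Fact p.Prime] {F : Type*} [Field F] [Finite F] [CharP F p]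

theorem r1_fun {X S M : Subgroup G} (hS : SylIn p S X) (hM : UMax S M X) (r : G → PSL(2, F))
    (hr : ∀ a ∈ X, ∀ b ∈ X, r (a * b) = r a * r b) (hs : ∀ m, ∃ x ∈ X, r x = m) :
    R1 p (Nat.card F) X S M ∧ ∀ x ∈ pCoreOf p X, r x = 1 := by
  let π : X →* PSL(2, F) := MonoidHom.mk' (fun x => r x) fun a b => hr _ a.2 _ b.2
  obtain ⟨h1, -, h3⟩ := r1_top (S := S.subgroupOf X) (M := M.subgroupOf X) (by
    rw [← subgroupOf_self]; exact (sylIn_subgroupOf_iff hS.le le_rfl).2 hS) hM.subgroupOf π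
    fun m => by obtain ⟨x, hx, e⟩ := hs m; exact ⟨⟨x, hx⟩, e⟩
  have h2 := h1.map X.subtype (by rw [ker_subtype, inf_bot_eq]; exact bot_le)
  rw [map_subtype_top, map_subgroupOf_eq_of_le hS.le, map_subgroupOf_eq_of_le hM.lt.le] at h2
  refine ⟨h2, fun x hx => ?_⟩
  have hx' := pCoreOf_le p X hx
  have : (⟨x, hx'⟩ : X) ∈ pCoreOf p (⊤ : Subgroup X) := by
    rw [pCoreOf_top]; exact mem_pCoreOf_iff.1 hx
  exact (h3.ge this).2

theorem VS.map {H : Type*} [Group H] [Finite H] {f : G →* H} (hf : Function.Injective f)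
    {X S M : Subgroup G} (h : VS p F X S M) : VS p F (X.map f) (S.map f) (M.map f) :=
  ⟨h.r1.map f (by rw [(MonoidHom.ker_eq_bot_iff _).2 hf, inf_bot_eq]; exact bot_le),
    h.charP.map_injective hf, fun hle => h.hz fun x hx => mem_centralizer_sub.2 fun y hy => hf (by
      rw [map_mul, map_mul]
      exact mem_centralizer_sub.1 (hle (mem_map_of_mem f hx)) _
        (by rw [← map_OZ hf]; exact mem_map_of_mem f hy)),
    fun hle => h.hJ (by
      rwa [J_map hf, ← map_pCoreOf_of_injective hf, map_le_map_iff_of_injective hf] at hle)⟩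

end r1

theorem triv_reg {G : Type u} [Group G] {X S : Subgroup G}
    (hd : ∀ W, W ≤ S → W ≠ ⊥ → (W.subgroupOf S).Characteristic → ¬ X ≤ 𝐍 W) [Finite G] :
    ∀ W, W ≤ S.map (H6PU.reg G) → X.map (H6PU.reg G) ≤ 𝐍 W → 𝐍 (S.map (H6PU.reg G)) ≤ 𝐍 W → W = ⊥ := by
  intro W h1 h2 h3
  have hf := H6PU.reg_injective (G := G)
  have hW : W.comap (H6PU.reg G) ≤ S := (comap_mono h1).trans (comap_map_eq_self_of_injective hf S).le
  by_contra hne
  refine hd (W.comap (H6PU.reg G)) hW (fun e => hne ?_)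
    (characteristic_iff_le_comap.2 fun φ s hs => ?_) ?_
  · rw [← map_comap_eq_self (h1.trans (map_le_range _ _)), e, Subgroup.map_bot]
  · obtain ⟨σ, hσ⟩ := H6PU.exists_perm S φ
    have : σ ∈ 𝐍 (S.map (H6PU.reg G)) := mem_normalizer_of_cj_le (cj_le_iff'.2 (by
      rintro _ ⟨t, ht, rfl⟩
      exact ⟨_, (φ ⟨t, ht⟩).2, (hσ ⟨t, ht⟩).symm⟩))
    change H6PU.reg G (φ s) ∈ W
    rw [← hσ]
    exact conj_mem_of_mem_normalizer (h3 this) hs
  · exact (map_le_iff_le_comap.1 h2).trans (norm_comap _ le_rfl)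

theorem pu_sub {G : Type u} [Group G] [Finite G] [Fact p.Prime] {F : Type*} [Field F] [Finite F]
    [CharP F p] {X S M : Subgroup G} (hR : R1 p (Nat.card F) X S M) (hc : AmbChar.CharP p X)
    (hd : ∀ W, W ≤ S → W ≠ ⊥ → (W.subgroupOf S).Characteristic → ¬ X ≤ 𝐍 W) :
    VS p F X S M ∧ (OutA p X S ∨ ∃ V C, OutB p F X S V C) := by
  have hf := H6PU.reg_injective (G := G)
  obtain ⟨h1, h2⟩ := pu_amb (hR.map (H6PU.reg G) (by
    rw [(MonoidHom.ker_eq_bot_iff _).2 hf, inf_bot_eq]; exact bot_le)) (hc.map_injective hf)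
    (triv_reg hd)
  exact ⟨H6PU.VS.of_map hf h1 hR, h2.imp (OutA.of_map hf) fun ⟨_, _, ho⟩ => ⟨_, _, OutB.of_map hf ho⟩⟩

section bm

variable [Finite G] {T S : Subgroup G}

theorem Bm_eq (h1 : Bm p T ≤ S) (h2 : S ≤ T) : Bm p S = Bm p T := by
  have := J_eq_of_J_le ((J_le_Bm p T).trans h1) h2
  rw [Bm, this]
  exact le_antisymm (inf_le_inf_right _ h2) (le_inf h1 inf_le_right)

theorem J_Bm (p : ℕ) (T : Subgroup G) : J p (Bm p T) = J p T := J_eq_of_J_le (J_le_Bm p T) inf_le_left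

theorem inf_cent_J {V : Subgroup G} (hV : IsElementaryAbelian p V) (h : V ≤ T) :
    V ⊓ 𝐂 (J p T) ≤ OZ p (J p T) := by
  obtain ⟨A, hA⟩ := mx_nonempty p T
  refine le_OZ' (ea_of_le hV inf_le_left) (le_trans ?_ (le_J hA)) inf_le_right
  exact le_of_le_centralizer hA (inf_le_left.trans h) (fun x hx => ea_pow hV hx.1)
    (inf_le_right.trans (centralizer_anti (le_J hA)))

theorem inf_cent_J' {V : Subgroup G} (hV : IsElementaryAbelian p V) (h : V ≤ T) :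
    V ⊓ 𝐂 (J p T) ≤ 𝐂 (Bm p T) := (inf_cent_J hV h).trans (cent_symm inf_le_right)

theorem OZ_Bm (p : ℕ) (T : Subgroup G) : OZ p (Bm p T) = OZ p (J p T) :=
  le_antisymm (OZ_le_OZ (J_le_Bm p T) ((OZ_le_OZJ p _).trans (by rw [J_Bm]; exact OZ_le _ _)))
    (le_OZ' (ea_OZ _ _) ((OZ_le _ _).trans (J_le_Bm p T)) (cent_symm inf_le_right))

end bm

section main

variable {Γ : Type*} [Group Γ] {V T M : Subgroup G} {ι : V →* Γ} {κ : G →* Γ} [Finite G] [Finite Γ]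
  [Fact p.Prime] (s : SS p V T M) (m : Mod V ι κ) {𝒟 : Set (Subgroup Γ)}
  (h : CL p q ι.range ((⊤ : Subgroup G).map κ) (T.map κ) (M.map κ) 𝒟)
  (hJ : (J p T).map κ = JD 𝒟 (T.map κ))
include s m

omit [Finite Γ] [Fact p.Prime] [Finite G] in
theorem le_M_of_map {X : Subgroup G} (h : X.map κ ≤ M.map κ) : X ≤ M := by
  have := comap_mono (f := κ) h
  rw [comap_map_eq_self (H := M) (m.ker ▸ s.cV)] at this
  exact (le_comap_map _ _).trans this

omit [Finite Γ] [Fact p.Prime] in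
include hJ in
theorem hcB : ι.range ⊓ 𝐂 (JD 𝒟 (T.map κ)) ≤ 𝐂 ((Bm p T).map κ) := by
  rw [← hJ]; exact (cent_le_iff m).2 (inf_cent_J' s.ea (s.le_Q.trans s.Q_le_T))

omit [Finite Γ] in
theorem syl_pb {B : Subgroup G} (hB : B ≤ T) {Y : Subgroup Γ} (h : SylIn p (B.map κ) Y) :
    SylIn p (B ⊔ pCoreOf p ⊤) (Y.comap κ) := by
  have hT : B ⊔ pCoreOf p ⊤ ≤ T := sup_le hB s.Q_le_T
  have hk : pCoreOf p ⊤ ≤ κ.ker := m.ker ▸ s.Q_le
  refine ⟨sup_le (map_le_iff_le_comap.1 h.le) (hk.trans (ker_le_comap _ _)), s.syl.pg.to_le hT,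
    fun R hR h1 h2 => le_antisymm ?_ h1⟩
  have e1 : R.map κ = B.map κ := h.max (hR.map κ) (map_mono (le_sup_left.trans h1))
    (map_le_iff_le_comap.2 h2)
  have e2 : R ≤ B ⊔ κ.ker := by rw [← comap_map_eq, ← e1]; exact le_comap_map _ _
  have e3 : SylIn p (pCoreOf p ⊤) κ.ker := by
    rw [← s.inf_cV, ← m.ker]; exact s.syl.inf_norm le_top norm_of_normal
  have e4 : κ.ker ⊓ R = pCoreOf p ⊤ := e3.max (hR.to_le inf_le_right) (le_inf hk (le_sup_right.trans h1))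
    inf_le_left
  rw [← e4, ← sup_inf_of_norm norm_of_normal (le_sup_left.trans h1)]
  exact le_inf e2 le_rfl

include h hJ

/-- rank one subgroups -/
theorem exists_rk {A L : Subgroup Γ} (l : Loc p ι.range ((⊤ : Subgroup G).map κ) (M.map κ) 𝒟 (T.map κ) A L) :
    ∃ (F : Type) (_ : Field F) (_ : Fintype F) (_ : CharP F p) (X : Subgroup G),
      Fintype.card F = Nat.card A ∧ R1 p (Nat.card F) X (Bm p T) (X ⊓ M) ∧ AmbChar.CharP p X ∧
      pCoreOf p ⊤ ≤ 𝐍 X ∧ (pResidualOf p X).map κ = pResidualOf p L ∧ ¬ pResidualOf p X ≤ M := by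
  set B := Bm p T with hBdef
  have hBT : B ≤ T := inf_le_left
  have hc := hcB s m hJ
  have hB' : B.map κ ≤ T.map κ := map_mono hBT
  have hAB : A ≤ B.map κ := (le_JD l.mem l.le).trans (hJ.ge.trans (map_mono (J_le_Bm p T)))
  have nL := B_norm_L h l hB' hc
  have hS : SylIn p (B.map κ) (B.map κ ⊔ L) := by
    have := sylIn_sup nL l.np.syl (sylIn_self (h.lh.syl.pg.to_le hB'))
      (by rw [sup_eq_left.2 hAB]; exact h.lh.syl.pg.to_le hB')
    rwa [sup_eq_left.2 hAB] at this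
  have hS0 := syl_pb s m hBT hS
  set S := B ⊔ pCoreOf p ⊤ with hSdef
  have hST : S ≤ T := sup_le hBT s.Q_le_T
  have hSM : S ≤ M := hST.trans s.umax.le
  have hLr : B.map κ ⊔ L ≤ κ.range := sup_le (map_le_range _ _) (l.sub.trans (map_le_range _ _))
  obtain ⟨X, ⟨hX1, hX2, hX3⟩, hmin⟩ := (wellFounded_lt (α := Subgroup G)).has_min
    {X | S ≤ X ∧ X ≤ (B.map κ ⊔ L).comap κ ∧ ¬ X ≤ M} ⟨_, hS0.le, le_rfl, fun hle => not_le_M h l
      (le_sup_right.trans ((map_comap_eq_self hLr).ge.trans (map_mono hle)))⟩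
  have hU : UMax S (X ⊓ M) X := ⟨le_inf hX1 hSM, lt_of_le_of_ne inf_le_left fun e =>
    hX3 (e.ge.trans inf_le_right), fun Y h1 h2 => le_inf h2.le (by
      by_contra hn
      exact hmin Y ⟨h1, h2.le.trans hX2, hn⟩ h2)⟩
  have hBX : B.map κ ≤ X.map κ := map_mono (le_sup_left.trans hX1)
  have hX2' : X.map κ ≤ B.map κ ⊔ L := map_le_iff_le_comap.2 hX2
  have hLX : L ≤ X.map κ := by
    by_contra hn
    refine hX3 (le_M_of_map s m ?_)
    rw [← inf_eq_right.2 hX2', sup_inf_of_norm nL hBX]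
    exact sup_le (hB'.trans h.lh.TM) (le_M_of h l (hAB.trans hBX) hn)
  obtain ⟨F, _, _, hF, _, cv⟩ := l.np.ex
  have hN := nt_ext (X := B.map κ ⊔ L) cv.nt le_sup_right (sup_le (m.norm _) l.np.norm)
    (sup_le (B_le_Kn h l hB' hc) le_sup_left)
  obtain ⟨d, hd⟩ := H6Nat.acts_iff.1 hN
  let r : G → PSL(2, F) := fun g => QuotientGroup.mk (d.r (κ g))
  have hr : ∀ a ∈ X, ∀ b ∈ X, r (a * b) = r a * r b := fun a ha b hb => by
    simp only [r]
    rw [map_mul, d.r_mul (hX2 ha) (hX2 hb), QuotientGroup.mk_mul]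
  have hXe : X.map κ = B.map κ ⊔ L := le_antisymm hX2' (sup_le hBX hLX)
  have hs : ∀ y, ∃ x ∈ X, r x = y := fun y => by
    obtain ⟨y, rfl⟩ := QuotientGroup.mk_surjective y
    obtain ⟨z, hz, rfl⟩ := (d.mem_rim le_rfl).1 (hd ▸ mem_top y)
    obtain ⟨x, hx, rfl⟩ := hXe.ge hz
    exact ⟨x, hx, rfl⟩
  have hSX := hS0.mono hX1 hX2
  obtain ⟨hR, hQ⟩ := r1_fun hSX hU r hr hs
  have hcX : AmbChar.CharP p X := s.ch.of_pCore_le (le_sup_right.trans hX1) le_top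
  have hnt : ¬ X ≤ 𝐂 (OZ p S) := fun hle => hX3 (hle.trans ((centralizer_anti (OZ_le_OZ hST
    (s.OZ_le.trans (s.le_Q.trans le_sup_right)))).trans s.cz))
  have hJS : J p S = J p T := J_eq_of_J_le ((J_le_Bm p T).trans le_sup_left) hST
  have hJ' : ¬ J p S ≤ pCoreOf p X := fun hle => hX3 (le_trans (by
    rw [← hJS, ← J_eq_of_J_le hle hR.Q_le]; exact norm_J (norm_pCoreOf p X)) s.nJ)
  obtain ⟨-, c2, c3, -⟩ := case2 hR hcX hnt hJ' (F := F) rfl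
  rw [Bm_eq le_sup_left hST, ← hBdef] at c2 c3
  set X₁ := ncl B X with hX₁
  have hBX' : B ≤ X := le_sup_left.trans hX1
  have h1X : X₁ ≤ X := ncl_le_of_le hBX'
  have hn1 : X ≤ 𝐍 X₁ := norm_ncl _ _
  have hS1 : SylIn p B X₁ := c3 ▸ hSX.inf_norm h1X hn1
  have hQX := pCoreOf_le p X
  have hXe' : X₁ ⊔ pCoreOf p X = X := le_antisymm (sup_le h1X hQX) (hR.le_of_norm
    (norm_sup hn1 (norm_pCoreOf p X)) (c2.ge.trans (sup_le_sup_right (le_ncl _ _) _)))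
  have h1M : ¬ X₁ ≤ M := fun hle => hX3 (hXe'.ge.trans (sup_le hle (hR.Q_le.trans hSM)))
  have hU1 : UMax B (X₁ ⊓ M) X₁ := by
    refine ⟨le_inf (le_ncl _ _) (le_sup_left.trans hSM), lt_of_le_of_ne inf_le_left fun e =>
      h1M (e.ge.trans inf_le_right), fun Y h1 h2 => le_inf h2.le ?_⟩
    by_contra hn
    have n1 : pCoreOf p X ≤ 𝐍 Y := norm_of_commutator_le (le_trans (le_trans (le_inf
      ((commutator_le_right_of_norm ((h2.le.trans h1X).trans (norm_pCoreOf p X))).trans hR.Q_le)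
      ((commutator_mono h2.le le_rfl).trans (commutator_le_left_of_norm (hQX.trans hn1)))) c3.le) h1)
    have e := hU.eq_of_not_le (X := Y ⊔ pCoreOf p X) (c2.ge.trans (sup_le_sup_right h1 _))
      (sup_le (h2.le.trans h1X) hQX) fun hle => hn (le_sup_left.trans (hle.trans inf_le_right))
    exact h2.not_ge (ncl_le h1 (e.ge.trans (sup_le le_normalizer n1)))
  have hres : pResidualOf p X₁ = pResidualOf p X := by
    rw [← hXe', sup_comm, res_sup_eq (isPGroup_pCoreOf p X) (hQX.trans hn1)]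
  obtain ⟨hR1, -⟩ := r1_fun hS1 hU1 r (fun a ha b hb => hr a (h1X ha) b (h1X hb)) fun y => by
    obtain ⟨x, hx, rfl⟩ := hs y
    obtain ⟨a, ha, b, hb, rfl⟩ := (mem_sup_of_norm (h1X.trans (norm_pCoreOf p X))).1 (hXe'.ge hx)
    exact ⟨a, ha, by rw [hr a (h1X ha) b (hQX hb), hQ b hb, mul_one]⟩
  refine ⟨F, inferInstance, inferInstance, inferInstance, X₁, hF, hR1, hcX.of_norm h1X hn1,
    (le_sup_right.trans hX1).trans hn1, ?_, fun hle => h1M (le_of_syl_of_res hS1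
      (le_sup_left.trans hSM) hle)⟩
  rw [hres, map_res, hXe, res_sup_eq (h.lh.syl.pg.to_le hB') nL]

omit h hJ in
theorem ex_cl : ∃ (q : ℕ) (𝒟 : Set (Subgroup Γ)),
    CL p q ι.range ((⊤ : Subgroup G).map κ) (T.map κ) (M.map κ) 𝒟 ∧
      (J p T).map κ = JD 𝒟 (T.map κ) ∧ ∃ A ∈ 𝒟, A ≤ T.map κ := by
  obtain ⟨B, b1, b⟩ := s.ex_mo m
  have h := (s.gh m b).cl b
  have hB := b1.trans (map_mono (J_le p T))
  refine ⟨_, _, h, le_antisymm (s.map_J m b s.Q_le_T) (JD_le_iff.2 fun C hC hCT => ?_), B, mem_Cls, hB⟩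
  obtain ⟨t, ht, rfl⟩ := tr_T h (s.umax' m) mem_Cls hB hC hCT
  exact cj_le_of_le b1 (norm_map κ (le_normalizer_J p T) ht)

end main

/-- the rank one pushing up situation inside a `p`-minimal group -/
theorem exp {G : Type u} [Group G] [Finite G] [Fact p.Prime] {V T M : Subgroup G} (s : SS p V T M)
    (hd : ∀ W, W ≤ Bm p T → W ≠ ⊥ → (W.subgroupOf (Bm p T)).Characteristic → 𝐍 W ≤ M) :
    ∃ (F : Type) (_ : Field F) (_ : Fintype F) (_ : CharP F p) (X : Subgroup G),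
      VS p F X (Bm p T) (X ⊓ M) ∧ (OutA p X (Bm p T) ∨ ∃ V C, OutB p F X (Bm p T) V C) ∧
      pCoreOf p ⊤ ≤ 𝐍 X ∧ ¬ pResidualOf p X ≤ M := by
  haveI := s.nor
  obtain ⟨Γ, _, _, ι, κ, m⟩ := exists_mod V
  obtain ⟨q, 𝒟, h, hJ, A, hA, hAT⟩ := ex_cl s m
  obtain ⟨L, l⟩ := H6TV5.CL.loc h h.lh.syl hA hAT
  obtain ⟨F, _, _, _, X, -, h1, h2, h3, -, h4⟩ := exists_rk s m h hJ l
  obtain ⟨h5, h6⟩ := pu_sub h1 h2 fun W a b c e => h4 ((res_le p X).trans (e.trans (hd W a b c)))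
  exact ⟨F, inferInstance, inferInstance, inferInstance, X, h5, h6, h3, h4⟩

end CA.H6Exp
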