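import Cfsg.Agent.Lib.Loc.H6Exp

/-! Pushing up with odd order automorphisms of a Sylow `2`-subgroup. -/

set_option autoImplicit false
set_option linter.unusedVariables false

namespace CA.H6Odd

open Subgroup Cfsg CA.Amb CA.AmbSyl CA.AmbCore CA.AmbRes CA.AmbWC CA.AmbSpe CA.H6Nat CA.H6Nat2
open CA.H6Core CA.H6Core2 CA.H6J CA.H6Bau CA.H6Pull CA.H6E0 CA.H6Am1 CA.H6Am2 CA.H6Am3 CA.H6Exp
open scoped commutatorElement MatrixGroups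

universe u

variable {H : Type u} [Group H] {p : ℕ}

theorem norm_of_char {G : Type*} [Group G] [Finite G] {f : G →* H} (hf : Function.Injective f)
    {W B : Subgroup G} (hW : W ≤ B) (h : (W.subgroupOf B).Characteristic) :
    𝐍 (B.map f) ≤ 𝐍 (W.map f) := fun σ hσ => by
  haveI : Finite (W.map f) := Finite.of_equiv _ (W.equivMapOfInjective f hf).toEquiv
  refine mem_normalizer_of_cj_le (cj_le_iff'.2 ?_)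
  rintro _ ⟨w, hw, rfl⟩
  let e := B.equivMapOfInjective f hf
  refine ⟨_, characteristic_iff_le_comap.1 h
    ((e.trans ((B.map f).normalizerMonoidHom ⟨σ, hσ⟩)).trans e.symm) (x := ⟨w, hW hw⟩) hw, ?_⟩
  exact congrArg Subtype.val (e.apply_symm_apply ((B.map f).normalizerMonoidHom ⟨σ, hσ⟩ (e ⟨w, hW hw⟩)))

variable [Finite H] [Fact p.Prime] {F : Type*} [Field F] [Finite F] [CharP F p]

theorem key {X B M : Subgroup H} (h : VS p F X B M) {z b : H} (hz : z ∈ Zo p X) (hb : b ∈ B)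
    (hQ : b ∉ pCoreOf p X) (hc : ⁅z, b⁆ ∈ 𝐂 (pResidualOf p X)) : z ∈ OZ p B := by
  have h1 := h.quad (commutator_mem_commutator hz hb)
  rw [← h.Fx_eq]
  refine h.cov.mem_Fx_of hb (fun hk => hQ ?_) hz (mem_inf.2 ⟨h.OZ_le h1, ?_⟩)
  · rw [← h.inf_cent]; exact ⟨hb, h.Kn_le ⟨h.r1.syl.le hb, hk⟩⟩
  · have : X ≤ 𝐂 (zpowers ⁅z, b⁆) := le_of_syl_of_res h.r1.syl
      (cent_symm (zpowers_le.2 (OZ_le_cent _ _ h1))) (cent_symm (zpowers_le.2 hc))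
    exact cent_symm this (mem_zpowers _)

omit [Finite H] [Fact p.Prime] in
theorem split {Z Q B : Subgroup H} (h : B = Z ⊔ Q) (hn : B ≤ 𝐍 Q) {b : H} (hb : b ∈ B) :
    ∃ z ∈ Z, ∃ q ∈ Q, z * q = b :=
  (mem_sup_of_norm ((h ▸ le_sup_left : Z ≤ B).trans hn)).1 (h ▸ hb)

theorem partner {F : Type*} [Field F] [Finite F] [CharP F 2] {X₁ X₂ X₃ B M₁ M₂ M₃ : Subgroup H}
    (h₁ : VS 2 F X₁ B M₁) (h₂ : VS 2 F X₂ B M₂) (h₃ : VS 2 F X₃ B M₃)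
    (r : ⁅pCoreOf 2 X₁, pResidualOf 2 X₁⁆ ≤ Zo 2 X₁) (n₂ : ¬ Zo 2 X₂ ≤ pCoreOf 2 X₁)
    (n₃ : ¬ Zo 2 X₃ ≤ pCoreOf 2 X₁) : pCoreOf 2 X₂ ≤ pCoreOf 2 X₃ := by
  have l₁ := Zo_le_syl h₁.r1.syl
  have l₂ := Zo_le_syl h₂.r1.syl
  have l₃ := Zo_le_syl h₃.r1.syl
  have m₁ := h₁.r1.syl.le.trans (norm_pCoreOf 2 X₁)
  have m₂ := h₂.r1.syl.le.trans (norm_pCoreOf 2 X₂)
  have m₃ := h₃.r1.syl.le.trans (norm_pCoreOf 2 X₃)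
  obtain ⟨a₂, -⟩ := crit_pair h₂ h₁ l₂ l₁ n₂
  obtain ⟨a₃, e₃⟩ := crit_pair h₃ h₁ l₃ l₁ n₃
  obtain ⟨-, e₂'⟩ := crit_pair h₁ h₂ l₁ l₂ a₂
  obtain ⟨-, e₂⟩ := crit_pair h₂ h₁ l₂ l₁ n₂
  have c₀ : ⁅Zo 2 X₁, pCoreOf 2 X₁⁆ ≤ Zo 2 X₁ ⊓ 𝐂 X₁ := comm_bot_le' (Q_cent _ _)
  have d₁ := der_cent r c₀
  have com : ∀ {X : Subgroup H} {z q : H}, z ∈ Zo 2 X → q ∈ pCoreOf 2 X → Commute z q :=
    fun hz hq => mem_centralizer_sub.1 (Q_cent _ _ hq) _ hz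
  -- step 1
  have s1 : ∀ d ∈ pCoreOf 2 X₁, d ∈ pCoreOf 2 X₂ → d ∈ pCoreOf 2 X₃ := fun d hd₁ hd₂ => by
    obtain ⟨z₁, hz₁, q₃, hq₃, rfl⟩ := split e₃ m₃ (h₁.r1.Q_le hd₁)
    obtain ⟨z₃, hz₃, hn⟩ := SetLike.not_le_iff_exists.1 n₃
    obtain ⟨z₂, hz₂, q₁, hq₁, e⟩ := split e₂' m₁ (l₃ hz₃)
    refine mul_mem (Zo_le _ _ (h₃.OZ_le (key h₁ hz₁ (l₃ hz₃) hn ?_))) hq₃
    have e1 : ⁅z₁, z₃⁆ = ⁅z₁ * q₃, z₃⁆ := by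
      rw [commutatorElement_mul_left_eq_conj_mul, (com hz₃ hq₃).symm.commutator_eq]; group
    have e2 : ⁅z₁ * q₃, z₂ * q₁⁆ = z₂ * ⁅z₁ * q₃, q₁⁆ * z₂⁻¹ := by
      rw [commutatorElement_mul_right_eq_mul_conj, (com hz₂ hd₂).symm.commutator_eq, one_mul]
    rw [e1, ← e, e2]
    exact conj_mem_of_mem_normalizer ((l₂.trans h₁.r1.syl.le).trans (norm_centralizer (norm_res 2 X₁)) hz₂)
      (d₁ (commutator_mem_commutator hd₁ hq₁))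
  have dec : ∀ q ∈ pCoreOf 2 X₂, ∃ z ∈ Zo 2 X₂, ∃ d ∈ pCoreOf 2 X₁, d ∈ pCoreOf 2 X₂ ∧ z * d = q :=
    fun q hq => by
      obtain ⟨z, hz, d, hd, rfl⟩ := split e₂' m₁ (h₂.r1.Q_le hq)
      exact ⟨z, hz, d, hd, (mul_mem_cancel_left (Zo_le _ _ hz)).1 hq, rfl⟩
  -- step 2
  have s2 : Zo 2 X₃ ≤ pCoreOf 2 X₂ := fun z₃ hz₃ => by
    obtain ⟨z₁, hz₁, q₂, hq₂, e⟩ := split e₂ m₂ (l₃ hz₃)
    obtain ⟨z₂, hz₂, d, hd₁, hd₂, rfl⟩ := dec q₂ hq₂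
    by_cases hz : z₂ ∈ pCoreOf 2 X₁
    · have : z₃ ∈ OZ 2 B := by
        rw [← (cent_eq h₃.r1 h₃.charP h₃.hz h₃.hJ rfl l₁ a₃).1]
        exact ⟨hz₃, Q_cent _ _ (e ▸ mul_mem (Zo_le _ _ hz₁) (mul_mem hz hd₁))⟩
      exact Zo_le _ _ (h₂.OZ_le this)
    · rw [← e]
      refine mul_mem (Zo_le _ _ (h₂.OZ_le (key h₁ hz₁ (l₂ hz₂) hz ?_))) hq₂
      have p1 : z₁⁻¹ = z₁ := inv_eq_of_mul_eq_one_right (by rw [← sq]; exact (mem_OZ.1 hz₁).2.2)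
      have p2 : z₂⁻¹ = z₂ := inv_eq_of_mul_eq_one_right (by rw [← sq]; exact (mem_OZ.1 hz₂).2.2)
      have p3 := (mem_OZ.1 hz₃).2.2
      rw [← e, ← mul_assoc, ((com hz₁ hd₁).mul_left (com hz₂ hd₂)).mul_pow, mul_eq_one_iff_eq_inv] at p3
      rw [commutatorElement_def, p1, p2, mul_assoc (z₁ * z₂), ← sq, p3]
      exact inv_mem (pow_cent r c₀ (fun v hv => (mem_OZ.1 hv).2.2) (Or.inr (cent_symm (Q_cent _ _)))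
        ((Zo_le _ _).trans (pCoreOf_le _ _)) hd₁)
  have s3 : Zo 2 X₂ ≤ pCoreOf 2 X₃ := h₃.le_Q l₂ (cent_symm (s2.trans (Q_cent _ _)))
  intro q hq
  obtain ⟨z, hz, d, hd₁, hd₂, rfl⟩ := dec q hq
  exact mul_mem (s3 hz) (s1 d hd₁ hd₂)

theorem VS.cj {X B M : Subgroup H} (h : VS p F X B M) {g : H} (hg : g ∈ 𝐍 B) :
    VS p F (cj g X) B (cj g M) := by
  have := VS.map (f := (MulAut.conj g).toMonoidHom) (MulAut.conj g).injective h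
  rwa [show B.map (MulAut.conj g).toMonoidHom = B from cj_eq_self hg] at this

theorem core {F : Type*} [Field F] [Finite F] [CharP F 2] {X B M Γ : Subgroup H}
    (h : VS 2 F X B M) (r : ⁅pCoreOf 2 X, pResidualOf 2 X⁆ ≤ Zo 2 X) (hΓ : Γ ≤ 𝐍 B)
    (hodd : ∀ σ ∈ Γ, ∃ n, Odd n ∧ cj (σ ^ n) (Zo 2 X) ≤ pCoreOf 2 X) :
    pResidualOf 2 X ≤ 𝐍 (ncl (Zo 2 X) Γ) := by
  refine norm_of_commutator_le (((commutator_mono (ncl_le_iff.2 fun σ hσ => ?_) le_rfl).trans r).trans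
    (le_ncl _ _))
  by_contra hn
  have h₂ := VS.cj h (hΓ hσ)
  have h₃ := VS.cj h (hΓ (inv_mem hσ))
  have n₃ : ¬ Zo 2 (cj σ⁻¹ X) ≤ pCoreOf 2 X := (crit_pair h h₃ (Zo_le_syl h.r1.syl) (Zo_le_syl h₃.r1.syl)
    (by rw [← cj_pCoreOf, ← cj_le_iff]; exact hn)).1
  have := partner h h₂ h₃ r (by rwa [← cj_Zo]) n₃
  rw [← cj_pCoreOf, ← cj_pCoreOf, ← cj_le_iff, cj_cj] at this
  have h2 : σ * σ ∈ 𝐍 (Zo 2 X) := norm_OZ le_rfl (mem_normalizer_of_cj_le this)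
  obtain ⟨_, ⟨k, rfl⟩, hk⟩ := hodd σ hσ
  rw [pow_succ', pow_mul, ← cj_cj, sq, cj_eq_self (pow_mem h2 k)] at hk
  exact hn hk

end CA.H6Odd
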