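import Cfsg.Agent.Lib.Loc.H6TV9
import Cfsg.Agent.Lib.Loc.H6KS2
import Cfsg.Agent.Lib.Loc.H6Bau

/-! Pulling back module structure from the faithful model. -/

set_option autoImplicit false

namespace CA.H6Pull

open Subgroup Cfsg CA.Amb CA.AmbSyl CA.AmbCore CA.AmbRes CA.AmbWC CA.AmbSpe CA.H6Nat CA.H6Nat2
open CA.H6Core CA.H6Core2 CA.H6Off CA.H6TV1 CA.H6TV2 CA.H6TV3 CA.H6TV4 CA.H6TV5 CA.H6TV5.CL
open CA.H6TV6 CA.H6TV7 CA.H6TV8 CA.H6PD CA.H6J CA.H6Bau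
open CA.H6KS2 (Mod exists_mod)
open scoped commutatorElement MatrixGroups

variable {G : Type*} [Group G] {p : ℕ} {Γ : Type*} [Group Γ] {V : Subgroup G} {ι : V →* Γ} {κ : G →* Γ}
variable {E A B : Subgroup G}

open Classical in
/-- `ι` extended to a total function -/
noncomputable def ex (ι : V →* Γ) (g : G) : Γ := if h : g ∈ V then ι ⟨g, h⟩ else 1

theorem ex_eq {u : G} (hu : u ∈ V) : ex ι u = ι ⟨u, hu⟩ := dif_pos hu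

theorem ex_mul {u v : G} (hu : u ∈ V) (hv : v ∈ V) : ex ι (u * v) = ex ι u * ex ι v := by
  rw [ex_eq hu, ex_eq hv, ex_eq (mul_mem hu hv), ← map_mul]; rfl

theorem ex_inv {u : G} (hu : u ∈ V) : ex ι u⁻¹ = (ex ι u)⁻¹ := by
  rw [ex_eq hu, ex_eq (inv_mem hu), ← map_inv]; rfl

theorem ex_mem {u : G} (hu : u ∈ V) : ex ι u ∈ ι.range := ⟨_, (ex_eq hu).symm⟩

theorem ex_surj {x : Γ} (hx : x ∈ ι.range) : ∃ u ∈ V, ex ι u = x := by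
  obtain ⟨u, rfl⟩ := hx
  exact ⟨u, u.2, ex_eq u.2⟩

section pull
variable (m : Mod V ι κ)
include m

theorem ex_conj (g : G) {u : G} (hu : u ∈ V) : ex ι (g * u * g⁻¹) = κ g * ex ι u * (κ g)⁻¹ := by
  rw [ex_eq hu, m.conj', ex_eq]

theorem ex_comm (g : G) {u : G} (hu : u ∈ V) : ex ι ⁅g, u⁆ = ⁅κ g, ex ι u⁆ := by
  rw [commutatorElement_def, ex_mul (m.nor.conj_mem _ hu g) (inv_mem hu), ex_conj m g hu, ex_inv hu,
    commutatorElement_def]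

theorem ex_cent {u : G} (hu : u ∈ V) : ex ι u ∈ 𝐂 (E.map κ) ↔ u ∈ 𝐂 E := by
  rw [ex_eq hu, mem_centralizer_sub, mem_centralizer_sub]
  exact ⟨fun h e he => (m.comm_iff.1 (h _ (mem_map_of_mem κ he)).symm).symm,
    by rintro h _ ⟨e, he, rfl⟩; exact (m.comm_iff.2 (h e he).symm).symm⟩

theorem comm_le_iff : ⁅ι.range, A.map κ⁆ ≤ 𝐂 (B.map κ) ↔ ⁅V, A⁆ ≤ 𝐂 B := by
  haveI := m.nor
  rw [commutator_comm, commutator_comm V, commutator_le, commutator_le]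
  constructor
  · intro h a ha v hv
    rw [← ex_cent m (comm_mem_right hv (norm_of_normal (mem_top a))), ex_comm m a hv]
    exact h _ (mem_map_of_mem κ ha) _ (ex_mem hv)
  · rintro h _ ⟨a, ha, rfl⟩ x hx
    obtain ⟨v, hv, rfl⟩ := ex_surj hx
    rw [← ex_comm m a hv, ex_cent m (comm_mem_right hv (norm_of_normal (mem_top a)))]
    exact h a ha v hv

theorem cent_le_iff : ι.range ⊓ 𝐂 (A.map κ) ≤ 𝐂 (B.map κ) ↔ V ⊓ 𝐂 A ≤ 𝐂 B := by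
  constructor
  · exact fun h v hv => (ex_cent m hv.1).1 (h ⟨ex_mem hv.1, (ex_cent m hv.1).2 hv.2⟩)
  · intro h x hx
    obtain ⟨v, hv, rfl⟩ := ex_surj hx.1
    exact (ex_cent m hv).2 (h ⟨hv, (ex_cent m hv).1 hx.2⟩)

/-- pull back of natural coordinates -/
noncomputable def pullN {F : Type*} [Field F] (d : ND F (E.map κ) ι.range (ι.range ⊓ 𝐂 (E.map κ))) :
    ND F E V (V ⊓ 𝐂 E) where
  norm := haveI := m.nor; norm_of_normal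
  le := inf_le_left
  r g := d.r (κ g)
  ψ u := d.ψ (ex ι u)
  r_mul ha hb := by rw [map_mul, d.r_mul (mem_map_of_mem κ ha) (mem_map_of_mem κ hb)]
  ψ_mul ha hb := by rw [ex_mul ha hb, d.ψ_mul (ex_mem ha) (ex_mem hb)]
  ψ_surj x := by
    obtain ⟨y, hy, h⟩ := d.ψ_surj x
    obtain ⟨u, hu, rfl⟩ := ex_surj hy
    exact ⟨u, hu, h⟩
  ψ_zero hu := by rw [d.ψ_zero (ex_mem hu), mem_inf, mem_inf, and_iff_right hu, and_iff_right (ex_mem hu),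
    ex_cent m hu]
  act he hu := by rw [ex_conj m _ hu, d.act (mem_map_of_mem κ he) (ex_mem hu)]

/-- pull back of permutation coordinates -/
noncomputable def pullP {α : Type*} [Fintype α] (d : PD α (E.map κ) ι.range (ι.range ⊓ 𝐂 (E.map κ))) :
    PD α E V (V ⊓ 𝐂 E) where
  norm := haveI := m.nor; norm_of_normal
  le := inf_le_left
  r g := d.r (κ g)
  ψ u := d.ψ (ex ι u)
  r_mul ha hb := by rw [map_mul, d.r_mul (mem_map_of_mem κ ha) (mem_map_of_mem κ hb)]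
  ψ_mul ha hb := by rw [ex_mul ha hb, d.ψ_mul (ex_mem ha) (ex_mem hb)]
  ψ_sum hu := d.ψ_sum (ex_mem hu)
  ψ_surj x hx := by
    obtain ⟨y, hy, h⟩ := d.ψ_surj x hx
    obtain ⟨u, hu, rfl⟩ := ex_surj hy
    exact ⟨u, hu, h⟩
  ψ_zero hu := by rw [d.ψ_zero (ex_mem hu), mem_inf, mem_inf, and_iff_right hu, and_iff_right (ex_mem hu),
    ex_cent m hu]
  act he hu i := by rw [ex_conj m _ hu, d.act (mem_map_of_mem κ he) (ex_mem hu)]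

theorem mem_Kn_iff {e : G} (he : e ∈ E) : κ e ∈ Kn ι.range (ι.range ⊓ 𝐂 (E.map κ)) ↔ e ∈ Kn V (V ⊓ 𝐂 E) := by
  haveI := m.nor
  rw [mem_Kn', mem_Kn', and_iff_right (norm_of_centralizer (cent_symm inf_le_right) he),
    and_iff_right (norm_of_centralizer (cent_symm inf_le_right) (mem_map_of_mem κ he))]
  constructor
  · intro h v hv
    have h1 := comm_mem_right hv (norm_of_normal (mem_top e))
    exact ⟨h1, (ex_cent m h1).1 (ex_comm m e hv ▸ (h _ (ex_mem hv)).2)⟩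
  · intro h x hx
    obtain ⟨v, hv, rfl⟩ := ex_surj hx
    rw [← ex_comm m e hv]
    exact ⟨ex_mem (h v hv).1, (ex_cent m (h v hv).1).2 (h v hv).2⟩

theorem Kn_le (h : E.map κ ⊓ Kn ι.range (ι.range ⊓ 𝐂 (E.map κ)) = ⊥) : E ⊓ Kn V (V ⊓ 𝐂 E) ≤ 𝐂 V :=
  fun e he => m.ker ▸ mem_bot.1 (h ▸ mem_inf.2 ⟨mem_map_of_mem κ he.1, (mem_Kn_iff m he.1).2 he.2⟩)

theorem nt_pull {F : Type*} [Field F] (h : Nt F (E.map κ) ι.range (ι.range ⊓ 𝐂 (E.map κ))) :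
    Nt F E V (V ⊓ 𝐂 E) := by
  obtain ⟨d, hd⟩ := H6Nat.acts_iff.1 h
  refine H6Nat.acts_iff.2 ⟨pullN m d, eq_top_iff.2 fun x _ => ?_⟩
  obtain ⟨_, ⟨e, he, rfl⟩, rfl⟩ := (d.mem_rim le_rfl).1 (hd.ge (mem_top x))
  exact (pullN m d).r_mem_rim le_rfl he

theorem rim_pullP {α : Type*} [Fintype α] (d : PD α (E.map κ) ι.range (ι.range ⊓ 𝐂 (E.map κ)))
    (hd : d.rim (E.map κ) = ⊤) : (pullP m d).rim E = ⊤ := eq_top_iff.2 fun x _ => by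
  obtain ⟨_, ⟨e, he, rfl⟩, rfl⟩ := (d.mem_rim le_rfl).1 (hd.ge (mem_top x))
  exact (pullP m d).r_mem_rim le_rfl he

theorem fh (hV : IsElementaryAbelian p V) : FH p ι.range ((⊤ : Subgroup G).map κ) :=
  ⟨isAb_iff_isElementaryAbelian.1 (H6KS2.Mod.isAb (isAb_iff_isElementaryAbelian.2 hV)), m.norm _,
    by rw [← MonoidHom.range_eq_map, m.faith]⟩

omit m in
/-- components of the two types, modulo `C(V)` -/
def TypQ (p : ℕ) (V E : Subgroup G) : Prop := E ⊓ Kn V (V ⊓ 𝐂 E) ≤ 𝐂 V ∧ ∃ n, 1 ≤ n ∧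
  ((∃ (F : Type) (_ : Field F) (_ : Fintype F), Fintype.card F = p ^ n ∧ 2 < p ^ n ∧ Nt F E V (V ⊓ 𝐂 E)) ∨
    (p = 2 ∧ ∃ d : PD (Fin (2 ^ n + 1)) E V (V ⊓ 𝐂 E), d.rim E = ⊤))

theorem typQ [Finite Γ] [Fact p.Prime] (t : Typ p ι.range (E.map κ)) : TypQ p V E := by
  rcases t with ⟨A, n, h2⟩ | ⟨hp, n, hn, d, hd, hk⟩
  · obtain ⟨k, hk⟩ := IsPGroup.iff_card.1 n.syl.pg
    obtain ⟨F, _, _, e, -, c⟩ := n.ex
    exact ⟨Kn_le m n.kn, k, Nat.one_le_iff_ne_zero.2 fun e => by simp [hk, e] at h2,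
      .inl ⟨F, _, _, e.trans hk, hk ▸ h2, nt_pull m c.nt⟩⟩
  · exact ⟨Kn_le m hk, n, hn, .inr ⟨hp, pullP m d, rim_pullP m d hd⟩⟩

end pull

theorem TypQ.span (t : TypQ p V E) : V ≤ ⁅V, E⁆ ⊔ (V ⊓ 𝐂 E) := by
  obtain ⟨-, n, hn, ⟨F, _, _, -, -, c⟩ | ⟨-, d, hd⟩⟩ := t
  · exact c.le_sup (commutator_le_left_of_norm c.norm) (norm_comm_right _ _) fun e =>
      c.not_le_Kn (le_Kn_iff.2 ⟨c.norm₀, e⟩)
  · exact d.span (three_le hn) hd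

theorem TypQ.out (t : TypQ p V E) (hC : 𝐂 V ≤ E) [V.Normal] : ∃ n : ℕ, 1 ≤ n ∧
    ((∃ (F : Type) (_ : Field F) (_ : Fintype F), Fintype.card F = p ^ n ∧
      (∃ _ : ((𝐂 V).subgroupOf E).Normal, Nonempty (E ⧸ (𝐂 V).subgroupOf E ≃* SL(2, F))) ∧
      ActsAsSL2OnSection F ⊤ E ⁅V, E⁆ (⁅V, E⁆ ⊓ 𝐂 E)) ∨
    (p = 2 ∧ (∃ _ : ((𝐂 V).subgroupOf E).Normal,
      Nonempty (E ⧸ (𝐂 V).subgroupOf E ≃* Equiv.Perm (Fin (2 ^ n + 1)))) ∧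
      ActsAsOddPermModuleOnSection (2 ^ n + 1) ⊤ E ⁅V, E⁆ (⁅V, E⁆ ⊓ 𝐂 E))) := by
  have hs := t.span
  have e : (𝐂 V).subgroupOf E = (Kn V (V ⊓ 𝐂 E)).subgroupOf E := by
    rw [← inf_subgroupOf_left (Kn _ _), le_antisymm t.1 (le_inf hC (H6Stab.cent_le_commInto inf_le_left))]
  haveI : ((Kn V (V ⊓ 𝐂 E)).subgroupOf E).Normal := e ▸ inferInstance
  obtain ⟨-, n, hn, ⟨F, _, _, h1, -, c⟩ | ⟨hp, d, hd⟩⟩ := t
  · refine ⟨n, hn, .inl ⟨F, _, _, h1, ⟨inferInstance, c.quot.map fun f =>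
      (QuotientGroup.quotientMulEquivOfEq e).trans f⟩, ?_⟩⟩
    rw [← inf_comm_eq c.norm]
    exact c.sub (commutator_le_left_of_norm c.norm) (norm_comm_right _ _) hs
  · refine ⟨n, hn, .inr ⟨hp, ⟨inferInstance, (d.quot (three_le hn) hd).map fun f =>
      (QuotientGroup.quotientMulEquivOfEq e).trans f⟩, ?_⟩⟩
    rw [← inf_comm_eq d.norm]
    exact H6PD.acts_iff.2 ⟨d.sub (commutator_le_left_of_norm d.norm) (norm_comm_right _ _) hs, hd⟩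

theorem span_of [Finite G] {𝓔 : Set (Subgroup G)} (hV : V ≤ 𝐂 V) (h0 : ∀ E ∈ 𝓔, E ≤ 𝐍 V)
    (h1 : ∀ E ∈ 𝓔, V ≤ ⁅V, E⁆ ⊔ (V ⊓ 𝐂 E)) (h2 : ∀ E ∈ 𝓔, ∀ E' ∈ 𝓔, E ≠ E' → ⁅V, E⁆ ≤ 𝐂 E') :
    V ≤ (V ⊓ 𝐂 (sSup 𝓔 : Subgroup G)) ⊔ ⨆ E : 𝓔, ⁅V, E.1⁆ := by
  have key : ∀ s : Set (Subgroup G), s.Finite → s ⊆ 𝓔 →
      V ≤ (V ⊓ 𝐂 (sSup s : Subgroup G)) ⊔ ⨆ E : 𝓔, ⁅V, E.1⁆ := fun s hs => by
    induction s, hs using Set.Finite.induction_on with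
    | empty => intro; rw [sSup_empty, Amb.centralizer_bot, inf_top_eq]; exact le_sup_left
    | @insert E s hE _ ih =>
      intro hs
      have h3 := hs (Set.mem_insert _ _)
      have h4 : s ⊆ 𝓔 := (Set.subset_insert _ _).trans hs
      refine (ih h4).trans (sup_le (fun v hv => ?_) le_sup_right)
      obtain ⟨w, hw, u, hu, rfl⟩ := (mem_sup_of_norm (norm_of_ab hV (commutator_le_left_of_norm (h0 E h3))
        inf_le_left)).1 (h1 E h3 hv.1)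
      rw [sup_comm]
      refine mul_mem_sup (le_iSup (fun E : 𝓔 => ⁅V, E.1⁆) ⟨E, h3⟩ hw) (mem_inf.2 ⟨hu.1, ?_⟩)
      rw [sSup_insert, centralizer_sup]
      refine ⟨hu.2, (mul_mem_cancel_left (cent_symm (sSup_le fun E' hE' => cent_symm
        (h2 E h3 E' (h4 hE') fun e => hE (e ▸ hE'))) hw)).1 hv.2⟩
  exact key 𝓔 (Set.toFinite _) le_rfl

/-- the situation of the `C**(G,T)`-theorem -/
structure SS (p : ℕ) (V T M : Subgroup G) : Prop where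
  eq : V = OZ p (pCoreOf p ⊤)
  ch : AmbChar.CharP p (⊤ : Subgroup G)
  syl : SylIn p T ⊤
  umax : UMax T M ⊤
  cz : 𝐂 (OZ p T) ≤ M
  nJ : 𝐍 (J p T) ≤ M

namespace SS

variable {T M : Subgroup G} (s : SS p V T M)
include s

theorem ea : IsElementaryAbelian p V := s.eq ▸ ea_OZ _ _
theorem nor : V.Normal := normal_iff_top_le.2 (s.eq ▸ norm_OZ (norm_pCoreOf _ _))
theorem le_Q : V ≤ pCoreOf p ⊤ := s.eq ▸ OZ_le _ _
theorem Q_le : pCoreOf p ⊤ ≤ 𝐂 V := s.eq ▸ le_cent_OZ _ _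
theorem Q_le_T : pCoreOf p ⊤ ≤ T := pCoreOf_le_syl s.syl
theorem OZ_le : OZ p T ≤ V := s.eq ▸ OZ_le_OZ_pCoreOf s.ch s.syl
theorem cV : 𝐂 V ≤ M := (centralizer_anti s.OZ_le).trans s.cz

variable [Finite G] [Fact p.Prime]

theorem core {N : Subgroup G} (h : N ≤ M) (hn : ⊤ ≤ 𝐍 N) : T ⊓ N ≤ pCoreOf p ⊤ :=
  (inf_le_inf_left _ (le_cor h hn)).trans (inf_cor_le s.syl s.umax)

theorem inf_cV : T ⊓ 𝐂 V = pCoreOf p ⊤ :=
  le_antisymm (s.core s.cV (norm_centralizer (normal_iff_top_le.1 s.nor))) (le_inf s.Q_le_T s.Q_le)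

omit [Fact p.Prime] in
theorem J_not_le : ¬ J p T ≤ pCoreOf p ⊤ := fun e => s.umax.not_le (le_trans (by
  rw [← J_eq_of_J_le e s.Q_le_T]; exact norm_J (norm_pCoreOf _ _)) s.nJ)

variable (m : Mod V ι κ)
include m

omit [Finite G] [Fact p.Prime] in
theorem umax' : UMax (T.map κ) (M.map κ) ((⊤ : Subgroup G).map κ) :=
  s.umax.map κ (inf_le_right.trans (m.ker.le.trans s.cV))

theorem core' : pCoreOf p ((⊤ : Subgroup G).map κ) = ⊥ := by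
  set N := (pCoreOf p ((⊤ : Subgroup G).map κ)).comap κ
  have h1 : ⊤ ≤ 𝐍 N := (le_comap_map _ _).trans (norm_comap κ (norm_pCoreOf _ _))
  have h2 : N ≤ M := by
    refine (comap_mono ((pCoreOf_le_syl (s.syl.map κ)).trans (map_mono s.umax.le))).trans ?_
    rw [comap_map_eq, m.ker]; exact sup_le le_rfl s.cV
  refine eq_bot_iff.2 fun x hx => ?_
  obtain ⟨t, ht, rfl⟩ := pCoreOf_le_syl (s.syl.map κ) hx
  exact (m.ker.ge (s.Q_le (s.core h2 h1 ⟨ht, hx⟩)) : t ∈ κ.ker)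

omit [Fact p.Prime] in
theorem off {X : Subgroup G} (hX : pCoreOf p ⊤ ≤ X) (hA : A ∈ mx p X) :
    IsElementaryAbelian p (A.map κ) ∧ Nat.card ι.range ≤ fm ι.range (A.map κ) :=
  ⟨isAb_iff_isElementaryAbelian.1 (hA.2.1.map κ), fm_bot ι.range ▸ (best_iff.1 (m.best
    (best_of_mx (isAb_iff_isElementaryAbelian.2 s.ea) (s.le_Q.trans hX) hA))).1 ⊥ bot_le⟩

variable [Finite Γ]

theorem ex_mo : ∃ B, B ≤ (J p T).map κ ∧ MO p ι.range ((⊤ : Subgroup G).map κ) B := by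
  obtain ⟨A, hA, hn⟩ : ∃ A ∈ mx p T, ¬ A ≤ pCoreOf p ⊤ := by
    by_contra hc
    push Not at hc
    exact s.J_not_le (J_le_iff.2 hc)
  obtain ⟨B, b1, b2, -⟩ := exists_MO (map_mono le_top) (s.off m s.Q_le_T hA).1 (fun e => hn
    (s.inf_cV ▸ le_inf hA.1 (m.ker ▸ (Subgroup.map_eq_bot_iff _).1 e))) (s.off m s.Q_le_T hA).2
  exact ⟨B, b1.trans (map_mono (le_J hA)), b2⟩

theorem gh {B : Subgroup Γ} (b : MO p ι.range ((⊤ : Subgroup G).map κ) B) :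
    GH p ι.range ((⊤ : Subgroup G).map κ) (T.map κ) (M.map κ) :=
  H6TV9.gh (fh m s.ea) (s.syl.map κ) (s.umax' m) (s.core' m) b

theorem map_J {B : Subgroup Γ} (b : MO p ι.range ((⊤ : Subgroup G).map κ) B) {X : Subgroup G}
    (hX : pCoreOf p ⊤ ≤ X) : (J p X).map κ ≤ JD (Cls ((⊤ : Subgroup G).map κ) B) (X.map κ) :=
  map_le_iff_le_comap.2 (J_le_iff.2 fun _ hA => map_le_iff_le_comap.1 (((s.gh m b).off_le (s.umax' m) b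
    (map_mono le_top) (s.off m hX hA).1 (s.off m hX hA).2).trans (JD_mono (map_mono hA.1))))

theorem map_J_top {B : Subgroup Γ} (b : MO p ι.range ((⊤ : Subgroup G).map κ) B) (hB : B ≤ (J p T).map κ) :
    (J p ⊤).map κ = JD (Cls ((⊤ : Subgroup G).map κ) B) ((⊤ : Subgroup G).map κ) := by
  refine le_antisymm (s.map_J m b le_top) (JD_le_iff.2 ?_)
  rintro _ ⟨g, hg, rfl⟩ -
  exact cj_le_of_le (hB.trans (map_mono (J_syl_le s.syl))) (norm_map κ (le_normalizer_J _ _) hg)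

end SS

/-- the conclusion of the `C**(G,T)`-theorem -/
structure DQ (p : ℕ) (V T : Subgroup G) (𝓔 : Set (Subgroup G)) : Prop where
  ne : 𝓔.Nonempty
  cV : ∀ E ∈ 𝓔, 𝐂 V ≤ E
  comm : ∀ E ∈ 𝓔, ∀ E' ∈ 𝓔, E ≠ E' → ⁅V, E⁆ ≤ 𝐂 E'
  der : ∀ E ∈ 𝓔, ∀ E' ∈ 𝓔, E ≠ E' → ⁅E, E'⁆ ≤ 𝐂 V
  ind : ∀ E ∈ 𝓔, ∀ X, X ≤ 𝐂 ⁅V, E⁆ → E ⊓ X ≤ 𝐂 V
  gen : sSup 𝓔 ⊔ T = ⊤
  tr : ∀ E ∈ 𝓔, ∀ E' ∈ 𝓔, ∃ t ∈ T, cj t E = E'
  inv : ∀ E ∈ 𝓔, ∀ g, cj g E ∈ 𝓔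
  typ : ∀ E ∈ 𝓔, TypQ p V E

theorem cj_comap (g : G) (X : Subgroup Γ) : cj g (X.comap κ) = (cj (κ g) X).comap κ := by
  ext x
  simp only [mem_cj, mem_comap, map_mul, map_inv]

theorem dq [Finite Γ] [Fact p.Prime] (m : Mod V ι κ) {T : Subgroup G} {𝓔 : Set (Subgroup Γ)}
    (d : Dec p ι.range ((⊤ : Subgroup G).map κ) (T.map κ) 𝓔) :
    DQ p V T ((fun X => X.comap κ) '' 𝓔) ∧ sSup ((fun X => X.comap κ) '' 𝓔) = (sSup 𝓔).comap κ := by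
  have e : ∀ X ∈ 𝓔, (X.comap κ).map κ = X := fun X hX =>
    map_comap_eq_self ((d.sub X hX).trans (map_le_range _ _))
  have hk : ∀ X : Subgroup Γ, 𝐂 V ≤ X.comap κ := fun X => m.ker ▸ ker_le_comap _ _
  have hs : sSup ((fun X => X.comap κ) '' 𝓔) = (sSup 𝓔).comap κ := by
    obtain ⟨X, hX⟩ := d.ne
    refine le_antisymm (sSup_le ?_) ((comap_mono (sSup_le fun Y hY => ?_)).trans
      (comap_map_eq_self ((ker_le_comap _ X).trans (le_sSup (Set.mem_image_of_mem _ hX)))).le)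
    · rintro _ ⟨Y, hY, rfl⟩; exact comap_mono (le_sSup hY)
    · exact (e Y hY).ge.trans (map_mono (le_sSup ⟨Y, hY, rfl⟩))
  have hc : ∀ X ∈ 𝓔, ∀ Y ∈ 𝓔, X.comap κ ≠ Y.comap κ → ⁅V, X.comap κ⁆ ≤ 𝐂 (Y.comap κ) := fun X hX Y hY h =>
    (comm_le_iff m).1 (by rw [e X hX, e Y hY]; exact d.comm X hX Y hY fun e => h (e ▸ rfl))
  refine ⟨⟨d.ne.image _, ?_, ?_, ?_, ?_, ?_, ?_, ?_, ?_⟩, hs⟩
  · rintro _ ⟨X, -, rfl⟩; exact hk X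
  · rintro _ ⟨X, hX, rfl⟩ _ ⟨Y, hY, rfl⟩; exact hc X hX Y hY
  · rintro _ ⟨X, hX, rfl⟩ _ ⟨Y, hY, rfl⟩ h
    rw [← m.ker, H6TV9.comm_le_ker, e X hX, e Y hY]
    exact d.cent hX hY fun e => h (e ▸ rfl)
  · rintro _ ⟨X, hX, rfl⟩ Y hY x hx
    have := (comm_le_iff m).2 (cent_symm hY)
    rw [e X hX] at this
    exact m.ker ▸ mem_bot.1 (d.inf_eq hX (cent_symm this) ▸ mem_inf.2 ⟨hx.1, mem_map_of_mem κ hx.2⟩)
  · rw [hs, eq_top_iff, ← comap_map_eq_self (f := κ) (H := ⊤) le_top, ← d.gen,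
      ← comap_map_eq_self (f := κ) (H := _ ⊔ T) ((ker_le_comap _ _).trans le_sup_left), Subgroup.map_sup,
      map_comap_eq_self ((sSup_le d.sub).trans (map_le_range _ _))]
  · rintro _ ⟨X, hX, rfl⟩ _ ⟨Y, hY, rfl⟩
    obtain ⟨_, ⟨t, ht, rfl⟩, rfl⟩ := d.tr X hX Y hY
    exact ⟨t, ht, cj_comap t X⟩
  · rintro _ ⟨X, hX, rfl⟩ g
    exact ⟨_, d.conj_mem hX (mem_map_of_mem κ (mem_top g)), (cj_comap g X).symm⟩
  · rintro _ ⟨X, hX, rfl⟩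
    exact typQ m ((e X hX).symm ▸ d.typ X hX)

theorem SS.dq [Finite G] [Fact p.Prime] {T M : Subgroup G} (s : SS p V T M) :
    ∃ 𝓔, DQ p V T 𝓔 ∧ sSup 𝓔 = J p ⊤ ⊔ 𝐂 V := by
  haveI := s.nor
  obtain ⟨Γ, _, _, ι, κ, m⟩ := exists_mod V
  obtain ⟨B, b1, b⟩ := s.ex_mo m
  have h := (s.gh m b).cl b
  obtain ⟨d, e⟩ := H6Pull.dq m (dec h (s.umax' m) mem_Cls)
  exact ⟨_, d, by rw [e, sSup_Es h (s.syl.map κ), ← s.map_J_top m b b1, comap_map_eq, m.ker]⟩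

end CA.H6Pull
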