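import Cfsg.Agent.Lib.Loc.AmbM
import Cfsg.Agent.Lib.Loc.H6Nat
import Cfsg.Agent.Lib.Lie.SzSub
import Cfsg.Agent.Lib.Lie.SzModel

/-! `Y`-minimal groups of rank one type: action on the `p`-core. -/

set_option autoImplicit false

namespace CA.H6YM

open Subgroup Cfsg CA.Amb CA.AmbSyl CA.AmbCore CA.AmbRes CA.AmbWC CA.AmbSpe
open scoped commutatorElement MatrixGroups

variable {Γ : Type*} [Group Γ] {p : ℕ}

/-- products of nontrivial elements of two distinct conjugates -/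
def PR (U : Subgroup Γ) (h : Γ) : Prop :=
  ∃ a b y x, y ∈ cj a U ∧ x ∈ cj b U ∧ y ≠ 1 ∧ x ≠ 1 ∧ cj a U ≠ cj b U ∧ h = y * x

theorem PR.of_conj {U : Subgroup Γ} {h g : Γ} (k : PR U (g * h * g⁻¹)) : PR U h := by
  obtain ⟨a, b, y, x, h1, h2, h3, h4, h5, e⟩ := k
  refine ⟨g⁻¹ * a, g⁻¹ * b, g⁻¹ * y * g⁻¹⁻¹, g⁻¹ * x * g⁻¹⁻¹, ?_, ?_, fun e => h3 (conj_eq_one_iff.1 e), fun e => h4 (conj_eq_one_iff.1 e),
    fun e => h5 (by rwa [← cj_cj, ← cj_cj, cj_inj] at e), ?_⟩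
  · rw [← cj_cj]; exact conj_mem_cj.2 h1
  · rw [← cj_cj]; exact conj_mem_cj.2 h2
  · rw [show h = g⁻¹ * (g * h * g⁻¹) * g by group, e]; group

/-- rank one properties -/
structure RK (p : ℕ) (U : Subgroup Γ) : Prop where
  ti : ∀ g y, y ∈ U → y ∈ 𝐍 (cj g U) → y ≠ 1 → g ∈ 𝐍 U
  pr : ∀ h : Γ, (¬ ∃ k, h ^ p ^ k = 1) → PR U h ∨
    (h ∈ center Γ ∧ ∃ w, w * w = h ∧ PR U w ∧ ∃ y, PR U ⁅w, y⁆)
  un : ∀ V, V ≤ 𝐍 U → 𝐍 U ≤ 𝐍 V → IsElementaryAbelian p V → V ≠ ⊥ → V = U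

theorem pr_of_inv {U : Subgroup Γ} (hU : ∀ y ∈ U, y * y = 1) (h1 : ∀ s : Γ, s * s = 1 → ∃ g, s ∈ cj g U)
    {h s : Γ} (hn : ¬ ∃ k, h ^ 2 ^ k = 1) (hs : s * s = 1) (e : s * h * s⁻¹ = h⁻¹) : PR U h := by
  have i : s⁻¹ = s := inv_eq_of_mul_eq_one_right hs
  have h2 : ¬ h * h = 1 := fun e => hn ⟨1, by rwa [pow_one, sq]⟩
  obtain ⟨a, ha⟩ := h1 s hs
  obtain ⟨b, hb⟩ := h1 (s * h) (by rw [← mul_assoc, ← congrArg (s * h * ·) i, e, inv_mul_cancel])
  have e' : h = s * (s * h) := by rw [← mul_assoc, hs, one_mul]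
  refine ⟨a, b, s, s * h, ha, hb, fun e0 => h2 ?_, fun e0 => h2 ?_, fun e0 => h2 ?_, e'⟩
  · rw [e0] at e; simpa using eq_inv_iff_mul_eq_one.1 (by simpa using e)
  · rw [e', e0, mul_one, hs]
  · have := hU _ (mem_cj.1 (mul_mem (e0 ▸ ha) hb))
    rw [← e', show b⁻¹ * h * b * (b⁻¹ * h * b) = b⁻¹ * (h * h) * b⁻¹⁻¹ by group] at this
    exact conj_eq_one_iff.1 this

section sl

open SL2Unip SL2Embed SL2Torus

variable {F : Type*} [Field F]

theorem pr_sl {k : SL(2, F)} (h1 : k.1 1 0 ≠ 0) (h2 : k.1.trace ≠ 2) : PR (U F) k := by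
  obtain ⟨a, b, c, d, hd, rfl⟩ := sl_ex4 k
  have hc : c ≠ 0 := h1
  rw [trace_mk2] at h2
  refine PR.of_conj (g := u ((d - 1) / c)) ⟨1, w0, u ((a + d - 2) / c), l c, by simpa using u_mem_U _,
    ?_, fun e => h2 (by simpa [hc, sub_eq_zero] using u_eq_one_iff.1 e), fun e => hc ?_, fun e => w0_not_mem_B (F := F) ?_, ?_⟩
  · rw [← neg_neg c, ← w0_conj_u]; exact conj_mem_cj.2 (u_mem_U _)
  · simpa using congrArg (fun g : SL(2, F) => g.1 1 0) e
  · rw [← normalizer_U, ← cj_eq_self_iff, ← e, cj_one]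
  · rw [u_inv]
    simp only [u, l, mk2_mul, mk2_eq_iff]
    refine ⟨?_, ?_, ?_, ?_⟩ <;> field_simp
    · ring
    · linear_combination (-1 : F) * hd
    · ring
    · ring

theorem rk_sl [Finite F] [Fact p.Prime] [CharP F p] : RK p (U F) := by
  have hp : ∀ b : F, u b ^ p = 1 := fun b => by
    rw [show u b = uHom (Multiplicative.ofAdd b) from rfl, ← map_pow, ← ofAdd_nsmul, nsmul_eq_mul,
      CharP.cast_eq_zero, zero_mul, ofAdd_zero, map_one]
  refine ⟨fun g y ⟨b, e⟩ h1 h2 => ?_, fun h hn => ?_, fun V v1 v2 v3 v4 => ?_⟩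
  · rw [← cj_normalizer, normalizer_U, mem_cj, ← e] at h1
    rw [normalizer_U, ← inv_mem_iff]
    exact mem_B_of_conj (b := b.toAdd) (fun e' => h2 (e ▸ u_eq_one_iff.2 e')) (by rw [inv_inv]; exact h1)
  · have tr : ∀ x : SL(2, F), (x * h * x⁻¹).1.trace ≠ 2 := fun x e => by
      obtain ⟨z, b, e'⟩ := exists_conj_u e
      refine hn ⟨1, ?_⟩
      have := hp b
      rw [← e', conj_pow, conj_pow] at this
      simpa using this
    by_cases c : ∃ x : SL(2, F), (x * h * x⁻¹).1 1 0 ≠ 0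
    · obtain ⟨x, hx⟩ := c
      exact .inl (pr_sl hx (tr x)).of_conj
    push Not at c
    obtain ⟨a, b, c', d, hd, rfl⟩ := sl_ex4 h
    have c1 := c 1
    have c2 := c w0
    have c3 := c (l 1)
    have t := tr 1
    simp only [w0, l, mk2_mul, mk2_inv, one_eq_mk2, mk2_coe, trace_mk2] at c1 c2 c3 t
    simp at c1 c2 c3 t
    subst c1 c2
    obtain rfl : d = a := by linear_combination -c3
    have ha : d = -1 := by
      have : (d - 1) * (d + 1) = 0 := by linear_combination hd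
      exact eq_neg_of_add_eq_zero_left ((mul_eq_zero.1 this).resolve_left fun e => t (by linear_combination 2 * e))
    subst ha
    have h2 : (2 : F) ≠ 0 := fun e => t (by linear_combination -2 * e)
    refine .inr ⟨mem_center_iff.2 fun g => ?_, w0, ?_, pr_sl (by simp) (by simpa using h2.symm), u 1, pr_sl ?_ ?_⟩
    · obtain ⟨a, b, c, d, hd, rfl⟩ := sl_ex4 g
      simp [mk2_mul]
    · simp [w0, mk2_mul]
    · simp [commutatorElement_def, w0, u, mk2_mul, mk2_inv]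
    · simp only [commutatorElement_def, w0, u, mk2_mul, mk2_inv, trace_mk2]
      intro e
      exact one_ne_zero (α := F) (by linear_combination e)
  · rw [normalizer_U] at v1 v2
    have hS : SylIn p (U F) (B F) := (sylIn_top (sylowU F p)).mono U_le_B le_top
    have h1 := hS.le_of_norm (ea_pg v3) v1 (U_le_B.trans v2)
    obtain ⟨x, hx, x1⟩ := AmbFs.exists_ne_one_of_ne_bot v4
    obtain ⟨b, rfl⟩ := mem_U.1 (h1 hx)
    have hb : b ≠ 0 := fun e => x1 (u_eq_one_iff.2 e)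
    have k : ∀ a : F, u (a ^ 2 * b) ∈ V := fun a => by
      by_cases e : a = 0
      · simp [e]
      simpa [dg_conj_u] using conj_mem_of_mem_normalizer (v2 (dg_mem_B (Units.mk0 a e))) hx
    refine le_antisymm h1 fun y hy => ?_
    obtain ⟨t, rfl⟩ := mem_U.1 hy
    by_cases h2 : (2 : F) = 0
    · obtain ⟨a, ha⟩ := FiniteField.isSquare_of_char_two (F := F) (by
        haveI : CharP F 2 := CharTwo.of_one_ne_zero_of_two_eq_zero one_ne_zero h2
        exact ringChar.eq F 2) (t / b)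
      rw [show t = a ^ 2 * b by rw [sq, ← ha]; field_simp]; exact k a
    · have := mul_mem (k ((t / b + 1) / 2)) (inv_mem (k ((t / b - 1) / 2)))
      rwa [u_inv, ← u_add, show ((t / b + 1) / 2) ^ 2 * b + -(((t / b - 1) / 2) ^ 2 * b) = t by
        field_simp; ring] at this

end sl

section sz

open SzBasic SzGroup SzTori SzSub TorusCount MulAction

variable {F : Type*} [Field F] [Fintype F] {m : ℕ} [hy : Hyp F m]

theorem norm_Z : 𝐍 (Z F) = 𝐍 (U F) := by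
  have h1 : 𝐍 (U F) ≤ 𝐍 (Z F) := le_normalizer_iff_cj.2 fun g hg => cj_le_iff'.2 fun x hx =>
    (sq_eq_one_iff (conj_mem_of_mem_normalizer hg (Z_le_U hx))).1 (by
      rw [show g * x * g⁻¹ * (g * x * g⁻¹) = g * (x * x) * g⁻¹ by group, (sq_eq_one_iff (Z_le_U hx)).2 hx]
      simp)
  refine le_antisymm ?_ h1
  by_contra hn
  rw [normalizer_U] at hn
  have := eq_top_of_le split U_ne_bot (le_normalizer.trans h1) hn
  rcases (normal_iff_top_le.2 this.ge).eq_bot_or_eq_top with e | e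
  · exact one_ne_zero (T_eq_one.1 (mem_bot.1 (e ▸ T_mem_Z (1 : F)))).2
  · obtain ⟨b, e'⟩ := mem_Z.1 (e.ge (mem_top (T (1 : F) 0)))
    exact one_ne_zero (T_inj.1 e').1

theorem inv_mem_Z {s : G F} (hs : s * s = 1) : ∃ g, s ∈ cj g (Z F) := by
  by_cases e : s = 1
  · exact ⟨1, by rw [e]; exact one_mem _⟩
  obtain ⟨-, g, hg⟩ := mem_cls_U e (n := 1) (by rwa [pow_one, sq])
  exact ⟨g⁻¹, mem_cj_inv.2 ((sq_eq_one_iff hg).1 (by
    rw [show g * s * g⁻¹ * (g * s * g⁻¹) = g * (s * s) * g⁻¹ by group, hs]; simp))⟩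

theorem rk_sz : RK 2 (Z F) := by
  have hS : SylIn 2 (U F) ⊤ := sylIn_top sylU
  have hZ : ∀ y ∈ Z F, y * y = 1 := fun y hy => (sq_eq_one_iff (Z_le_U hy)).2 hy
  refine ⟨fun g y h1 h2 h3 => ?_, fun h hn => .inl ?_, fun V v1 v2 v3 v4 => ?_⟩
  · rw [← cj_normalizer, norm_Z, mem_cj] at h2
    rw [norm_Z, ← inv_mem_iff]
    refine ti_U _ y (Z_le_U h1) h3 (zpowers_le.1 (hS.le_of_norm' (isPGroup_zpowers' ?_) le_top
      (zpowers_le.2 (by simpa using h2))))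
    rw [conj_pow, sq, hZ y h1]; simp
  · have h1 : h ≠ 1 := fun e => hn ⟨0, by simp [e]⟩
    have key : ∀ k s : G F, s * s = 1 → s * (k * h * k⁻¹) * s⁻¹ = (k * h * k⁻¹)⁻¹ → PR (Z F) h :=
      fun k s hs e => (pr_of_inv hZ (fun s => inv_mem_Z) (fun ⟨n, e⟩ => hn ⟨n, by
        rw [conj_pow] at e; simpa using e⟩) hs e).of_conj
    rcases cases_elt h1 with c | ⟨-, k, μ, c⟩ | c
    · exact (hn ⟨2, pow_four c⟩).elim
    · exact key k (J F) J_mul_J (by rw [← c]; exact J_conj_D μ)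
    have k2 : ∀ x ∈ Der F, (centralizer {x}).relIndex (𝐍 (centralizer {x})) = 4 → h ∈ Cls (centralizer {x}) →
        PR (Z F) h := fun x hx e ⟨_, k, hk⟩ => by
      obtain ⟨s, hs, o⟩ := exists_orderOf_eq_of_dvd (p := 2) (L := 𝐍 (centralizer {x})) (by
        rw [← card_mul_relIndex (le_normalizer (H := centralizer {x})), e]; exact Dvd.intro_left (_ * 2) (mul_assoc _ _ _))
      have s2 : s * s = 1 := by rw [← sq, ← o, pow_orderOf_eq_one]
      refine key k s s2 (AmbFs.inverts_of_fpf s2 hs (eq_bot_iff.2 fun t ht => by_contra fun t1 => ?_) hk)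
      have h3 : s ∈ centralizer {x} := cc_cent hx t ht.1 t1 ▸
        mem_centralizer_singleton_iff.2 (mem_centralizer_singleton_iff.1 ht.2).symm
      have h4 := (o ▸ (centralizer {x}).orderOf_dvd_natCard h3).trans (card_cent_dvd hx)
      rw [Nat.dvd_add_right (dvd_pow (dvd_pow_self 2 (by omega)) two_ne_zero)] at h4
      omega
    obtain ⟨x, hx, y, hy, -, -, e1, e2, -, h5⟩ := exists_tori (F := F)
    exact (h5 h c).elim (k2 x hx e1) (k2 y hy e2)
  · rw [norm_Z] at v1 v2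
    have h1 := (hS.mono le_normalizer le_top).le_of_norm (ea_pg v3) v1 (le_normalizer.trans v2)
    have h2 : V ≤ Z F := fun x hx => (sq_eq_one_iff (h1 hx)).1 (by rw [← sq, ea_pow v3 hx])
    obtain ⟨x, hx, x1⟩ := AmbFs.exists_ne_one_of_ne_bot v4
    obtain ⟨b, rfl⟩ := mem_Z.1 (h2 hx)
    refine le_antisymm h2 ?_
    rintro _ ⟨c, rfl⟩
    by_cases e : c = 0
    · simp [e]
    obtain ⟨μ, e'⟩ := exists_scale (b := b) (fun e => x1 (by simp [e])) e
    have := conj_mem_of_mem_normalizer (v2 (show D μ ∈ 𝐍 (U F) from mem_normalizer_of_cj_le (cj_le_iff'.2 (by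
      rintro _ ⟨a, b, rfl⟩; rw [D_conj_T]; exact T_mem_U _ _)))) hx
    rwa [D_conj_T, mul_zero, e'] at this

end sz

theorem rk_two [Finite Γ] {U : Subgroup Γ} (hU : Nat.card U = 2) (hO : pCore 2 Γ = ⊥) {g : Γ}
    (hg : U ⊔ cj g U = ⊤) : RK 2 U := by
  haveI : Fact (Nat.Prime 2) := ⟨Nat.prime_two⟩
  have hp : IsPGroup 2 U := .of_card (n := 1) hU
  obtain ⟨⟨s, hs⟩, s1, s2⟩ := (Nat.card_eq_two_iff' (1 : U)).1 hU
  have mU : ∀ y ∈ U, y = 1 ∨ y = s := fun y hy => or_iff_not_imp_left.2 fun e =>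
    congrArg Subtype.val (s2 ⟨y, hy⟩ fun e' => e (congrArg Subtype.val e'))
  have s0 : s ≠ 1 := fun e => s1 (Subtype.ext e)
  have ss : s * s = 1 := (mU _ (mul_mem hs hs)).resolve_right (by simpa using s0)
  have hZ : ∀ y ∈ U, y * y = 1 := fun y hy => (mU y hy).elim (fun e => by simp [e]) fun e => e ▸ ss
  set c := s * (g * s * g⁻¹) with hc
  have i : s⁻¹ = s := inv_eq_of_mul_eq_one_right ss
  have inv : ∀ x ∈ zpowers c, s * x * s⁻¹ = x⁻¹ := by
    rintro _ ⟨k, rfl⟩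
    rw [← conj_zpow, ← inv_zpow]
    congr 1
    rw [hc, mul_inv_rev, conj_inv, ← mul_assoc, ss, i, one_mul]
  have nz : ∀ x ∈ zpowers c, U ≤ 𝐍 (zpowers x) := fun x hx y hy => (mU y hy).elim
    (fun e => e ▸ one_mem _) fun e => cj_eq_self_iff.1 (by rw [e, cj_zpowers, inv x hx, zpowers_inv])
  have top : U ⊔ zpowers c = ⊤ := top_le_iff.1 (hg.ge.trans (sup_le le_sup_left fun x hx => by
    obtain ⟨y, hy, rfl⟩ := mem_cj'.1 hx
    rcases mU y hy with rfl | rfl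
    · simp
    · simpa [hc] using mul_mem_sup (inv_mem hs) (mem_zpowers c)))
  have dec := fun x => (mem_sup_of_norm (nz c (mem_zpowers c))).1 (top.ge (mem_top x))
  have hS : SylIn 2 U ⊤ := ⟨le_top, hp, fun Q q1 q2 _ => le_antisymm (fun x hx => by
    obtain ⟨y, hy, z, hz, rfl⟩ := dec x
    have : zpowers z ≤ pCoreOf 2 ⊤ := le_pCoreOf le_top
      (isPGroup_zpowers_of_mem q1 ((Q.mul_mem_cancel_left (q2 hy)).1 hx)) (top.ge.trans (sup_le (nz z hz)
        (norm_of_centralizer ((le_centralizer _).trans (centralizer_anti (zpowers_le.2 hz))))))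
    rw [pCoreOf_top, hO, zpowers_le, mem_bot] at this
    simpa [this] using hy) q2⟩
  have two : ∀ V W : Subgroup Γ, V ≤ W → V ≠ ⊥ → Nat.card W = 2 → V = W := fun V W h1 h2 h3 =>
    eq_of_le_of_card_ge h1 (by rw [h3]; exact (one_lt_card_iff_ne_bot V).2 h2)
  refine ⟨fun k y h1 h2 h3 => cj_eq_self_iff.1 (two _ _ ((hS.conj_mem (mem_top k)).le_of_norm' hp le_top
    fun x hx => ?_) (AmbFs.ne_bot_of_mem hs s0) ((card_cj _ _).trans hU)).symm, fun h hn => .inl ?_,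
    fun V v1 v2 v3 v4 => two _ _ (hS.le_of_norm (ea_pg v3) le_top (le_normalizer.trans v2)) v4 hU⟩
  · rcases mU x hx with rfl | rfl
    · exact one_mem _
    · exact (mU y h1).resolve_left h3 ▸ h2
  obtain ⟨y, hy, z, hz, rfl⟩ := dec h
  rcases mU y hy with rfl | rfl
  · refine pr_of_inv hZ (fun t ht => ?_) hn ss (inv _ (by simpa using hz))
    obtain ⟨k, -, e⟩ := hS.exists_le_conj (isPGroup_zpowers' (x := t) (by rwa [sq])) le_top
    exact ⟨k, e (mem_zpowers t)⟩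
  · refine (hn ⟨1, ?_⟩).elim
    rw [pow_one, sq, ← mul_assoc, ← congrArg (y * z * ·) i, inv z hz, inv_mul_cancel]

/-- the abstract situation in `L` -/
structure YM {L : Type*} [Group L] (p : ℕ) (Y : Subgroup L) : Prop where
  ea : IsElementaryAbelian p Y
  core : pCore p L ≤ ncl (Y ⊓ pCore p L) ⊤
  nrm : pCore p L ≤ 𝐍 Y
  um : UMax Y (𝐍 Y) ⊤
  nc : ncl Y ⊤ = ⊤

namespace YM

variable {L : Type*} [Group L] {Y : Subgroup L} (h : YM p Y)
include h

theorem conj (g : L) : YM p (cj g Y) := by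
  have e := cj_eq_self_of_normal g (pCore p L)
  refine ⟨ea_cj h.ea g, ?_, ?_, ?_, ?_⟩
  · have := cj_mono g h.core
    rwa [cj_ncl, cj_inf, e, cj_top] at this
  · have := cj_mono g h.nrm
    rwa [e, cj_normalizer] at this
  · have := h.um.conj g
    rwa [cj_top, cj_normalizer] at this
  · have := congrArg (cj g) h.nc
    rwa [cj_ncl, cj_top] at this

theorem sup {g : L} (hg : g ∉ 𝐍 Y) : Y ⊔ cj g Y = ⊤ := h.um.sup_cj h.nc (mem_top g) hg

theorem comm_le : ⁅pCore p L, Y⁆ ≤ Y ⊓ pCore p L :=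
  le_inf (commutator_le_right_of_norm h.nrm) (commutator_le_left _ _)

theorem core_le {g : L} (hg : g ∉ 𝐍 Y) : pCore p L ≤ (Y ⊓ pCore p L) ⊔ (cj g Y ⊓ pCore p L) := by
  have k : ∀ {X Z B : Subgroup L}, YM p X → X ⊓ pCore p L ≤ B → B ≤ pCore p L → X ≤ 𝐍 B :=
    fun {_ _ _} h1 h2 h3 => norm_of_commutator_le ((commutator_mono h3 le_rfl).trans (h1.comm_le.trans h2))
  have b : (Y ⊓ pCore p L) ⊔ (cj g Y ⊓ pCore p L) ≤ pCore p L := sup_le inf_le_right inf_le_right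
  exact h.core.trans (ncl_le le_sup_left ((h.sup hg).ge.trans
    (sup_le (k (Z := Y) h le_sup_left b) (k (Z := Y) (h.conj g) le_sup_right b))))

theorem inf_le {g : L} (hg : g ∉ 𝐍 Y) : Y ⊓ cj g Y ≤ center L := by
  rw [← centralizer_top, ← h.sup hg, centralizer_sup]
  exact inf_le_inf (ea_le_cent h.ea) (ea_le_cent (h.conj g).ea)

theorem ex : ∃ g, g ∉ 𝐍 Y := by
  by_contra e
  push Not at e
  exact h.um.not_le fun g _ => e g

theorem not_le : ¬ Y ≤ pCore p L := fun e =>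
  h.um.not_le (h.nc.ge.trans ((ncl_le e norm_of_normal).trans h.nrm))

omit h in
theorem cj_D (g : L) : cj g Y ⊓ center L = Y ⊓ center L := by
  ext x
  rw [mem_inf, mem_inf]
  refine and_congr_left fun hx => ?_
  rw [mem_cj, mul_assoc, ← mem_center_iff.1 hx g, inv_mul_cancel_left]

theorem der_le : ⁅pCore p L, pCore p L⁆ ≤ Y ⊓ center L := by
  obtain ⟨g, hg⟩ := h.ex
  have n : ∀ X : Subgroup L, X ≤ 𝐍 (Y ⊓ center L) := fun X =>
    norm_of_centralizer (le_top.trans (cent_symm (inf_le_right.trans centralizer_top.ge)))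
  have c : ∀ {X}, YM p X → ⁅X ⊓ pCore p L, X ⊓ pCore p L⁆ ≤ Y ⊓ center L := fun hX =>
    (commutator_mono inf_le_left inf_le_left).trans ((commutator_eq_bot_iff'.2 (ea_le_cent hX.ea)).le.trans bot_le)
  have d : ⁅Y ⊓ pCore p L, cj g Y ⊓ pCore p L⁆ ≤ Y ⊓ cj g Y := le_inf
    ((commutator_mono inf_le_left inf_le_right).trans (commutator_le_left_of_norm h.nrm))
    ((commutator_mono inf_le_right inf_le_left).trans (commutator_le_right_of_norm (h.conj g).nrm))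
  have d' := le_inf (d.trans inf_le_left) (d.trans (h.inf_le hg))
  exact (commutator_mono (h.core_le hg) (h.core_le hg)).trans (comm_sup_le (n _) (n _)
    (comm_sup_le' (n _) (n _) (c h) d') (comm_sup_le' (n _) (n _) (by rw [commutator_comm]; exact d') (c (h.conj g))))

variable {f : L →* Γ} (hk : f.ker = pCore p L)
include hk

theorem mem_norm {g : L} (hg : f g ∈ 𝐍 (Y.map f)) : g ∈ 𝐍 Y := by
  refine h.um.inf_normalizer_le h.nc (X := Y ⊔ pCore p L) le_sup_left (sup_le le_normalizer h.nrm)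
    ⟨mem_top g, ?_⟩
  rw [← hk, ← comap_map_eq]
  exact norm_comap f (le_refl (𝐍 (Y.map f))) hg

theorem mem_of [Finite L] (r : ∀ g y, y ∈ Y.map f → y ∈ 𝐍 (cj g (Y.map f)) → y ≠ 1 → g ∈ 𝐍 (Y.map f))
    {y a : L} (hy : y ∈ Y) (y1 : f y ≠ 1) (ha : a ∈ pCore p L)
    (e : ⁅y, a⁆ ∈ Y ⊓ center L) : a ∈ Y := by
  obtain ⟨g, hg⟩ := h.ex
  have hX := h.conj g
  obtain ⟨y₀, y0, x, x0, rfl⟩ := (mem_sup_of_norm (inf_le_right.trans
    (norm_inf hX.nrm norm_of_normal))).1 (h.core_le hg ha)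
  refine mul_mem y0.1 ?_
  have c : Commute y y₀ := (ea_le_cent h.ea y0.1 y hy)
  have e' : ⁅y, x⁆ ∈ Y ⊓ center L := by
    have : ⁅y, x⁆ = y₀⁻¹ * (⁅y, y₀ * x⁆ * y₀) := by
      rw [commutatorElement_def, commutatorElement_def, ← mul_assoc y, c.eq]; group
    rwa [this, ← mem_center_iff.1 e.2, inv_mul_cancel_left]
  have hn : y ∉ 𝐍 (cj g Y) := fun hn => hg (h.mem_norm hk (r (f g) (f y) (mem_map_of_mem f hy)
    (by rw [← map_cj]; exact norm_map f le_rfl (mem_map_of_mem f hn)) y1))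
  set W := (Y ⊓ center L) ⊔ zpowers x
  have wX : W ≤ cj g Y := sup_le (by rw [← cj_D g]; exact inf_le_left) (zpowers_le.2 x0.1)
  have n : ⊤ ≤ 𝐍 W := (hX.um.eq_of_not_le (X := 𝐍 W)
    (norm_of_centralizer (cent_symm (wX.trans (ea_le_cent hX.ea)))) le_top fun e => hn (e ?_)).ge
  · have := cj_mono g⁻¹ wX
    rw [cj_inv_cj, cj_eq_self (n (mem_top _))] at this
    exact this (mem_sup_right (mem_zpowers x))
  · refine mem_normalizer_of_cj_le ?_
    rw [cj_sup, cj_zpowers, cj_inf, cj_eq_self_of_normal y (center L), cj_D]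
    refine sup_le le_sup_left (zpowers_le.2 ?_)
    simpa [commutatorElement_def] using mul_mem_sup e' (mem_zpowers x)

omit h hk in
theorem _root_.CA.H6YM.RK.conj {U : Subgroup Γ} (r : RK p U) (g : Γ) :
    ∀ k y, y ∈ cj g U → y ∈ 𝐍 (cj k (cj g U)) → y ≠ 1 → k ∈ 𝐍 (cj g U) := fun k y h1 h2 h3 => by
  rw [← cj_normalizer, mem_cj] at *
  refine r.ti _ _ h1 ?_ fun e => h3 (conj_eq_one_iff.1 (by rwa [inv_inv]))
  rw [← cj_normalizer, mem_cj] at *
  simpa [mul_assoc] using h2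

omit h hk in
instance normal_D : (Y ⊓ center L).Normal :=
  ⟨fun x hx g => by rwa [mem_center_iff.1 hx.2 g, mul_inv_cancel_right]⟩

theorem modA {k k' a : L} (e : f k = f k') (ha : a ∈ pCore p L) (c : ⁅k, a⁆ ∈ Y ⊓ center L) :
    ⁅k', a⁆ ∈ Y ⊓ center L := by
  have h1 : k⁻¹ * k' ∈ pCore p L := by rw [← hk, MonoidHom.mem_ker, map_mul, map_inv, e, inv_mul_cancel]
  rw [show ⁅k', a⁆ = k * ⁅k⁻¹ * k', a⁆ * k⁻¹ * ⁅k, a⁆ by simp only [commutatorElement_def]; group]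
  exact mul_mem (normal_D.conj_mem _ (h.der_le (commutator_mem_commutator h1 ha)) k) c

variable [Finite L] (hf : Function.Surjective f) (r : RK p (Y.map f))
include hf r

theorem key {k a : L} (pr : PR (Y.map f) (f k)) (ha : a ∈ pCore p L) (c : ⁅k, a⁆ ∈ Y ⊓ center L) :
    a ∈ Y ⊓ center L := by
  obtain ⟨α, β, y, x, h1, h2, h3, h4, h5, e⟩ := pr
  obtain ⟨α, rfl⟩ := hf α
  obtain ⟨β, rfl⟩ := hf β
  have r1 := r.conj (f α)
  have r2 := r.conj (f β)
  rw [← map_cj] at h1 h2 h5 h5 r1 r2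
  obtain ⟨y, hy, rfl⟩ := h1
  obtain ⟨x, hx, rfl⟩ := h2
  replace hy : y ∈ cj α Y := hy
  have c' := h.modA hk (e.trans (map_mul f y x).symm) ha c
  have e1 : cj β Y = cj (β * α⁻¹) (cj α Y) := by rw [cj_cj, inv_mul_cancel_right]
  have i : cj α Y ⊓ cj β Y ≤ center L := e1 ▸ (h.conj α).inf_le fun e => h5 (by rw [e1, cj_eq_self e])
  have k : ∀ {g z}, z ∈ cj g Y → ⁅z, a⁆ ∈ cj g Y := fun {g _} hz =>
    commutator_le_left_of_norm (h.conj g).nrm (commutator_mem_commutator hz ha)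
  have c1 : ⁅x, a⁆ ∈ center L := i ⟨by
    rw [show ⁅x, a⁆ = y⁻¹ * (⁅y * x, a⁆ * ⁅y, a⁆⁻¹) * y by simp only [commutatorElement_def]; group]
    rw [← cj_D α] at c'
    exact (cj α Y).mul_mem (mul_mem (inv_mem hy) (mul_mem (mem_inf.1 c').1 (inv_mem (k hy)))) hy, k hx⟩
  have c2 : ⁅y, a⁆ ∈ center L := by
    rw [show ⁅y, a⁆ = (y * ⁅x, a⁆ * y⁻¹)⁻¹ * ⁅y * x, a⁆ by simp only [commutatorElement_def]; group]
    exact mul_mem (inv_mem (Normal.conj_mem inferInstance _ c1 y)) c'.2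
  have a1 := (h.conj α).mem_of hk r1 hy h3 ha ⟨k hy, c2⟩
  rw [← cj_D α]
  exact ⟨a1, i ⟨a1, (h.conj β).mem_of hk r2 hx h4 ha ⟨k hx, c1⟩⟩⟩

theorem fpf {k a : L} (hn : ¬ ∃ n, k ^ p ^ n = 1) (ha : a ∈ pCore p L) (c : ⁅k, a⁆ ∈ Y ⊓ center L) :
    a ∈ Y ⊓ center L := by
  rcases r.pr (f k) (fun ⟨n, e⟩ => by
    obtain ⟨m, e'⟩ := isPGroup_iff_mem.1 (isPGroup_pCore p L) (k ^ p ^ n)
      (by rwa [← hk, MonoidHom.mem_ker, map_pow])
    exact hn ⟨n + m, by rw [pow_add, pow_mul, e']⟩) with pr | ⟨z, w, e, p1, y, p2⟩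
  · exact h.key hk hf r pr ha c
  obtain ⟨w, rfl⟩ := hf w
  obtain ⟨y, rfl⟩ := hf y
  set π := QuotientGroup.mk' (Y ⊓ center L)
  have q : ∀ u, u ∈ Y ⊓ center L ↔ π u = 1 := fun u => (QuotientGroup.eq_one_iff u).symm
  have q' : ∀ u v, ⁅u, v⁆ ∈ Y ⊓ center L ↔ π u * π v * (π u)⁻¹ = π v := fun u v => by
    rw [q, map_commutatorElement, commutatorElement_def, mul_inv_eq_one]
  have iv : ∀ a ∈ pCore p L, ⁅k, a⁆ ∈ Y ⊓ center L → π w * π a * (π w)⁻¹ = (π a)⁻¹ := fun a ha c => by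
    have a1 : w * a * w⁻¹ ∈ pCore p L := Normal.conj_mem inferInstance _ ha w
    have h1 := (q' _ _).1 (h.modA hk (e.symm.trans (map_mul f w w).symm) ha c)
    have h2 := (q' _ _).1 (h.der_le (commutator_mem_commutator ha a1))
    have h3 := (q _).1 (h.key hk hf r p1 (mul_mem ha a1) ((q' _ _).2 ?_))
    · exact eq_inv_of_mul_eq_one_right (by simpa using h3)
    simp only [map_mul, map_inv] at h1 h2 ⊢
    rw [show π w * (π a * (π w * π a * (π w)⁻¹)) * (π w)⁻¹ =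
      π w * π a * (π w)⁻¹ * (π w * π w * π a * (π w * π w)⁻¹) by group, h1, ← h2, inv_mul_cancel_right, h2]
  have a1 : y⁻¹ * a * y⁻¹⁻¹ ∈ pCore p L := Normal.conj_mem inferInstance _ ha _
  have h1 := iv _ a1 (by
    rw [show ⁅k, y⁻¹ * a * y⁻¹⁻¹⁆ = y⁻¹ * ⁅y * k * y⁻¹, a⁆ * y⁻¹⁻¹ by simp only [commutatorElement_def]; group]
    refine normal_D.conj_mem _ (h.modA hk ?_ ha c) _
    rw [map_mul, map_mul, mem_center_iff.1 z, map_inv, mul_inv_cancel_right])
  have h2 := iv a ha c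
  refine h.key hk hf r (k := ⁅w, y⁆) (by rwa [map_commutatorElement]) ha ((q' _ _).2 ?_)
  simp only [map_mul, map_inv, commutatorElement_def] at h1 ⊢
  have h3 : (π w)⁻¹ * ((π y)⁻¹ * π a * (π y)⁻¹⁻¹) * π w = ((π y)⁻¹ * π a * (π y)⁻¹⁻¹)⁻¹ := by
    generalize (π y)⁻¹ * π a * (π y)⁻¹⁻¹ = t at h1 ⊢
    rw [← inv_inj, inv_inv, show ((π w)⁻¹ * t * π w)⁻¹ = (π w)⁻¹ * t⁻¹ * π w by group, ← h1]; group
  rw [show π w * π y * (π w)⁻¹ * (π y)⁻¹ * π a * (π w * π y * (π w)⁻¹ * (π y)⁻¹)⁻¹ =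
    π w * π y * ((π w)⁻¹ * ((π y)⁻¹ * π a * (π y)⁻¹⁻¹) * π w) * (π y)⁻¹ * (π w)⁻¹ by group, h3,
    ← inv_inj, ← h2]
  group

omit r in
theorem map_norm : (𝐍 Y).map f = 𝐍 (Y.map f) := le_antisymm (norm_map f le_rfl) fun g hg => by
  obtain ⟨g, rfl⟩ := hf g
  exact mem_map_of_mem f (h.mem_norm hk hg)

omit r in
theorem rk_of_two (h2 : p = 2) (c : Nat.card (Y.map f) = 2) : RK p (Y.map f) := by
  subst h2
  haveI := Finite.of_surjective f hf
  obtain ⟨g, hg⟩ := h.ex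
  refine rk_two c ?_ (g := f g) (by rw [← map_cj, ← Subgroup.map_sup, h.sup hg, map_top_of_surjective f hf])
  rw [← map_comap_eq_self_of_surjective hf (pCore 2 Γ), comap_pCore_of_ker hf (hk ▸ isPGroup_pCore 2 L),
    Subgroup.map_eq_bot_iff, hk]

end YM

theorem ex_rk {G : Type*} [Group G] [Finite G] [Fact p.Prime] {M L : Subgroup G} (hL : IsInFrakL p M L) :
    YM p ((largestPReducedOf p M).subgroupOf L) ∧ ∃ (Γ : Type) (_ : Group Γ) (f : L →* Γ),
      Function.Surjective f ∧ f.ker = pCore p L ∧ RK p (((largestPReducedOf p M).subgroupOf L).map f) := by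
  obtain ⟨h1, h2, h3, h4, -, h5, h6⟩ := hL
  have ea : IsElementaryAbelian p (largestPReducedOf p M) := (AmbRed.red_YL p M).ea
  generalize largestPReducedOf p M = Y at *
  have h : YM p (Y.subgroupOf L) := by
    refine ⟨(ea_subgroupOf_iff h1).2 ea, ?_, ?_, ?_, (isMinimalOver_iff.1 h4).1⟩
    · rw [ncl_top, ← subgroupOf_pCoreOf, subgroupOf, subgroupOf, ← comap_inf]
      nth_rw 1 [h2]
      exact (comap_map_eq_self_of_injective L.subtype_injective _).le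
    · rw [normalizer_subgroupOf h1, ← subgroupOf_pCoreOf]; exact comap_mono h3
    · have := UMax.subgroupOf (Y := Y) ⟨le_inf h1 le_normalizer, h5⟩
      rwa [inf_subgroupOf_left, ← normalizer_subgroupOf h1] at this
  refine ⟨h, ?_⟩
  have e0 : (Y ⊓ pCoreOf p L).relIndex Y = (pCore p L).relIndex (Y.subgroupOf L) := by
    rw [inf_relIndex_left, ← subgroupOf_pCoreOf, relIndex_subgroupOf h1]
  rw [e0] at h6
  generalize Y.subgroupOf L = X at *
  have k : ∀ {Γ : Type} [Group Γ] (e : L ⧸ pCore p L ≃* Γ), ∃ f : L →* Γ, Function.Surjective f ∧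
      f.ker = pCore p L ∧ Nat.card (X.map f) = (pCore p L).relIndex X := fun e => by
    have k : (e.toMonoidHom.comp (QuotientGroup.mk' _)).ker = pCore p L := by
      rw [MonoidHom.ker_comp_of_injective _ _ e.injective, QuotientGroup.ker_mk']
    exact ⟨_, e.surjective.comp (QuotientGroup.mk'_surjective _), k, by rw [← relIndex_ker, k]⟩
  have k2 : ∀ {Γ : Type} [Group Γ] {f : L →* Γ} {U g}, Function.Surjective f → f.ker = pCore p L →
      RK p U → cj g (X.map f) = U → ∃ (Γ : Type) (_ : Group Γ) (f : L →* Γ),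
      Function.Surjective f ∧ f.ker = pCore p L ∧ RK p (X.map f) := fun {Γ _ f U g} a b c d =>
    ⟨Γ, _, (MulAut.conj g).toMonoidHom.comp f, (conj_surjective g).comp a, by
      rwa [MonoidHom.ker_comp_of_injective _ _ (conj_injective g)], by rwa [← Subgroup.map_map, ← cj, d]⟩
  rcases h6 with ⟨F, _, _, c, ⟨e⟩⟩ | ⟨h2, F, _, _, m, c0, c, ⟨e⟩⟩ | ⟨h2, r, hr, r2, ⟨e⟩⟩
  · obtain ⟨f, a, b, c'⟩ := k e
    have hp := ea_pg (ea_map f h.ea)
    obtain ⟨n, hn⟩ := hp.exists_card_eq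
    haveI : CharP F p := charP_of_card_eq_prime_pow (c.trans (c'.symm.trans hn))
    obtain ⟨g, -, hg⟩ := (sylIn_top (SL2Unip.sylowU F p)).exists_conj_le hp le_top
    exact k2 a b rk_sl (eq_of_le_of_card_ge hg (by
      rw [card_cj, c', ← c, SL2Unip.card_U, Nat.card_eq_fintype_card]))
  · rcases Nat.eq_zero_or_pos m with rfl | hm
    · obtain ⟨f, a, b, c'⟩ := k e
      exact ⟨_, _, f, a, b, h.rk_of_two b a h2 (c'.trans (c.symm.trans c0))⟩
    subst h2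
    haveI : SzBasic.Hyp F m := ⟨hm, c0⟩
    obtain ⟨f, a, b, c'⟩ := k (e.trans (SzModel.szEquiv F).symm)
    have he := ea_map f h.ea
    obtain ⟨g, -, hg⟩ := (sylIn_top (SzGroup.sylU (F := F))).exists_conj_le (ea_pg he) le_top
    exact k2 (g := g) a b rk_sz (eq_of_le_of_card_ge (fun x hx => (SzGroup.sq_eq_one_iff (hg hx)).1 (by
      rw [← sq, ea_pow (ea_cj he g) hx])) (by rw [card_cj, c', ← c, SzGroup.card_Z, c0]))
  · obtain ⟨f, a, b, -⟩ := k e
    refine ⟨_, _, f, a, b, h.rk_of_two b a h2 ?_⟩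
    subst h2
    haveI : NeZero r := ⟨hr.ne_zero⟩
    obtain ⟨n, hn⟩ := (ea_pg (ea_map f h.ea)).exists_card_eq
    have d := (X.map f).card_subgroup_dvd_card
    rw [DihedralGroup.nat_card, hn] at d
    have d2 := (Nat.dvd_prime Nat.prime_two).1 ((Nat.Coprime.pow_left n
      ((Nat.coprime_primes Nat.prime_two hr).2 r2.symm)).dvd_of_dvd_mul_right d)
    refine hn.trans (d2.resolve_left fun e => h.not_le ?_)
    rw [← b, ← Subgroup.map_eq_bot_iff, ← card_eq_one, hn, e]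

end CA.H6YM
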