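import Cfsg.Agent.Lib.Loc.AmbS3b
import Cfsg.Agent.Lib.Loc.H6Dih
import Cfsg.Agent.Lib.Grp.PGDihedral

/-!
Amalgams of index `(3, 3)` whose two members are conjugate (primitive groups with a suborbit of length three).
-/

set_option autoImplicit false

namespace CA.H8Sims

open Subgroup Cfsg CA.Amb CA.AmbSyl CA.AmbCore CA.AmbRes CA.AmbChar CA.AmbSpe CA.AmbRed CA.AmbIso CA.AmbS3
open scoped commutatorElement

variable {G : Type*} [Group G]

theorem core3 {B P : Subgroup G} [Finite P] (hB : B ≤ P) (h : B.relIndex P = 3) :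
    ∃ K : Subgroup G, K ≤ B ∧ P ≤ 𝐍 K ∧ K.relIndex B ∣ 2 := by
  classical
  set H := B.subgroupOf P
  have h1 : H.normalCore.index ∣ 6 := by
    have := Fintype.ofFinite (P ⧸ H)
    have h2 : Fintype.card (P ⧸ H) = 3 := by rw [← Nat.card_eq_fintype_card]; exact h
    rw [normalCore_eq_ker, index_ker]
    refine (card_subgroup_dvd_card _).trans ?_
    rw [Nat.card_eq_fintype_card, Fintype.card_perm, h2]
    decide
  refine ⟨H.normalCore.map P.subtype, ?_, norm_map_subtype _, ?_⟩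
  · exact map_le_iff_le_comap.2 (normalCore_le H)
  · have h2 := relIndex_mul_index (normalCore_le H)
    have h3 : H.index = 3 := h
    rw [← h2, h3] at h1
    have h4 : (H.normalCore.map P.subtype).relIndex B = H.normalCore.relIndex H := by
      conv_lhs => rw [← map_subgroupOf_eq_of_le hB]
      exact relIndex_map_map_of_injective _ _ P.subtype_injective
    rw [h4]
    exact Nat.dvd_of_mul_dvd_mul_right (by decide : 0 < 3) h1

theorem res_norm {B P : Subgroup G} [Finite P] (hB : B ≤ P) (h : B.relIndex P = 3) :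
    P ≤ 𝐍 (pResidualOf 2 B) := by
  obtain ⟨K, k1, k2, k3⟩ := core3 hB h
  have : pResidualOf 2 B ≤ K := res_le_of_pow fun x hx => ⟨1, by
    have := normal_subgroupOf_of_norm (hB.trans k2)
    obtain ⟨c, hc⟩ := k3
    have h1 := pow_index_mem (K.subgroupOf B) ⟨x, hx⟩
    have h2 := pow_mem h1 c
    rw [← pow_mul] at h2
    rw [pow_one, hc]
    exact h2⟩
  rw [← res_eq_of_le this k1]
  exact norm_res_of_norm k2

/-- the index of the core in a non-normal Sylow subgroup of index three -/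
theorem idx_two {B P : Subgroup G} [Finite P] (hB : B ≤ P) (h : B.relIndex P = 3) (hp : IsPGroup 2 B)
    (hn : ¬ P ≤ 𝐍 B) : (pCoreOf 2 P).relIndex B = 2 := by
  obtain ⟨K, k1, k2, k3⟩ := core3 hB h
  have hS : SylIn 2 B P := sylIn_of_not_dvd hB hp (by rw [h]; decide)
  have h1 : K ≤ pCoreOf 2 P := le_pCoreOf (k1.trans hB) (hp.to_le k1) k2
  have h2 := (relIndex_dvd_of_le h1 B).trans k3
  refine ((Nat.dvd_prime Nat.prime_two).1 h2).resolve_left fun e => hn ?_
  rw [le_antisymm (relIndex_eq_one.1 e) (pCoreOf_le_syl hS)]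
  exact norm_pCoreOf 2 P

theorem top3 {B P K : Subgroup G} (h : B.relIndex P = 3) (hB : B ≤ P) (h1 : B ≤ K) {A : Subgroup G} (h2 : A ≤ P)
    (h3 : ¬ A ≤ B) (h4 : A ≤ K) : P ≤ K := by
  rcases PGBasic.eq_or_eq_of_relIndex_prime Nat.prime_three h (K := K ⊓ P) (le_inf h1 hB) inf_le_right with k | k
  · exact absurd ((le_inf h4 h2).trans k.le) h3
  · exact k.ge.trans inf_le_left

/-- if `P` is not of characteristic two, it normalizes every `B`-invariant subgroup of `O₂(P)` -/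
theorem norm_of_not_char {B P T : Subgroup G} (hB : B ≤ P) (h : B.relIndex P = 3) (hp : IsPGroup 2 B)
    (hc : ¬ CharP 2 P) (h1 : T ≤ pCoreOf 2 P) (h2 : B ≤ 𝐍 T) : P ≤ 𝐍 T :=
  top3 h hB h2 (A := P ⊓ 𝐂 (pCoreOf 2 P)) inf_le_left (fun k => hc (charP_iff_isPGroup.2 (hp.to_le k)))
    (norm_of_centralizer (inf_le_right.trans (centralizer_anti h1)))

theorem dih {B P : Subgroup G} [Finite P] (hB : B ≤ P) (h3 : B.relIndex P = 3) (hn : ¬ P ≤ 𝐍 B) {q s : G}
    (hq : q * q = 1) (hqc : P ≤ centralizer {q}) (hqB : q ∈ B) (hs : s * s = 1) (hsB : s ∈ B)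
    (hgen : B ≤ zpowers q ⊔ zpowers s) (hc : Nat.card B = 2 * orderOf q) :
    Nonempty (P ≃* DihedralGroup (3 * orderOf q)) := by
  have : Fact (Nat.Prime 3) := ⟨Nat.prime_three⟩
  have hP := card_mul_relIndex hB
  rw [h3, hc] at hP
  obtain ⟨x, x1, x2⟩ := exists_orderOf_eq_of_dvd (p := 3) (L := P) (Dvd.intro_left _ hP)
  have x3 : x ^ 3 = 1 := by rw [← x2]; exact pow_orderOf_eq_one x
  have q2 : q ^ 2 = 1 := by rw [pow_two, hq]
  have q3 : orderOf q ∣ 2 := orderOf_dvd_of_pow_eq_one q2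
  have cm : Commute q x := (mem_centralizer_singleton_iff.1 (hqc x1)).symm
  have hBf : Finite B := finite_of_le hB
  have xB : x ∉ B := fun k => by
    have := orderOf_dvd_natCard (⟨x, k⟩ : B)
    rw [orderOf_mk, x2, hc] at this
    rcases (Nat.dvd_prime Nat.prime_two).1 q3 with e | e <;> rw [e] at this <;> omega
  have ho : orderOf (q * x) = 3 * orderOf q := by
    rw [cm.orderOf_mul_eq_mul_orderOf_of_coprime, x2, mul_comm]
    rw [x2]; exact Nat.Coprime.coprime_dvd_left q3 (by decide)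
  have r1 : q * x ∈ P := mul_mem (hB hqB) x1
  have r2 : (zpowers (q * x)).relIndex P = 2 := by
    have := card_mul_relIndex (zpowers_le.2 r1)
    rw [Nat.card_zpowers, ho, ← hP] at this
    have h0 : 0 < orderOf q := Nat.pos_of_dvd_of_pos q3 (by decide)
    nlinarith
  have nc : ¬ Commute s x := fun k => hn (top3 h3 hB le_normalizer (zpowers_le.2 x1)
    (fun l => xB (l (mem_zpowers x))) (norm_of_centralizer (cent_symm (hgen.trans (sup_le ?_ ?_)))))
  rotate_left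
  · rw [zpowers_le, centralizer_zpowers]; exact mem_centralizer_singleton_iff.2 cm.eq
  · rw [zpowers_le, centralizer_zpowers]; exact mem_centralizer_singleton_iff.2 k.eq
  have xr : x = (q * x) ^ 4 := by
    rw [cm.mul_pow, show 4 = 2 * 2 from rfl, pow_mul, q2, one_pow, one_mul, show 2 * 2 = 3 + 1 from rfl, pow_succ,
      x3, one_mul]
  have sr : s ∉ zpowers (q * x) := fun k => nc (by
    obtain ⟨j, rfl⟩ := mem_zpowers_iff.1 k
    conv_rhs => rw [xr]
    exact (Commute.refl _).zpow_left j |>.pow_right 4)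
  have sx : s * x * s⁻¹ ∈ zpowers (q * x) := by
    have a1 : x ∈ zpowers (q * x) := by have := pow_mem (mem_zpowers (q * x)) 4; rwa [← xr] at this
    have a2 := hB hsB
    rw [mul_mem_of_two r2 (mul_mem a2 x1) (inv_mem a2), mul_mem_of_two r2 a2 x1, inv_mem_iff]
    tauto
  have sx' : s * x * s⁻¹ = x⁻¹ := by
    have fo : IsOfFinOrder (q * x) := orderOf_pos_iff.1 (by
      rw [ho]; exact Nat.mul_pos (by decide) (Nat.pos_of_dvd_of_pos q3 (by decide)))
    obtain ⟨j, b1⟩ := (Submonoid.mem_powers_iff _ _).1 (fo.mem_powers_iff_mem_zpowers.2 sx)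
    rw [cm.mul_pow] at b1
    have b2 : (q ^ j * x ^ j) ^ 3 = 1 := by rw [b1]; exact conj_pow_eq_one x3 s
    rw [(cm.pow_pow j j).mul_pow, ← pow_mul x, mul_comm j, pow_mul x, x3, one_pow, mul_one, pow_succ, ← pow_mul,
      mul_comm j, pow_mul, q2, one_pow, one_mul] at b2
    rw [b2, one_mul, ← Nat.div_add_mod j 3, pow_add, pow_mul, x3, one_pow, one_mul] at b1
    have b3 : j % 3 < 3 := Nat.mod_lt _ (by decide)
    generalize j % 3 = i at *
    interval_cases i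
    · rw [pow_zero, eq_comm, conj_eq_one_iff] at b1
      exact absurd (b1 ▸ one_mem B) xB
    · rw [pow_one, eq_mul_inv_iff_mul_eq] at b1
      exact absurd b1.symm nc
    · rw [← b1, eq_inv_iff_mul_eq_one, ← pow_succ, x3]
  have hsq : s * q * s⁻¹ = q := mem_cent_iff.1 (hqc (hB hsB))
  obtain ⟨e⟩ := PGDihedral.nonempty_subgroup_mulEquiv_dihedral ho sr (by rw [pow_two, hs]) (by
    calc s * (q * x) * s⁻¹ = (s * q * s⁻¹) * (s * x * s⁻¹) := by group
      _ = (q * x)⁻¹ := by rw [hsq, sx', cm.eq, mul_inv_rev, inv_eq_of_mul_eq_one_left hq])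
  rw [PGBasic.sup_zpowers_eq_of_relIndex_prime Nat.prime_two r2 (zpowers_le.2 r1) (hB hsB) sr] at e
  exact ⟨e⟩

theorem sims [Finite G] {P₁ P₂ : Subgroup G} {g : G} (hg : cj g P₁ = P₂) (hgen : P₁ ⊔ P₂ = ⊤)
    (h0 : ∀ N : Subgroup G, N ≤ P₁ ⊓ P₂ → N.Normal → N = ⊥) (h1 : (P₁ ⊓ P₂).relIndex P₁ = 3) :
    Nonempty (P₁ ≃* Multiplicative (ZMod 3)) ∨ Nonempty (P₁ ≃* Equiv.Perm (Fin 3)) ∨
      Nonempty (P₁ ≃* DihedralGroup 6) ∨ Nonempty (P₁ ≃* Equiv.Perm (Fin 4)) ∨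
      Nonempty (P₁ ≃* Equiv.Perm (Fin 4) × Multiplicative (ZMod 2)) := by
  have h2 : (P₁ ⊓ P₂).relIndex P₂ = 3 := by
    have a := card_mul_relIndex (inf_le_left : P₁ ⊓ P₂ ≤ P₁)
    have b := card_mul_relIndex (inf_le_right : P₁ ⊓ P₂ ≤ P₂)
    rw [← hg, card_cj, hg, ← a, h1] at b
    exact Nat.eq_of_mul_eq_mul_left Nat.card_pos b
  have bot : ∀ N : Subgroup G, N ≤ P₁ ⊓ P₂ → P₁ ≤ 𝐍 N → P₂ ≤ 𝐍 N → N = ⊥ := fun N a b c =>
    h0 N a (normal_iff_top_le.2 (hgen.ge.trans (sup_le b c)))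
  have hp : IsPGroup 2 ↥(P₁ ⊓ P₂) :=
    res_eq_bot_iff.1 (bot _ (res_le 2 _) (res_norm inf_le_left h1) (res_norm inf_le_right h2))
  have s1 : SylIn 2 (P₁ ⊓ P₂) P₁ := sylIn_of_not_dvd inf_le_left hp (by rw [h1]; decide)
  have s2 : SylIn 2 (P₁ ⊓ P₂) P₂ := sylIn_of_not_dvd inf_le_right hp (by rw [h2]; decide)
  obtain ⟨y, y1, y2⟩ := (hg ▸ s1.conj g).exists_conj s2
  have e1 : cj (y * g) P₁ = P₂ := by rw [← cj_cj, hg, cj_eq_self_of_mem y1]
  rw [cj_cj] at y2
  generalize y * g = c at e1 y2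
  generalize hB : P₁ ⊓ P₂ = B at *
  have l1 : B ≤ P₁ := s1.le
  have l2 : B ≤ P₂ := s2.le
  have nn : P₁ ≤ 𝐍 B ↔ P₂ ≤ 𝐍 B := by rw [← cj_le_cj (g := c), cj_normalizer, e1, y2]
  by_cases hn : P₁ ≤ 𝐍 B
  · left
    have a := card_mul_relIndex l1
    rw [h1, bot B le_rfl hn (nn.1 hn), card_bot, one_mul] at a
    have : Fact (Nat.Prime 3) := ⟨Nat.prime_three⟩
    exact ⟨mulEquivOfPrimeCardEq (p := 3) a.symm (by simp)⟩
  right
  have i1 := idx_two l1 h1 hp hn
  have i2 := idx_two l2 h2 hp (mt nn.2 hn)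
  have q1 : pCoreOf 2 P₁ ≤ B := pCoreOf_le_syl s1
  have q2 : pCoreOf 2 P₂ ≤ B := pCoreOf_le_syl s2
  have cc : CharP 2 P₁ ↔ CharP 2 P₂ := ⟨fun k => e1 ▸ k.conj c, fun k => by
    have := k.conj c⁻¹; rwa [← e1, cj_inv_cj] at this⟩
  by_cases hc : CharP 2 P₁
  · right; right
    have n : P₁ ≤ 𝐂 (OZ 2 B) ↔ P₂ ≤ 𝐂 (OZ 2 B) := by rw [← cj_le_cj (g := c), cj_centralizer, cj_OZ, e1, y2]
    have n1 : ¬ P₁ ≤ 𝐂 (OZ 2 B) := fun k => OZ_ne_bot hp (fun l => hn (by rw [l, Amb.normalizer_bot]; exact le_top))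
      (bot _ (OZ_le 2 _) (norm_of_centralizer k) (norm_of_centralizer (n.1 k)))
    subst hB
    rcases AmbS3b.sthree hgen h0 hc (cc.1 hc) s1 s2
      (by rw [← relIndex_mul_relIndex _ _ _ q1 l1, i1, h1]) (by rw [← relIndex_mul_relIndex _ _ _ q2 l2, i2, h2])
      n1 (mt n.2 n1) with ⟨k, -⟩ | ⟨⟨k⟩, -⟩
    · exact Or.inl k
    · exact Or.inr ⟨k.trans MulEquiv.prodComm⟩
  have nB : B ≤ 𝐍 (pCoreOf 2 P₁ ⊓ pCoreOf 2 P₂ : Subgroup G) :=
    norm_inf (l1.trans (norm_pCoreOf 2 _)) (l2.trans (norm_pCoreOf 2 _))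
  have b0 := bot _ (inf_le_left.trans q1) (norm_of_not_char l1 h1 hp hc inf_le_left nB)
    (norm_of_not_char l2 h2 hp (mt cc.2 hc) inf_le_right nB)
  have c1 := card_mul_relIndex q1
  have c2 := card_mul_relIndex q2
  have c3 := card_inf_mul_relIndex (pCoreOf 2 P₂) (pCoreOf 2 P₁)
  rw [inf_comm, b0, card_bot, one_mul] at c3
  have c4 : (pCoreOf 2 P₂).relIndex (pCoreOf 2 P₁) ≤ 2 :=
    (relIndex_le_of_le_right q1 (by rw [i2]; decide)).trans i2.le
  rw [i1] at c1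
  rw [i2] at c2
  have c5 : 0 < Nat.card (pCoreOf 2 P₁) := Nat.card_pos
  obtain c6 | c6 : Nat.card (pCoreOf 2 P₁) = 1 ∨ Nat.card (pCoreOf 2 P₁) = 2 := by omega
  · left
    obtain ⟨s, a1, a2⟩ := exists_orderOf_eq_of_dvd (p := 2) (L := B) (Dvd.intro_left _ c1)
    obtain ⟨e⟩ := dih l1 h1 hn (q := 1) (s := s) (one_mul 1) (fun x _ => by simp [mem_centralizer_singleton_iff])
      (one_mem _) (by rw [← pow_two, ← a2]; exact pow_orderOf_eq_one s) a1
      ((eq_of_le_of_card_ge (zpowers_le.2 a1) (by rw [Nat.card_zpowers]; omega)).ge.trans le_sup_right)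
      (by rw [orderOf_one]; omega)
    rw [orderOf_one] at e
    obtain ⟨e'⟩ := CA.H6Dih.nonempty_S3
    exact ⟨e.trans e'.symm⟩
  · right; left
    obtain ⟨q, a1, a2⟩ := exists_orderOf_eq_of_dvd (p := 2) (L := pCoreOf 2 P₁) c6.symm.dvd
    obtain ⟨s, b1, b2⟩ := exists_orderOf_eq_of_dvd (p := 2) (L := pCoreOf 2 P₂) (by omega)
    have a3 : zpowers q = pCoreOf 2 P₁ := eq_of_le_of_card_ge (zpowers_le.2 a1) (by rw [Nat.card_zpowers]; omega)
    have b3 : s ∉ pCoreOf 2 P₁ := fun k => ne_one_of_orderOf b2 (mem_bot.1 (b0.le ⟨k, b1⟩))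
    obtain ⟨e⟩ := dih l1 h1 hn (q := q) (s := s) (by rw [← pow_two, ← a2]; exact pow_orderOf_eq_one q)
      (le_cent_of_mem (cent_symm ((norm_pCoreOf 2 P₁).trans (cent_of_two c6)) a1)) (q1 a1)
      (by rw [← pow_two, ← b2]; exact pow_orderOf_eq_one s) (q2 b1)
      (by rw [a3]; exact (PGBasic.sup_zpowers_eq_of_relIndex_prime Nat.prime_two i1 q1 (q2 b1) b3).ge)
      (by omega)
    rw [a2] at e
    exact ⟨e⟩

theorem sims_action [Finite G] {Ω : Type*} [MulAction G Ω] [FaithfulSMul G Ω]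
    (hprim : MulAction.IsPreprimitive G Ω) (a b : Ω)
    (h3 : Nat.card (MulAction.orbit (MulAction.stabilizer G a) b) = 3) :
    Nonempty (MulAction.stabilizer G a ≃* Multiplicative (ZMod 3)) ∨
      Nonempty (MulAction.stabilizer G a ≃* Equiv.Perm (Fin 3)) ∨
      Nonempty (MulAction.stabilizer G a ≃* DihedralGroup 6) ∨
      Nonempty (MulAction.stabilizer G a ≃* Equiv.Perm (Fin 4)) ∨
      Nonempty (MulAction.stabilizer G a ≃* Equiv.Perm (Fin 4) × Multiplicative (ZMod 2)) := by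
  obtain ⟨g, rfl⟩ := MulAction.exists_smul_eq G a b
  have hg : cj g (MulAction.stabilizer G a) = MulAction.stabilizer G (g • a) :=
    (MulAction.stabilizer_smul_eq_stabilizer_map_conj g a).symm
  have h1 : (MulAction.stabilizer G a ⊓ MulAction.stabilizer G (g • a)).relIndex (MulAction.stabilizer G a) = 3 := by
    rw [inf_relIndex_left, ← h3, Nat.card_coe_set_eq, ← MulAction.index_stabilizer]; rfl
  have hn : ¬ MulAction.stabilizer G (g • a) ≤ MulAction.stabilizer G a := fun k => by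
    rw [eq_of_le_of_card_ge k (by rw [← hg, card_cj]), inf_idem, relIndex_self] at h1
    exact absurd h1 (by decide)
  have : Nontrivial Ω := ⟨a, g • a, fun e => hn (by rw [← e])⟩
  refine sims hg ((MulAction.IsPreprimitive.isCoatom_stabilizer_of_isPreprimitive G a).2 _
    (left_lt_sup.2 hn)) (fun N k n => eq_bot_iff.2 fun x hx => mem_bot.2 ?_) h1
  refine FaithfulSMul.eq_of_smul_eq_smul (α := Ω) fun c => ?_
  obtain ⟨y, rfl⟩ := MulAction.exists_smul_eq G a c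
  have := MulAction.mem_stabilizer_iff.1 (k (n.conj_mem' x hx y)).1
  rw [one_smul]
  conv_rhs => rw [← this]
  simp [smul_smul, mul_assoc]

end CA.H8Sims
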