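import Cfsg.Agent.Lib.Loc.AmbFs
import Cfsg.Agent.S0028

/-!
The Thompson-Wielandt theorem for conjugate primitive subgroups.
-/

set_option autoImplicit false

namespace CA.H8TW

open Subgroup Cfsg CA.Amb CA.AmbSyl CA.AmbCore CA.AmbRes CA.AmbChar CA.AmbWC CA.AmbFs
open scoped commutatorElement

variable {G : Type*} [Group G] [Finite G]

omit [Finite G] in
theorem cent_of_ne {r s : ℕ} (hr : r.Prime) (hs : s.Prime) (h : r ≠ s) {A B : Subgroup G} (hA : IsPGroup r A)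
    (hB : IsPGroup s B) (h1 : A ≤ 𝐍 B) (h2 : B ≤ 𝐍 A) : A ≤ 𝐂 B := by
  have := Fact.mk hr
  have := Fact.mk hs
  exact cent_symm (commutator_eq_bot_iff'.1 (eq_bot_iff.2 ((le_inf (commutator_le_left_of_norm h2)
    (commutator_le_right_of_norm h1)).trans (disjoint_iff.1 (IsPGroup.disjoint_of_ne r s h _ _ hA hB)).le)))

theorem FL_le_of {L U : Subgroup G} (h : ∀ s : ℕ, s.Prime → pCoreOf s L ≤ U) : FL L ≤ U := by
  rw [FL, CA.Fitting.fitting_eq_iSup_pCore, Subgroup.map_iSup]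
  exact iSup_le fun s => h s s.2

theorem key {L D K A : Subgroup G} (hK : SN L K) (hN : L ⊓ 𝐍 K ≤ D) (hD : D ≤ L) (hA : A ≤ D)
    (hs : ∀ s : ℕ, s.Prime → pResidualOf s K = K ∨ IsPGroup s K)
    (h : ∀ s : ℕ, s.Prime → pCoreOf s L = ⊥ ∨ (A ≤ 𝐂 (pCoreOf s L ⊓ D) ∧ pResidualOf s A = A)) : A ≤ 𝐂 (FL L) := by
  refine cent_symm (FL_le_of fun s hs' => ?_)
  have := Fact.mk hs'
  rcases h s hs' with e | ⟨h1, h2⟩
  · rw [e]; exact bot_le
  rcases hs s hs' with e | e
  · exact cent_symm (h1.trans (centralizer_anti (le_inf le_rfl ((le_inf (pCoreOf_le s L)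
      (pCoreOf_norm_of_sn hK e)).trans hN))))
  have k : K ≤ pCoreOf s L ⊓ D := le_inf (hK.le_pCoreOf e) ((le_inf hK.le le_normalizer).trans hN)
  refine cent_symm (h2 ▸ res_le_iff.2 fun a ha c => zpowers_le.1 (Cfsg.Agent.S0028.result s K _ _ e
    (by rwa [Nat.card_zpowers]) (isPGroup_pCoreOf s L) (cent_symm (zpowers_le.2 (centralizer_anti k (h1 ha))))
    (hK.le.trans (norm_pCoreOf s L)) (zpowers_le.2 (norm_pCoreOf s L (hD (hA ha)))) ?_))
  exact (inf_le_inf_left _ ((le_inf (inf_le_left.trans (pCoreOf_le s L)) (inf_le_right.trans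
    (centralizer_le_normalizer _))).trans hN)).trans' (le_inf inf_le_left le_rfl) |>.trans
    (cent_symm (zpowers_le.2 (h1 ha)))

/-- every non-trivial normal subgroup of `M` has its normalizer in `M` -/
def Prim (M : Subgroup G) : Prop := ∀ K, K ≠ ⊥ → K ≤ M → M ≤ 𝐍 K → 𝐍 K ≤ M

omit [Finite G] in
theorem prim_of {M : Subgroup G} (h : IsCoatom M) (hc : M.normalCore = ⊥) : Prim M := fun K K0 a b =>
  ((h.le_iff.1 b).resolve_left fun e => K0 (by
    have := normalizer_eq_top_iff.1 e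
    exact eq_bot_iff.2 (hc ▸ normal_le_normalCore.2 a))).le

theorem exists_K {M X T : Subgroup G} (h1 : M ≤ 𝐍 X) (h2 : ¬ X ≤ T) : ∃ K ≤ X, M ≤ 𝐍 K ∧ ¬ K ≤ T ∧
    ∀ s : ℕ, pResidualOf s K = K ∨ pResidualOf s K ≤ T := by
  obtain ⟨K, ⟨a, b, c⟩, m⟩ := WellFounded.has_min (wellFounded_lt (α := Subgroup G))
    {K | K ≤ X ∧ M ≤ 𝐍 K ∧ ¬ K ≤ T} ⟨X, le_rfl, h1, h2⟩
  exact ⟨K, a, b, c, fun s => by_contra fun k => m _ ⟨(res_le s K).trans a, norm_res_of_norm b, fun e => k (Or.inr e)⟩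
    (lt_of_le_of_ne (res_le s K) fun e => k (Or.inl e))⟩

section
variable {M M' X : Subgroup G} (hM : Prim M) (h1 : X ≤ M) (h2 : M ≤ 𝐍 X) (h3 : SN M' X)
include hM h1 h2 h3

theorem EL_eq (h0 : X ≠ ⊥) : EL (M ⊓ M') = EL M' := by
  obtain ⟨K, k1, k2, k3, k4⟩ := exists_K (T := ⊥) h2 (mt le_bot_iff.1 h0)
  have k0 : K ≠ ⊥ := mt le_bot_iff.2 k3
  have sK : SN M' K := h3.trans (SN.of_norm k1 (h1.trans k2))
  have hN : M' ⊓ 𝐍 K ≤ M ⊓ M' := le_inf (inf_le_right.trans (hM K k0 (k1.trans h1) k2)) inf_le_left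
  have e : EL M' ≤ M ⊓ M' := (le_inf (EL_le _) (CA.Comp.map_layer_le_normalizer_of_SN (SN.toS sK))).trans hN
  refine le_antisymm (EL_le_iff.2 fun L hL => ?_) (CA.Comp.map_layer_le_map_layer e inf_le_right)
  refine (hL.le_or_le_centralizer (SN.toS (SN.of_norm e (inf_le_right.trans (norm_EL le_normalizer))))).resolve_right
    fun c => ?_
  have := key sK hN inf_le_right hL.le (fun s hs => by
    have := Fact.mk hs
    exact (k4 s).imp_right fun e => res_eq_bot_iff.1 (le_bot_iff.1 e)) fun s hs => by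
      have := Fact.mk hs
      exact Or.inr ⟨hL.le_centralizer_of_isSolvable inf_le_right (hL.le.trans (norm_inf (inf_le_right.trans
        (norm_pCoreOf s M')) le_normalizer)) (isSolvable_of_isPGroup ((isPGroup_pCoreOf s M').to_le inf_le_left)),
        res_eq_of_perfect hL.perfect⟩
  have f : L ≤ FL M' := (le_inf (hL.le.trans inf_le_right) (by
    rw [FS_eq, centralizer_sup]; exact le_inf c this)).trans (inf_cent_FS_le M')
  have := hL.le_centralizer_of_isSolvable hL.le le_normalizer (by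
    have := isNilpotent_FL M'
    exact Group.isSolvable_of_isSolvable_injective (inclusion_injective f))
  exact hL.ne_bot (hL.perfect.symm.trans (commutator_eq_bot_iff'.2 this))

theorem core_eq {r : ℕ} (hr : r.Prime) (h0 : ¬ IsPGroup r X) : pCoreOf r (M ⊓ M') = pCoreOf r M' := by
  have := Fact.mk hr
  obtain ⟨K, k1, k2, k3, k4⟩ := exists_K (T := pCoreOf r M') h2 fun e => h0 ((isPGroup_pCoreOf r M').to_le e)
  have k0 : K ≠ ⊥ := fun e => k3 (e ▸ bot_le)
  have sK : SN M' K := h3.trans (SN.of_norm k1 (h1.trans k2))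
  have k5 : pResidualOf r K = K := (k4 r).resolve_right fun e =>
    k3 (sK.le_pCoreOf (isPGroup_of_res_le (isPGroup_pCoreOf r M') e))
  have k6 := pCoreOf_norm_of_sn sK k5
  have nK := hM K k0 (k1.trans h1) k2
  refine le_antisymm ?_ (pCoreOf_le_pCoreOf_of_le inf_le_right (le_inf (k6.trans nK) (pCoreOf_le r M')))
  let f := QuotientGroup.mk' (pCore r M')
  have fs : Function.Surjective f := QuotientGroup.mk'_surjective _
  have fk : ∀ H : Subgroup G, H ≤ M' → ((H.subgroupOf M').map f = ⊥ ↔ H ≤ pCoreOf r M') := fun H h => by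
    rw [Subgroup.map_eq_bot_iff, QuotientGroup.ker_mk', ← subgroupOf_pCoreOf]
    exact ⟨fun e x hx => e (show (⟨x, h hx⟩ : M') ∈ _ from hx), fun e x hx => e hx⟩
  have nm : ∀ A B : Subgroup G, A ≤ 𝐍 B → (A.subgroupOf M').map f ≤ 𝐍 ((B.subgroupOf M').map f) :=
    fun A B h => norm_map f (norm_comap M'.subtype h)
  have sK' : SN ⊤ ((K.subgroupOf M').map f) := sn_top_iff.2 ((sn_iff.1 sK).2.map fs)
  have hN : ⊤ ⊓ 𝐍 ((K.subgroupOf M').map f) ≤ ((M ⊓ M').subgroupOf M').map f := fun x hx => by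
    obtain ⟨x, rfl⟩ := fs x
    refine mem_map_of_mem f ⟨nK ?_, x.2⟩
    have := le_normalizer_map M'.subtype (mem_map_of_mem _ (le_normalizer_comap f hx.2))
    rw [comap_map_eq, QuotientGroup.ker_mk', Subgroup.map_sup, map_subgroupOf_eq_of_le sK.le, ← pCoreOf_def,
      sup_comm] at this
    have := normalizer_le_res r _ this
    rwa [res_sup_eq (isPGroup_pCoreOf r M') k6, k5] at this
  have pA : IsPGroup r (((pCoreOf r (M ⊓ M')).subgroupOf M').map f) :=
    ((isPGroup_pCoreOf r _).comap_subtype).map f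
  have o : pCoreOf r (⊤ : Subgroup (M' ⧸ pCore r M')) = ⊥ := by rw [pCoreOf_top, pCore_quotient_pCore]
  have lA := map_mono (f := f) (subgroupOf_mono M' (pCoreOf_le r (M ⊓ M')))
  have nA := nm _ _ (norm_pCoreOf r (M ⊓ M'))
  refine (fk _ ((pCoreOf_le _ _).trans inf_le_right)).1 (eq_bot_of_cent_FS o pA le_top ?_)
  rw [FS_eq, centralizer_sup]
  refine le_inf (cent_symm (CA.Comp.map_layer_le_centralizer_of_isSolvable le_top (((le_inf le_top
    (CA.Comp.map_layer_le_normalizer_of_SN (SN.toS sK'))).trans hN).trans nA) (isSolvable_of_isPGroup pA)))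
    (key sK' hN le_top lA (fun s hs => ?_) fun s hs => ?_)
  · have := Fact.mk hs
    rw [← map_res, res_subgroupOf sK.le]
    refine (k4 s).imp (fun e => by rw [e]) fun e => isPGroup_map_of_res_le f ?_
    rw [res_subgroupOf sK.le, ← Subgroup.map_eq_bot_iff]
    exact (fk _ ((res_le s K).trans sK.le)).2 e
  · have := Fact.mk hs
    by_cases e : r = s
    · exact Or.inl (e ▸ o)
    · exact Or.inr ⟨cent_of_ne hr hs e pA ((isPGroup_pCoreOf s ⊤).to_le inf_le_left) (lA.trans (norm_inf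
        (le_top.trans (norm_pCoreOf s ⊤)) le_normalizer)) (inf_le_right.trans nA), le_antisymm (res_le _ _)
        (le_res_of_coprime le_rfl (coprime_card_of_isPGroup pA ((Nat.coprime_primes hs hr).2 (Ne.symm e))).symm)⟩

theorem core_bot (hM' : Prim M') (hne : ¬ M ≤ M') {r : ℕ} (hr : r.Prime) (h0 : ¬ IsPGroup r X)
    (hc : Nat.card (pCoreOf r M) = Nat.card (pCoreOf r M')) : pCoreOf r M' = ⊥ := by
  have := Fact.mk hr
  have e := core_eq hM h1 h2 h3 hr h0
  by_contra k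
  have n := hM' _ k (pCoreOf_le r M') (norm_pCoreOf r M')
  have l : pCoreOf r M' ≤ 𝐍 (pCoreOf r M) := (e.ge.trans ((pCoreOf_le _ _).trans inf_le_left)).trans (norm_pCoreOf r M)
  have : pCoreOf r M' = pCoreOf r M' ⊔ pCoreOf r M := by_contra fun c => by
    refine ((sn_of_isPGroup ((isPGroup_pCoreOf r M').to_sup_of_normal_right' (isPGroup_pCoreOf r M) l)
      le_sup_left).lt_normalizer c).not_ge ((inf_le_inf_left _ n).trans ?_)
    rw [sup_inf_of_norm l (pCoreOf_le r M')]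
    refine sup_le le_rfl (le_trans ?_ ((inf_pCoreOf_le inf_le_left).trans e.le))
    exact le_inf (le_inf (inf_le_left.trans (pCoreOf_le r M)) inf_le_right) inf_le_left
  have := eq_of_le_of_card_ge (le_sup_right.trans this.ge) hc.ge
  exact hne ((norm_pCoreOf r M).trans (this ▸ n))

end

theorem main {M M' X Y : Subgroup G} (hM : Prim M) (hM' : Prim M') (hne : ¬ M ≤ M') (hne' : ¬ M' ≤ M)
    (hc : ∀ r, Nat.card (pCoreOf r M) = Nat.card (pCoreOf r M'))
    (x1 : X ≤ M) (x2 : M ≤ 𝐍 X) (x3 : SN M' X) (x0 : X ≠ ⊥) (y1 : Y ≤ M') (y2 : M' ≤ 𝐍 Y) (y3 : SN M Y) (y0 : Y ≠ ⊥) :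
    ∃ p : ℕ, p.Prime ∧ IsPGroup p ↥(X ⊔ Y) ∧ FS M = pCoreOf p M ∧ FS M' = pCoreOf p M' := by
  have e1 := EL_eq hM x1 x2 x3 x0
  have e2 := EL_eq hM' y1 y2 y3 y0
  rw [inf_comm, e1] at e2
  have e3 : EL M = ⊥ := by_contra fun k => hne' ((norm_EL le_normalizer).trans
    (e2 ▸ hM _ k (EL_le _) (norm_EL le_normalizer)))
  have b : ∀ r : ℕ, r.Prime → pCoreOf r M ≠ ⊥ → IsPGroup r X ∧ IsPGroup r Y := fun r hr k =>
    ⟨by_contra fun c => k (card_eq_one.1 (by rw [hc, core_bot hM x1 x2 x3 hM' hne hr c (hc r), card_bot])),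
      by_contra fun c => k (core_bot hM' y1 y2 y3 hM hne' hr c (hc r).symm)⟩
  obtain ⟨p, hp, k⟩ : ∃ p : ℕ, p.Prime ∧ pCoreOf p M ≠ ⊥ := by
    by_contra! k
    refine CA.Fstar.map_fstar_ne_bot (H := M) (fun e => x0 (eq_bot_iff.2 (e ▸ x1))) (eq_bot_iff.2 ?_)
    exact (FS_eq M).le.trans (sup_le e3.le (FL_le_of fun s hs => (k s hs).le))
  have := Fact.mk hp
  have u : ∀ s : ℕ, s.Prime → s ≠ p → pCoreOf s M = ⊥ := fun s hs c => by_contra fun k' => by
    have := Fact.mk hs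
    exact x0 (disjoint_self.1 (IsPGroup.disjoint_of_ne s p c _ _ (b s hs k').1 (b p hp k).1))
  refine ⟨p, hp, (b p hp k).1.to_sup_of_normal_right' (b p hp k).2 (x3.le.trans y2), ?_, ?_⟩
  · rw [FS_eq, e3, bot_sup_eq]
    refine le_antisymm (FL_le_of fun s hs => ?_) (pCoreOf_le_FL M)
    by_cases c : s = p
    · rw [c]
    · rw [u s hs c]; exact bot_le
  · rw [FS_eq, e2, e3, bot_sup_eq]
    refine le_antisymm (FL_le_of fun s hs => ?_) (pCoreOf_le_FL M')
    by_cases c : s = p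
    · rw [c]
    · rw [card_eq_one.1 (by rw [← hc, u s hs c, card_bot] : Nat.card (pCoreOf s M') = 1)]; exact bot_le

end CA.H8TW
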