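import Cfsg.Agent.Lib.Char.H10Ker
import Cfsg.Agent.Lib.Block.BlkQuo
import Cfsg.Agent.Lib.Grp.H12PSolv
import Cfsg.Agent.Lib.Grp.H4Cls
import Cfsg.Agent.Lib.Grp.Fus2
import Cfsg.Agent.Lib.Loc.EqO1

/-! Characters of `p'`-degree of groups that are `p`-solvable and `q`-solvable. -/

set_option autoImplicit false
set_option linter.unusedSectionVars false

namespace CA.PQSol
open Cfsg CA.PF CA.H12Gl CA.H12Gl2 CA.H12Deg CA.H10Ker Subgroup CA.EqO
open CA.BG hiding cj_one cj_mul cj_inv_cj cj_cj_inv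
open scoped ComplexConjugate commutatorElement

universe u

theorem b0_iff {G : Type*} [Group G] [Finite G] {p : ℕ} [Fact p.Prime] {M : Ideal AlgInt} (hM : IsPModular p M)
    (hs : IsPSolvable p G) (χ : IrrCharacter G) :
    χ ∈ principalBlock M G ↔ pPrimeCore p G ≤ CChar.CharKer.charKer χ.1 := by
  refine ⟨fun h => BlkKer.kerB_principalBlock (G := G) hM ▸ BlkKer.kerB_le h, fun h => ?_⟩
  obtain ⟨ψ, rfl⟩ := (BlkQuo.exists_infl_iff (QuotientGroup.mk'_surjective (pPrimeCore p G))).2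
    (by rwa [QuotientGroup.ker_mk'])
  exact BlkQuo.infl_mem_principal _ hM (BlkKer.sameBlock_of_constrained hM (H12PSolv.centralizer_pCore_le
    (H12PSolv.psolv_quotient hs _) Core.pPrimeCore_quotient_pPrimeCore) (CChar.CharOrth.irrOne _) ψ)

variable {Γ : Type u} [Group Γ] [Fintype Γ] {B D E H K L M P Q R S T V : Subgroup Γ} {p q : ℕ}

theorem le_of_Phi (hp : p.Prime) (hP : Syl p P ⊤) (hO : pPrimeCore p Γ = ⊥) [B.Normal] [H.Normal]
    (h1 : B ≤ ⁅P, P⁆) (h2 : B ≤ H) (h3 : ¬ p ∣ B.relIndex H) : H ≤ B := by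
  have hB := hP.pi.of_le (h1.trans (der_le P))
  have h4 := (piNat_compl_iff hp).2 h3
  obtain ⟨K, k1, k2, k3, k4⟩ := Fus2.exists_complement_in h2 (top_norm B H) (hB.nat.coprime h4)
  have hK : IsPi {p}ᶜ K := isPi_iff.2 (k2 ▸ h4)
  have h5 : P ⊓ 𝓝(K) = P := Phi_nongen inf_le_left fun g hg => by
    obtain ⟨b, hb, h6⟩ := coprime_conj_le (top_norm B K) (hB.coprime hK) (B := BG.cj g K)
      (k3 ▸ (cj_mono g k1).trans (cj_normal H g).le) (hB.coprime (hK.cj g)) (Or.inr (Or.inr (hB.isSolvable hp)))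
    rw [← BG.cj_mul] at h6
    have h7 := h1.trans (der_le_Phi hp hP.pi) hb
    rw [← inv_mul_cancel_left b g]
    exact mul_mem (mem_sup_right (inv_mem h7))
      (mem_sup_left ⟨mul_mem (Phi_le P h7) hg, mem_norm_of_cj_le h6⟩)
  have h6 : H ≤ 𝓝(K) := k3 ▸ sup_le (le_norm_self K) ((h1.trans (der_le P)).trans (h5 ▸ inf_le_right))
  have h7 := (le_core hK k1 h6).trans (Core.le_pPrimeCore (hN := normal_of (norm_core _ (top_norm H ⊤)))
    ((isPi_compl_iff_coprime hp).1 (core_pi _ H)))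
  rw [← k3, BG.eq_bot_mono h7 hO, bot_sup_eq]

theorem card_irr (K : Subgroup Γ) : (irr K).card = Nat.card (ConjClasses K) := by
  rw [← CChar.CharOrth.card_irr, Nat.card_eq_fintype_card, Finset.card_eq_sum_ones, sum_irr_eq K fun _ => 1,
    ← Finset.card_eq_sum_ones, Finset.card_univ]

theorem le_of_card_irr (hle : E ≤ D) (h : ∀ x ∈ E, ∀ y ∈ E, ∀ d ∈ D, d * x * d⁻¹ = y → ∃ c ∈ E, c * x * c⁻¹ = y)
    (hc : (irr D).card = (irr E).card) : D ≤ E := by
  rw [card_irr, card_irr] at hc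
  have h1 : Function.Injective (ConjClasses.map (inclusion hle)) := fun a b e => by
    obtain ⟨x, rfl⟩ := ConjClasses.mk_surjective a
    obtain ⟨y, rfl⟩ := ConjClasses.mk_surjective b
    obtain ⟨d, hd⟩ := isConj_iff.1 (ConjClasses.mk_eq_mk_iff_isConj.1 e)
    obtain ⟨c, hc, e'⟩ := h x x.2 y y.2 d d.2 (congrArg Subtype.val hd)
    exact ConjClasses.mk_eq_mk_iff_isConj.2 (isConj_iff.2 ⟨⟨c, hc⟩, Subtype.ext e'⟩)
  have h2 := (h1.bijective_of_nat_card_le hc.le).2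
  refine subgroupOf_eq_top.1 (CChar.CharBurn.eq_top_of_forall_conj_mem fun x => ?_)
  obtain ⟨a, ha⟩ := h2 (ConjClasses.mk x)
  obtain ⟨y, rfl⟩ := ConjClasses.mk_surjective a
  obtain ⟨d, hd⟩ := isConj_iff.1 (ConjClasses.mk_eq_mk_iff_isConj.1 ha).symm
  exact ⟨d, by rw [hd]; exact y.2⟩

theorem cent_le (hS : Group.IsSolvable S) (hP : P ≤ S) (hn : S ≤ 𝓝(L)) (hc : (♯L).Coprime ♯S)
    (h : ∀ θ ∈ irr L, P ≤ stab θ → S ≤ stab θ) : L ⊓ 𝓒(P) ≤ 𝓒(S) := by
  classical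
  refine (le_of_card_irr (inf_le_inf_left L (cent_anti hP)) (fun x hx y hy l hl e => ?_) ?_).trans inf_le_right
  · have h1 : S ≤ 𝓒₁(x) := le_cent1_iff.2 hx.2
    have h2 : BG.cj l⁻¹ S ≤ 𝓒₁(x) := by
      rw [cj_le_iff, inv_inv, cj_cent1, e]; exact le_cent1_iff.2 hy.2
    have h3 : BG.cj l⁻¹ S ≤ S ⊔ L := cj_le_of_mem (mem_sup_right (inv_mem hl.1)) le_sup_left
    have h4 := cop_mono hc (inf_le_left : L ⊓ 𝓒₁(x) ≤ L) le_rfl
    obtain ⟨k, hk, h5⟩ := coprime_conj_le (norm_inf hn (le_norm_of_le h1)) h4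
      (sup_inf_of_le_left hn h1 ▸ le_inf h3 h2) (card_cj l⁻¹ S ▸ h4) (Or.inl hS)
    rw [← BG.cj_mul] at h5
    have h6 : k * l⁻¹ ∈ L ⊓ 𝓒(S) :=
      coprime_norm_cent hn hc ▸ ⟨L.mul_mem hk.1 (L.inv_mem hl.1), mem_norm_of_cj_le h5⟩
    refine ⟨_, inv_mem h6, ?_⟩
    rw [← e, mul_inv_rev, inv_inv, mul_inv_rev, inv_inv, mul_assoc l, BG.mem_cent1.1 (inv_mem hk.2)]; group
  · rw [← card_inv hS hn hc, ← card_inv (solv_of_le hS hP) (hP.trans hn) (cop_mono hc le_rfl hP)]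
    exact congrArg _ (Finset.filter_congr fun θ hθ => ⟨h θ hθ, hP.trans⟩)

theorem relIndex_dvd (R T : Subgroup Γ) [R.Normal] : T.relIndex R ∣ T.index := by
  have h1 := card_sup_mul_inf (top_norm R T)
  have h2 := card_inf_mul_relIndex T R
  have h3 := card_mul_relIndex (le_sup_left : T ≤ T ⊔ R)
  have h4 : T.relIndex R = T.relIndex (T ⊔ R) :=
    Nat.eq_of_mul_eq_mul_left (Nat.mul_pos (card_pos' T) (card_pos' (T ⊓ R))) (by rw [mul_assoc, h2, ← h1, ← h3]; ring)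
  exact h4 ▸ relIndex_dvd_index_of_le le_sup_left

theorem le_of_idx (hp : p.Prime) (hq : q.Prime) [M.Normal] [R.Normal] (hP : Syl p P ⊤) (hQ : Syl q Q R)
    (hn : P ≤ 𝓝(Q)) (hR : IsPi {p}ᶜ R) (hM : IsPi {q}ᶜ M) (e : Q ⊔ M = R)
    (h : ∀ χ ∈ irr (⊤ : Subgroup Γ), ¬ p ∣ charDegree χ → ¬ q ∣ charDegree χ) (hT : P ≤ T) (hi : ¬ q ∣ T.index) :
    Q ≤ T := by
  have hMR : M ≤ R := e ▸ le_sup_right
  have hM' := hR.of_le hMR
  have h1 : M ⊓ 𝓒(P) ≤ 𝓒(P ⊔ Q) := cent_le (solv_sup (hP.pi.isSolvable hp) (hQ.pi.isSolvable hq) hn) le_sup_left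
    (top_norm M _) (Nat.Coprime.coprime_dvd_right (card_sup_dvd hn)
      ((hM'.coprime' hP.pi).mul_right (hM.coprime' hQ.pi))) fun θ hθ hs => sup_le hs (by
    obtain ⟨η, h1, h2, -⟩ := exists_canon (nrm_of_le_normalizer (le_sup_right : M ≤ P ⊔ M) (top_norm M _))
      (relIndex_sup_norm (top_norm M P) ▸ hM'.nat.coprime' (hP.pi.relIndex M)) hθ (sup_le hs (le_stab (irr_CInv hθ)))
    have h3 : charDegree η = charDegree θ := deg_congr (by rw [← h2, Res_one])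
    obtain ⟨χ, h4, h5, h6⟩ := exists_over hp le_top ((piNat_compl_iff hp).1 (hP.le_of_idx le_sup_left)) h1
      (h3 ▸ (piNat_compl_iff hp).1 (hM'.nat.of_dvd (deg_dvd_card hθ)))
    have h7 := relIndex_stab_dvd (nrm_top M) h4 hθ (dot_ne_trans le_sup_right le_top (irr_char h4) h1 (irr_char hθ) h5
      (H10OW.dot_ne_of_res hθ h2))
    rw [relIndex_top_right] at h7
    have h8 : ¬ q ∣ (stab θ).relIndex R := fun h9 =>
      h χ h4 h6 ((h9.trans (relIndex_dvd R _)).trans ((dvd_mul_right _ _).trans h7))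
    have h9 := relIndex_mul_relIndex _ _ _ (inf_le_left : R ⊓ stab θ ≤ R) (le_refl R)
    refine (hQ.pi.le_of_idx ?_)
    have a1 := card_sup_mul_inf (top_norm M Q)
    have a2 := card_inf_mul_relIndex (stab θ) R
    have a3 := card_inf_mul_relIndex (stab θ) Q
    have a4 := card_sup_mul_inf (top_norm M (stab θ ⊓ Q))
    have a5 : stab θ ⊓ Q ⊔ M = stab θ ⊓ R := by
      rw [inf_comm _ R, ← e, sup_inf_of_le_right (top_norm M Q) (le_stab (irr_CInv hθ)), inf_comm]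
    rw [e, hQ.pi.inf_eq_bot hM, card_bot, mul_one] at a1
    rw [a5, (hQ.pi.inf_right _).inf_eq_bot hM, card_bot, mul_one] at a4
    have a6 : (stab θ).relIndex Q = (stab θ).relIndex R :=
      Nat.eq_of_mul_eq_mul_left (Nat.mul_pos (card_pos' (stab θ ⊓ Q)) (card_pos' M)) (by
        rw [← a4, a2, a1, ← a3, a4]; ring)
    exact (piNat_compl_iff hq).2 (a6 ▸ h8))
  obtain ⟨Q', h2, h3⟩ := coprime_Sylow_exists hq (norm_inf (le_norm_of_le hT) (top_norm R P))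
    ((hR.inf_right T).coprime' hP.pi) (Or.inl (hP.pi.isSolvable hp))
  have h4 : Syl q Q' R := h2.of_idx inf_le_right (by
    rw [inf_relIndex_right]; exact (piNat_compl_iff hq).2 fun h => hi (h.trans (relIndex_dvd R T)))
  obtain ⟨x, hx, h5⟩ := coprime_Sylow_trans hq (top_norm R P) (hR.coprime' hP.pi) (Or.inl (hP.pi.isSolvable hp))
    hQ hn h4 h3
  rw [← e, disjoint_sup_cent hn (top_norm M P) (top_norm M Q) (hQ.pi.inf_eq_bot hM)] at hx
  rw [← cj_of_mem_norm (sup_le (le_norm_of_le inf_le_left) (h1.trans ((cent_anti le_sup_right).trans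
    (cent_le_norm Q))) hx), h5]
  exact h2.le.trans inf_le_left

theorem deg_quot (N : Subgroup Γ) [N.Normal] [Fintype (Γ ⧸ N)]
    (h : ∀ χ ∈ irr (⊤ : Subgroup Γ), N ≤ cfker χ → ¬ p ∣ charDegree χ → ¬ q ∣ charDegree χ) :
    ∀ χ ∈ irr (⊤ : Subgroup (Γ ⧸ N)), ¬ p ∣ charDegree χ → ¬ q ∣ charDegree χ := fun χ hχ => by
  have h1 := mem_irr_top.2 (CChar.CharKer.irr_inflate (mem_irr_top.1 hχ))
  have h2 : charDegree (fun g : Γ => χ (g : Γ ⧸ N)) = charDegree χ := deg_congr rfl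
  exact h2 ▸ h _ h1 fun x hx => (irr_mem_cfker h1).2 (by rw [(QuotientGroup.eq_one_iff x).2 hx]; rfl)

theorem not_dvd_step [hp : Fact p.Prime] [hq : Fact q.Prime] (hpq : p ≠ q) (hs : IsPSolvable p Γ)
    (hO : pPrimeCore p Γ = ⊥) [M.Normal] [R.Normal] (h1 : pCore p Γ ≤ M) (h2 : M ≤ R) (hM : IsPi {q}ᶜ M)
    (h3 : PiNat {q} (M.relIndex R)) (h4 : ¬ p ∣ (pCore p Γ).relIndex R)
    (h : ∀ χ ∈ irr (⊤ : Subgroup Γ), ¬ p ∣ charDegree χ → ¬ q ∣ charDegree χ) : R ≤ M := by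
  set V := pCore p Γ
  have hV : IsPi {p} V := isPi_of_isPGroup hp.out Core.isPGroup_pCore
  obtain ⟨Q, hQ⟩ := syl_exists hq.out R
  have e : Q ⊔ M = R := le_antisymm (sup_le hQ.le h2) (by
    refine relIndex_eq_one.1 ((h3.of_dvd (relIndex_anti le_sup_right R)).eq_one (hQ.le_of_idx le_sup_left)))
  have h5 := hQ.syl_frattini_sup hq.out le_top (top_norm R ⊤)
  rw [top_inf_eq] at h5
  obtain ⟨P, hP, h6⟩ := H4Cls.exists_syl_le (K := 𝓝(Q) ⊔ V) hp.out fun hd => h4 (by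
    have a1 := card_sup_mul_inf (top_norm R (𝓝(Q) ⊔ V))
    have a2 := (𝓝(Q) ⊔ V).card_mul_index
    have a3 := card_inf_mul_relIndex (𝓝(Q) ⊔ V) R
    rw [sup_assoc, sup_eq_right.2 (h1.trans h2), sup_comm, h5, card_top] at a1
    have a4 : (𝓝(Q) ⊔ V).relIndex R = (𝓝(Q) ⊔ V).index :=
      Nat.eq_of_mul_eq_mul_left (Nat.mul_pos (card_pos' (𝓝(Q) ⊔ V)) (card_pos' ((𝓝(Q) ⊔ V) ⊓ R))) (by
        rw [mul_assoc, a3, ← a1, ← a2]; ring)
    exact (a4 ▸ hd).trans (relIndex_anti le_sup_right R))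
  have hVP : V ≤ P := hP.le_of_norm' hV le_top (top_norm V P)
  have h7 : 𝓝(Q) ⊓ P ⊔ V = P := by rw [← sup_inf_of_le_right (top_norm V _) hVP, inf_eq_right.2 h6]
  have h8 : ⁅V, Q⁆ ≤ ⁅P, P⁆ := fun x hx => by_contra fun hx' => by
    obtain ⟨μ, m1, m2, m3⟩ := exists_irr_not_mem_cfker ((Nrm.refl P).commutator (Nrm.refl P))
      (hVP (commutator_le_left V Q hx)) hx'
    have m4 := (irr_one_eq_one_iff m1).2 m2
    have m5 : Res (V : Set Γ) μ ∈ irr V := ((irr_char m1).Res hVP).irr_of_one (by rw [Res_one, m4])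
    obtain ⟨χ, c1, c2, c3⟩ := exists_over hp.out le_top (hP.not_dvd hp.out) m1 (by
      rw [(deg_eq_one_iff m1).2 m4]; exact hp.out.not_dvd_one)
    have c4 := relIndex_stab_dvd (nrm_top V) c1 m5 (dot_ne_trans hVP le_top (irr_char c1) m1 (irr_char m5) c2
      (H10OW.dot_ne_of_res m5 rfl))
    rw [relIndex_top_right] at c4
    have hk : (QuotientGroup.mk' V).ker ≤ stab (Res (V : Set Γ) μ) := by
      rw [QuotientGroup.ker_mk']; exact le_stab (irr_CInv m5)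
    have hf := QuotientGroup.mk'_surjective V
    haveI := Fintype.ofFinite (Γ ⧸ V)
    haveI := Normal.map ‹M.Normal› _ hf
    haveI := Normal.map ‹R.Normal› _ hf
    have b1 := card_map_mul (QuotientGroup.mk' V) R
    rw [QuotientGroup.ker_mk', inf_eq_right.2 (h1.trans h2), ← card_mul_relIndex (h1.trans h2), mul_comm] at b1
    have b2 : (Q.map (QuotientGroup.mk' V) ⊔ M.map (QuotientGroup.mk' V)) = R.map (QuotientGroup.mk' V) := by
      rw [← Subgroup.map_sup, e]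
    have c5 := le_of_idx (T := (stab (Res (V : Set Γ) μ)).map (QuotientGroup.mk' V)) hp.out hq.out
      (syl_map' hp.out hf hP) (b2 ▸ hall_sup_normal (pi_map hQ.pi _) (top_norm _ _) (pi_map hM _)) (by
        rw [← h7, Subgroup.map_sup, QuotientGroup.map_mk'_self, sup_bot_eq]
        exact (map_mono inf_le_left).trans (le_normalizer_map _))
      ((isPi_compl_iff hp.out).2 (Nat.eq_of_mul_eq_mul_left (card_pos' V) b1 ▸ h4)) (pi_map hM _) b2
      (deg_quot V fun χ hχ _ => h χ hχ)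
      (map_mono (H10OW.stab_res (le_stab (irr_CInv m1)) (top_norm V P))) (by
        rw [index_map_eq _ hf hk]; exact fun h9 => h χ c1 c3 (h9.trans ((dvd_mul_right _ _).trans c4)))
    rw [Subgroup.map_le_map_iff, sup_eq_left.2 hk] at c5
    refine m3 (commutator_le.2 (fun v hv r hr => (irr_mem_cfker m1).2 ?_) hx)
    obtain ⟨i, rfl⟩ := (irr_char m1).exists_lin m4
    have h9 := congrFun (mem_stab.1 (c5 hr)) v⁻¹
    have h10 := Normal.conj_mem inferInstance _ (inv_mem hv) r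
    rw [cj_apply, Res_of_mem _ h10, Res_of_mem _ (inv_mem hv)] at h9
    rw [commutatorElement_def, mul_assoc, mul_assoc, ← mul_assoc r, lin_apply_mul i (hVP hv), h9,
      ← lin_apply_mul i (hVP hv), mul_inv_cancel]
  have h9 : 𝓝(Q) ⊓ P = P := Phi_nongen inf_le_right (by
    have := coprime_cent_prod (top_norm V Q) (hV.coprime_ne hQ.pi hpq) (Or.inl (hQ.pi.isSolvable hq.out))
    refine h7.ge.trans (sup_le le_sup_left (this.ge.trans (sup_le ?_ ?_)))
    · exact le_sup_of_le_right (h8.trans (der_le_Phi hp.out hP.pi))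
    · exact le_sup_of_le_left (le_inf (inf_le_right.trans (cent_le_norm Q)) (inf_le_left.trans hVP)))
  have h10 : Q ≤ V := (cent_of_norm_cop (top_norm V Q) (hVP.trans (h9 ▸ inf_le_left))
    (hQ.pi.coprime_ne hV hpq.symm)).trans (H12PSolv.centralizer_pCore_le hs hO)
  exact e ▸ sup_le (h10.trans h1) le_rfl

theorem not_dvd [hp : Fact p.Prime] [hq : Fact q.Prime] (hpq : p ≠ q) (n : ℕ) :
    ∀ (Γ : Type u) [Group Γ] [Fintype Γ], Nat.card Γ < n → IsPSolvable p Γ → IsPSolvable q Γ → pPrimeCore p Γ = ⊥ →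
      (∀ χ ∈ irr (⊤ : Subgroup Γ), ¬ p ∣ charDegree χ → ¬ q ∣ charDegree χ) → ¬ q ∣ Nat.card Γ := by
  induction n with
  | zero => intro Γ _ _ h; omega
  | succ n ih =>
    intro Γ _ _ hn hs hs' hO h hd
    set V := pCore p Γ with hV
    have V0 : V ≠ ⊥ := fun e => by
      have := H12PSolv.centralizer_pCore_le hs hO
      rw [← hV, e, cent_bot, ← card_top, le_bot_iff] at *
      rw [this, card_bot] at hd
      exact hq.out.not_dvd_one hd
    have hf := QuotientGroup.mk'_surjective V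
    set H := (pPrimeCore p (Γ ⧸ V)).comap (QuotientGroup.mk' V) with hH
    have hVH : V ≤ H := (QuotientGroup.ker_mk' V).ge.trans (ker_le_comap _ _)
    have h1 : ¬ p ∣ V.relIndex H := by
      have := card_comap hf (pPrimeCore p (Γ ⧸ V))
      rw [← hH, ← card_mul_relIndex hVH, QuotientGroup.ker_mk', mul_comm] at this
      rw [Nat.eq_of_mul_eq_mul_right (card_pos' V) this]
      exact hp.out.coprime_iff_not_dvd.1 Core.coprime_pPrimeCore.symm
    haveI := Fintype.ofFinite (Γ ⧸ H)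
    have h2 := ih (Γ ⧸ H) (by have := card_quot_lt (ne_bot_mono hVH V0); omega) (H12PSolv.psolv_quotient hs H)
      (H12PSolv.psolv_quotient hs' H) (Core.pPrimeCore_eq_bot_of_equiv
        ((QuotientGroup.quotientQuotientEquivQuotient V H hVH).symm.trans
          (QuotientGroup.quotientMulEquivOfEq (map_comap_eq_self_of_surjective hf _))).symm
        Core.pPrimeCore_quotient_pPrimeCore) (deg_quot H fun χ hχ _ => h χ hχ)
    have h3 : q ∣ ♯H := ((Nat.Prime.dvd_mul hq.out).1 (H.card_mul_index ▸ hd)).resolve_right h2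
    haveI := normal_of (norm_core {q}ᶜ (top_norm H ⊤))
    obtain ⟨K, k1, k2, k3, k4⟩ := H12PSolv.exists_step hs' (N := 𝓞({q}ᶜ, H)) (M := H)
      fun e => (isPi_compl_iff hq.out).1 ((core_pi _ H).of_le e) h3
    have h4 : K ⊔ 𝓞({q}ᶜ, H) ≤ H := sup_le k2 (core_le _ _)
    have h5 := relIndex_sup_norm (top_norm 𝓞({q}ᶜ, H) K)
    refine k3 (le_sup_left.trans (?_ : K ⊔ 𝓞({q}ᶜ, H) ≤ _))
    rcases k4 with ⟨k, k4⟩ | k4
    · exact not_dvd_step hpq hs hO (le_core ((isPi_of_isPGroup hp.out Core.isPGroup_pCore).ne hpq) hVH (top_norm V H))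
        le_sup_right (core_pi _ H) (h5 ▸ k4 ▸ piNat_pow hq.out k)
        (fun h6 => h1 (h6.trans (relIndex_dvd_of_norm (top_norm V H) h4))) h
    · exact le_core (((core_pi _ H).inf_left _).of_relIndex (h5 ▸ (piNat_compl_iff_coprime hq.out).2 k4)) h4
        (top_norm _ H)

theorem b0_cf [Fact p.Prime] {M : Ideal AlgInt} (hM : IsPModular p M) (hs : IsPSolvable p Γ) {χ : Γ → ℂ}
    (h : χ ∈ irr (⊤ : Subgroup Γ)) :
    (⟨χ, mem_irr_top.1 h⟩ : IrrCharacter Γ) ∈ principalBlock M Γ ↔ pPrimeCore p Γ ≤ cfker χ := by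
  rw [b0_iff hM hs, CChar.CharKer.le_charKer_iff (CChar.CharFun.char_of_irr (mem_irr_top.1 h))]
  exact forall₂_congr fun x _ => (irr_mem_cfker h).symm

theorem pi_core [hp : Fact p.Prime] : IsPi {p}ᶜ (pPrimeCore p Γ) :=
  (isPi_compl_iff_coprime hp.out).2 Core.coprime_pPrimeCore

theorem side [hp : Fact p.Prime] [B.Normal]
    (h : ∀ χ ∈ irr (⊤ : Subgroup Γ), pPrimeCore p Γ ≤ cfker χ → ¬ p ∣ charDegree χ → B ≤ cfker χ) :
    (B ⊔ pPrimeCore p Γ = ⊤ → ¬ p ∣ Nat.card Γ) ∧ ∀ H : Subgroup Γ, H.Normal → B ⊔ pPrimeCore p Γ ≤ H →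
      ¬ p ∣ (B ⊔ pPrimeCore p Γ).relIndex H → H ≤ B ⊔ pPrimeCore p Γ := by
  set A := pPrimeCore p Γ with hA
  have hf := QuotientGroup.mk'_surjective A
  haveI := Fintype.ofFinite (Γ ⧸ A)
  haveI := Normal.map ‹B.Normal› _ hf
  obtain ⟨P⟩ : Nonempty (Sylow p (Γ ⧸ A)) := inferInstance
  have hO : pPrimeCore p (Γ ⧸ A) = ⊥ := Core.pPrimeCore_quotient_pPrimeCore
  obtain ⟨L, l1, l2, l3⟩ := le_of_ker P (K := B.map (QuotientGroup.mk' A)) fun χ hχ hd => by
    have h1 := mem_irr_top.2 (CChar.CharKer.irr_inflate (mem_irr_top.1 hχ))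
    have h2 : charDegree (fun g : Γ => χ (g : Γ ⧸ A)) = charDegree χ := deg_congr rfl
    rintro _ ⟨b, hb, rfl⟩
    exact (irr_mem_cfker hχ).2 ((irr_mem_cfker h1).1 (h _ h1 (fun x hx => (irr_mem_cfker h1).2
      (by rw [(QuotientGroup.eq_one_iff x).2 hx]; rfl)) (h2 ▸ hd) hb))
  rw [BG.eq_bot_mono (Core.le_pPrimeCore (hp.out.coprime_iff_not_dvd.2 (not_dvd_of_fpf P l2)).symm) hO,
    bot_sup_eq] at l3
  refine ⟨fun e hd => ?_, fun H hH h1 h2 => ?_⟩
  · have h1 := congrArg (map (QuotientGroup.mk' A)) e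
    rw [Subgroup.map_sup, QuotientGroup.map_mk'_self, sup_bot_eq, map_top_of_surjective _ hf] at h1
    have h2 : (P : Subgroup (Γ ⧸ A)) = ⊥ := by_contra fun h2 =>
      (der_lt_of_solv ((syl_top hp.out P).pi.isSolvable hp.out) h2).not_ge (le_top.trans (h1 ▸ l3))
    refine ((Nat.Prime.dvd_mul hp.out).1 (A.card_mul_index ▸ hd)).elim ((isPi_compl_iff hp.out).1 pi_core) ?_
    have h3 := P.not_dvd_index
    rwa [h2, index_bot] at h3
  · haveI := Normal.map hH _ hf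
    have h3 := le_of_Phi (H := H.map (QuotientGroup.mk' A)) hp.out (syl_top hp.out P) hO l3
      (map_mono (le_sup_left.trans h1)) (by
        rwa [relIndex_map_map, QuotientGroup.ker_mk', sup_eq_left.2 (le_sup_right.trans h1)])
    rwa [Subgroup.map_le_map_iff, QuotientGroup.ker_mk'] at h3

theorem not_dvd_index [hp : Fact p.Prime] [hq : Fact q.Prime] (hpq : p ≠ q) (hs : IsPSolvable p Γ)
    (hs' : IsPSolvable q Γ)
    (h : ∀ χ ∈ irr (⊤ : Subgroup Γ), pPrimeCore p Γ ≤ cfker χ → ¬ p ∣ charDegree χ → ¬ q ∣ charDegree χ) :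
    ¬ q ∣ (pPrimeCore p Γ).index := by
  haveI := Fintype.ofFinite (Γ ⧸ pPrimeCore p Γ)
  exact not_dvd hpq _ _ (Nat.lt_succ_self _) (H12PSolv.psolv_quotient hs _) (H12PSolv.psolv_quotient hs' _)
    Core.pPrimeCore_quotient_pPrimeCore (deg_quot _ h)

theorem not_dvd_deg [hp : Fact p.Prime] [hq : Fact q.Prime] (hpq : p ≠ q) (hs : IsPSolvable p Γ)
    (hP : Syl p P ⊤) (hQ : Syl q Q ⊤) (hc : Q ≤ 𝓒(P)) {χ : Γ → ℂ} (h : χ ∈ irr (⊤ : Subgroup Γ))
    (hk : pPrimeCore p Γ ≤ cfker χ) : ¬ q ∣ charDegree χ := by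
  set A := pPrimeCore p Γ with hA
  have hf := QuotientGroup.mk'_surjective A
  haveI := Fintype.ofFinite (Γ ⧸ A)
  have hV : IsPi {p} (pCore p (Γ ⧸ A)) := isPi_of_isPGroup hp.out Core.isPGroup_pCore
  have h1 := syl_map' hq.out hf hQ
  have h2 : Q.map (QuotientGroup.mk' A) ≤ pCore p (Γ ⧸ A) :=
    ((map_mono hc).trans ((map_centralizer_le_centralizer_image _ _).trans
      (cent_anti ((syl_map' hp.out hf hP).le_of_norm' hV le_top (top_norm _ _))))).trans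
      (H12PSolv.centralizer_pCore_le (H12PSolv.psolv_quotient hs A) Core.pPrimeCore_quotient_pPrimeCore)
  have h3 := h1.not_dvd hq.out
  rw [← inf_eq_left.2 h2, inf_eq_bot_of_cop (h1.pi.coprime_ne hV hpq.symm), relIndex_bot_left] at h3
  obtain ⟨ψ, h4, h5⟩ := CChar.CharKer.irr_exists_quotient (mem_irr_top.1 h) A fun g hg =>
    (irr_mem_cfker h).1 (hk hg)
  have h6 : charDegree ψ = charDegree χ := deg_congr (h5 1)
  exact fun hd => h3 ((h6 ▸ hd).trans (deg_dvd_card (mem_irr_top.2 h4)))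

end CA.PQSol
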