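import Cfsg.Agent.Lib.Loc.ZJC2
import Cfsg.Agent.S2834

/-!
Glauberman's Theorem C, part 3: if `Y ≤ Z(J(S))` is normalized by `N(J(S))` and there is no
configuration in `N(Y)`, then `Y` is strongly closed.
-/

set_option autoImplicit false
set_option linter.unusedSectionVars false

namespace CA.ZJC

open Subgroup Cfsg CA.Amb CA.AmbSyl CA.AmbCore CA.AmbRes CA.AmbChar CA.H6Stab CA.H6Ctl CA.H6Ctl2
  CA.AmbSpe CA.AmbWC CA.H6ZJ
open CA.H6J hiding Z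
open scoped commutatorElement

universe u

section
variable {G : Type*} [Group G] [Finite G] {p : ℕ} [hp : Fact p.Prime]

theorem J_eq_of_le {S T : Subgroup G} (hS : SylIn p S ⊤) (hT : IsPGroup p T) (h : J 0 S ≤ T) :
    J 0 T = J 0 S := by
  obtain ⟨k, -, hk⟩ := hS.exists_le_conj hT le_top
  obtain ⟨A₀, hA₀⟩ := mx_nonempty 0 S
  have h1 : J 0 S ≤ J 0 (cj k S) := J_le_iff.2 fun A hA => le_J (mem_mx_of_card_le
    (cj_mem_mx_iff.2 hA₀ : cj k A₀ ∈ _) ((le_J hA).trans (h.trans hk)) hA.2.1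
    (by rw [card_cj, mx_card_eq hA₀ hA]))
  have h2 := eq_of_le_of_card_ge h1 (by rw [J_cj, card_cj])
  rw [J_eq_of_J_le (h2 ▸ h) hk, ← h2]

theorem ctl_of_sc {L S Y : Subgroup G} (hS : SylIn p S L) (hY : Y ≤ S) (h : SC L S Y)
    (hc : IsMulCommutative Y) : Ctl L S (𝐍 Y) := by
  refine Ctl.of_subgroupOf hS.le ?_
  rw [← normalizer_subgroupOf (hY.trans hS.le)]
  refine ctl_of_comm (p := p) ?_ (comap_mono hY) h.subgroupOf inferInstance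
  rw [← subgroupOf_self L]
  exact (sylIn_subgroupOf_iff hS.le le_rfl).2 hS

theorem not_quad (hp2 : p ≠ 2) {S B U : Subgroup G} [B.Normal] (hS : SylIn p S ⊤)
    (hM : UMax S (𝐍 U) ⊤) (hB : IsPGroup p B) (hUB : U ≤ B) (hBB : ⁅B, B⁆ ≤ U) {x : G} (hx : x ∈ S)
    (hq : ⁅⁅B, zpowers x⁆, zpowers x⁆ = ⊥) (hc : ¬ Conf p (𝐍 U) U) : x ∈ pCore p G := by
  by_contra hxO
  have hO : pCore p G ≤ S := pCoreOf_top p G ▸ pCoreOf_le_syl hS
  obtain ⟨L, g, h1, h2⟩ := Cfsg.Agent.S2834.aux (A := zpowers x ⊔ pCore p G) hS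
    (AmbFs.UMax.ncl_eq hM hS fun e => hxO (le_pCore (normal_iff_top_le.2 e) hS.pg hx)) hM
    (sup_le (zpowers_le_of_mem hx) hO) fun e => hxO (e (mem_sup_left (mem_zpowers x)))
  have h3 : zpowers x ⊔ pCore p G ≤ L := le_sup_left.trans (h1.le.trans inf_le_left)
  have h4 : pCore p G ≤ pCoreOf p L :=
    le_pCoreOf (le_sup_right.trans h3) (isPGroup_pCore p G) norm_of_normal
  rw [sup_assoc, sup_eq_right.2 h4] at h1
  obtain ⟨h, hh, hh'⟩ := SetLike.not_le_iff_exists.1 h1.not_le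
  have h5 := h2 h hh fun e => hh' ⟨hh, e⟩
  have hBO : B ≤ pCore p G := le_pCore inferInstance hB
  have hW : cj g U ≤ B := cj_le_of_le hUB (norm_of_normal (mem_top g))
  have hV : ncl (cj g U) L ≤ B := ncl_le hW norm_of_normal
  have h6 := conf_amb hp2 (L := L) (V := ncl (cj g U) L) (W := cj g U) (D := ⁅B, B⁆) (h := h)
    (norm_ncl _ _) norm_of_normal (cj_eq_self_of_normal g ⁅B, B⁆ ▸ cj_mono g hBB) (le_ncl _ _)
    (hV.trans (hBO.trans h4)) (commutator_mono hV hV) rfl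
    (inf_le_right.trans (cj_normalizer g U).le)
    (fun e => h1.not_le (le_inf le_rfl (e.trans (cj_normalizer g U).ge))) h1 (isPGroup_pCoreOf p L)
    (norm_pCoreOf p L) hh (le_antisymm (sup_le (sup_le (le_sup_left.trans h3)
      (cj_le_of_mem (le_sup_left.trans h3) hh)) (pCoreOf_le _ _)) (h5.ge.trans (sup_le (sup_le
        (sup_le (le_sup_left.trans le_sup_left) (h4.trans le_sup_right)) (by
          rw [cj_sup, cj_eq_self_of_normal h (pCore p G)]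
          exact sup_le (le_sup_right.trans le_sup_left) (h4.trans le_sup_right))) le_sup_right)))
    (hS.pg.to_le (zpowers_le_of_mem hx))
    ((commutator_mono (commutator_mono hV le_rfl) le_rfl).trans (hq.le.trans bot_le))
  have h7 := (h6.mono inf_le_right le_rfl).conj g⁻¹
  rw [cj_inv_cj, cj_inv_cj] at h7
  exact hc h7

theorem lemB (hp2 : p ≠ 2) {S Y : Subgroup G} (hS : SylIn p S ⊤) (hW1 : Y ≤ H6J.Z (J 0 S))
    (hW2 : 𝐍 (J 0 S) ≤ 𝐍 Y) (ih0 : ∀ H, S ≤ H → H ≠ ⊤ → SC H S Y)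
    (hnc : ∀ U, U ≤ Y → 𝐍 U ≠ ⊤ → ¬ Conf p (𝐍 U) U)
    (B : Subgroup G) (hnB : ⊤ ≤ 𝐍 B) (hB : IsPGroup p B) : ⊤ ≤ 𝐍 (Y ⊓ B) := by
  induction' hc : Nat.card B using Nat.strong_induction_on with m ih generalizing B
  by_contra hnot
  have : B.Normal := normal_iff_top_le.2 hnB
  have hBP : B ≤ S := hS.le_of_norm hB le_top norm_of_normal
  have hPW : S ≤ 𝐍 Y := (le_normalizer_J 0 S).trans hW2
  obtain ⟨U, hU⟩ : ∃ U, U = Y ⊓ B := ⟨_, rfl⟩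
  have hUW : U ≤ Y := hU ▸ inf_le_left
  have hUB : U ≤ B := hU ▸ inf_le_right
  rw [← hU] at hnot
  have hB0 : ncl U ⊤ = B := by
    by_contra hne
    have hlt : ncl U ⊤ < B := lt_of_le_of_ne (ncl_le hUB hnB) hne
    have := ih _ (hc ▸ card_lt_of_lt hlt) (ncl U ⊤) (norm_ncl _ _) (hB.to_le hlt.le) rfl
    have e : Y ⊓ ncl U ⊤ = U :=
      le_antisymm (hU ▸ inf_le_inf_left _ (hU ▸ hlt.le)) (le_inf hUW (le_ncl _ _))
    rw [e] at this; exact hnot this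
  have hBne : B ≠ ⊥ := by
    rintro rfl; apply hnot
    rw [le_bot_iff.1 hUB]; exact norm_of_normal
  have hB' : ⁅B, B⁆ < B := commutator_lt hB hB le_normalizer hBne
  have hn' : ⊤ ≤ 𝐍 (Y ⊓ ⁅B, B⁆) := ih _ (hc ▸ card_lt_of_lt hB') _
    (norm_commutator hnB hnB) (hB.to_le hB'.le) rfl
  have hBB : ⁅B, B⁆ ≤ Y := by
    refine le_trans ?_ (inf_le_left : Y ⊓ ⁅B, B⁆ ≤ Y)
    have : ⁅ncl U ⊤, B⁆ ≤ Y ⊓ ⁅B, B⁆ := by
      refine comm_ncl_le hnB hn' (le_top.trans hn') ?_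
      refine le_inf ?_ (commutator_mono hUB le_rfl)
      exact (commutator_mono hUW le_rfl).trans (commutator_le_left_of_norm (hBP.trans hPW))
    rwa [hB0] at this
  have hSU : S ≤ 𝐍 U := hU ▸ norm_inf hPW norm_of_normal
  have hM : UMax S (𝐍 U) ⊤ := ⟨hSU, lt_top_iff_ne_top.2 fun e => hnot e.ge, fun X h1 h2 g hg =>
    mem_normalizer_of_cj_le (cj_le_iff'.2 fun x hx => by
      have := conj_mem_of_mem_normalizer (hnB (mem_top g)) (hUB hx)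
      exact hU ▸ ⟨ih0 X h1 h2.ne x (hUW hx) g hg (hBP this), this⟩)⟩
  obtain ⟨K, hK⟩ : ∃ K, K = core (𝐍 U) ⊤ := ⟨_, rfl⟩
  have hKU : K ≤ 𝐍 U := hK ▸ core_le _ _
  have hLK : ⊤ ≤ 𝐍 K := hK ▸ norm_core _ _
  have hT := hS.inf_norm le_top hLK
  have hfr : ∀ g, ∃ k ∈ K, g * k ∈ 𝐍 (J 0 (S ⊓ K)) := fun g =>
    let ⟨k, hk, hgk⟩ := hT.frattini' hLK (mem_top g)
    ⟨k, hk, normalizer_le_normalizer_J 0 _ hgk⟩
  have hex : ∃ A ∈ mx 0 S, ¬ A ≤ K := by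
    by_contra hall
    push Not at hall
    have e : J 0 (S ⊓ K) = J 0 S :=
      J_eq_of_J_le (le_inf (J_le _ _) (J_le_iff.2 hall)) inf_le_left
    apply hnot
    intro g _
    obtain ⟨k, hk, hgk⟩ := hfr g
    rw [e] at hgk
    have h2 : g * k ∈ 𝐍 U := by
      rw [hU]; exact H6Basic.mem_normalizer_inf (hW2 hgk) (hnB (mem_top _))
    simpa using mul_mem h2 (inv_mem (hKU hk))
  have hA : ∀ A ∈ mx 0 S, B ≤ 𝐍 A → A ≤ K := fun A hA h x hx => by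
    have h1 := not_quad hp2 hS hM hB hUB (hU ▸ le_inf hBB hB'.le) (hA.1 hx) (le_bot_iff.1
      ((commutator_mono (commutator_mono le_rfl (zpowers_le_of_mem hx)) (zpowers_le_of_mem hx)).trans
        (quad_of_norm hA.2.1.1 h).le)) (hnc U hUW hM.lt.ne)
    exact hK ▸ le_core ((pCoreOf_top p G ▸ pCoreOf_le_syl hS : pCore p G ≤ S).trans hSU)
      norm_of_normal h1
  have hrep : ∀ A ∈ mx 0 S, ¬ B ≤ 𝐍 A → ∃ A' ∈ mx 0 S, A ⊓ B < A' ⊓ B ∧ A' ≤ 𝐍 A := by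
    intro A hA h
    obtain ⟨A', h1, h2, -, h3, -⟩ := H6Repl.exists_replacement (P := S) hS.pg.isNilpotent
      hA.1 hBP norm_of_normal hA (hBP.trans le_normalizer)
      (hBB.trans (hW1.trans (inf_le_right.trans (centralizer_anti (le_J hA)))))
      (fun w hw => H6Repl.eq_one_of_sq_eq_one hp2 hB (hB'.le hw)) (Or.inr (Or.inl rfl)) h
    exact ⟨A', h1, h2, h3⟩
  obtain ⟨A₁, ⟨hA₁, hA₁K⟩, hmax₁⟩ := Set.exists_max_image {A | A ∈ mx 0 S ∧ ¬ A ≤ K}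
    (fun A => Nat.card ↥(A ⊓ B)) (Set.toFinite _) (by obtain ⟨A, h1, h2⟩ := hex; exact ⟨A, h1, h2⟩)
  obtain ⟨A', h1, h2, h3⟩ := hrep A₁ hA₁ fun h => hA₁K (hA A₁ hA₁ h)
  have hA'K : A' ≤ K := by
    by_contra h
    exact absurd (hmax₁ A' ⟨h1, h⟩) (not_le.2 (card_lt_of_lt h2))
  have hX : J 0 (S ⊓ K) ≤ J 0 S := J_le_J_of_mem h1 (le_inf h1.1 hA'K) inf_le_left
  have hUX : U ≤ 𝐂 (J 0 (S ⊓ K)) :=
    hUW.trans (hW1.trans (inf_le_right.trans (centralizer_anti hX)))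
  have hBX : B ≤ 𝐂 (J 0 (S ⊓ K)) := by
    rw [← hB0, ncl_le_iff]
    intro g _
    obtain ⟨k, hk, hgk⟩ := hfr g
    have e : cj g U = cj (g * k) U := by rw [← cj_cj, cj_eq_self (hKU hk)]
    rw [e]
    exact cj_le_of_le hUX (normalizer_le_normalizer_centralizer _ hgk)
  have hA'X : A' ≤ J 0 (S ⊓ K) := le_J (mem_mx_of_le h1 (le_inf h1.1 hA'K) inf_le_left)
  exact hA₁K (hA A₁ hA₁ (le_trans (fun x hx => mem_of_mem_centralizer h1 (hBP hx) (pow_zero x)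
    (centralizer_anti hA'X (hBX hx))) h3))

end

structure Hyp (p : ℕ) [Fact p.Prime] {G : Type*} [Group G] (L S Y : Subgroup G) : Prop where
  syl : SylIn p S L
  le : Y ≤ H6J.Z (J 0 S)
  nrm : L ⊓ 𝐍 (J 0 S) ≤ 𝐍 Y
  nc : ¬ Conf p (L ⊓ 𝐍 Y) Y

section step
variable {p : ℕ} [hp : Fact p.Prime] {G : Type u} [Group G] [Finite G] {S Y : Subgroup G}

theorem Hyp.YS {L : Subgroup G} (h : Hyp p L S Y) : Y ≤ S :=
  h.le.trans (inf_le_left.trans (J_le _ _))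

theorem Hyp.comm {L : Subgroup G} (h : Hyp p L S Y) : IsMulCommutative Y :=
  H6Basic.isMulCommutative_of_le (isMulCommutative_Z _) h.le

theorem Hyp.nrm' (h : Hyp p ⊤ S Y) : 𝐍 (J 0 S) ≤ 𝐍 Y := fun _ hg => h.nrm ⟨trivial, hg⟩

theorem Hyp.SN (h : Hyp p ⊤ S Y) : S ≤ 𝐍 Y := (le_normalizer_J 0 S).trans h.nrm'

variable (h : Hyp p ⊤ S Y) (ih : ∀ (G' : Type u) [Group G'] [Finite G'] (L' S' Y' : Subgroup G'),
  Nat.card L' < Nat.card G → Hyp p L' S' Y' → SC L' S' Y')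
include h ih

omit h in
theorem ih' {H T Y' : Subgroup G} (hH : H ≠ ⊤) (h' : Hyp p H T Y') : SC H T Y' :=
  ih G H T Y' (by rw [← card_top (G := G)]; exact card_lt_of_lt (lt_top_iff_ne_top.2 hH)) h'

theorem good {H T : Subgroup G} (hH : H ≠ ⊤) (hT : SylIn p T H) (hJ : J 0 S ≤ T) :
    SC H T Y ∧ Ctl H T (𝐍 Y) ∧ T ≤ 𝐍 Y := by
  have e := J_eq_of_le h.syl hT.pg hJ
  have h' : Hyp p H T Y := ⟨hT, e ▸ h.le, e ▸ inf_le_right.trans h.nrm',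
    fun c => h.nc (c.mono (inf_le_inf_right _ le_top) le_rfl)⟩
  exact ⟨ih' ih hH h', ctl_of_sc hT h'.YS (ih' ih hH h') h.comm,
    (le_normalizer_J 0 T).trans (e ▸ h.nrm')⟩

omit ih in
theorem J_le_norm {U : Subgroup G} (hU : U ≤ Y) : J 0 S ≤ S ⊓ 𝐍 U :=
  le_inf (J_le _ _) (norm_of_centralizer (cent_symm (hU.trans (h.le.trans inf_le_right))))

theorem not_conf (U : Subgroup G) (hU : U ≤ Y) (hne : 𝐍 U ≠ ⊤) : ¬ Conf p (𝐍 U) U := fun c => by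
  obtain ⟨T, hT, hT'⟩ := exists_sylIn_ge (h.syl.pg.to_inf_left (K := 𝐍 U)) inf_le_right
  obtain ⟨-, h2, h3⟩ := good h ih hne hT ((J_le_norm h hU).trans hT')
  exact h.nc ((c.ctl hT h2 h3 le_rfl).mono (inf_le_inf_right _ le_top) hU)

theorem lemB' (hp2 : p ≠ 2) (B : Subgroup G) (hnB : ⊤ ≤ 𝐍 B) (hB : B ≤ S) : ⊤ ≤ 𝐍 (Y ⊓ B) :=
  lemB hp2 h.syl h.le h.nrm' (fun _ h1 h2 => (good h ih h2 (h.syl.mono h1 le_top) (J_le _ _)).1)
    (not_conf h ih) B hnB (h.syl.pg.to_le hB)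

theorem case_quot (hp2 : p ≠ 2) (hne : core Y ⊤ ≠ ⊥) : SC ⊤ S Y := by
  obtain ⟨U, hU⟩ : ∃ U, U = core Y ⊤ := ⟨_, rfl⟩
  rw [← hU] at hne
  have hUY : U ≤ Y := hU ▸ core_le _ _
  have hUn : U.Normal := normal_iff_top_le.2 (hU ▸ norm_core _ _)
  by_cases hYU : Y ≤ U
  · exact sc_of_norm (le_antisymm hYU hUY ▸ norm_of_normal)
  let f := QuotientGroup.mk' U
  have hfs : Function.Surjective f := QuotientGroup.mk'_surjective _
  have hf : f.ker = U := QuotientGroup.ker_mk' _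
  have hS' : SylIn p (S.map f) ⊤ := map_top_of_surjective f hfs ▸ h.syl.map f
  have hcm : ∀ A, U ≤ A → (A.map f).comap f = A := fun A hA => by
    rw [comap_map_eq, hf, sup_eq_left.2 hA]
  obtain ⟨X, hX⟩ : ∃ X, X = (H6J.Z (J 0 (S.map f))).comap f := ⟨_, rfl⟩
  have hXS : X ≤ S := by
    rw [hX]
    exact (comap_mono (inf_le_left.trans (J_le _ _))).trans (hcm S (hUY.trans h.YS)).le
  have hNX : (𝐍 (J 0 (S.map f))).comap f ≤ 𝐍 X :=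
    hX ▸ norm_comap f (normalizer_le_normalizer_Z _)
  have hSX : S ≤ 𝐍 X := (le_comap_map f S).trans ((comap_mono (le_normalizer_J 0 _)).trans hNX)
  have hUX : U ≤ Y ⊓ X := le_inf hUY (hX ▸ hf.ge.trans (ker_le_comap _ _))
  have hne' : 𝐍 (Y ⊓ X) ≠ ⊤ := fun e => by
    have h1 : Y ⊓ X ≤ U := hU ▸ le_core inf_le_left e.ge
    refine inf_centralizer_ne_bot hS'.pg ((h.syl.pg.to_le h.YS).map f) (norm_map f h.SN)
      (fun e => hYU (by rwa [Subgroup.map_eq_bot_iff, hf] at e)) (le_bot_iff.1 ?_)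
    rintro _ ⟨⟨y, hy, rfl⟩, hy'⟩
    exact (QuotientGroup.eq_one_iff y).2 (h1 ⟨hy, hX ▸ Z_le_Z_J_zero _
      ⟨mem_map_of_mem f (h.YS hy), hy'⟩⟩)
  have hH : 𝐍 X ≠ ⊤ := fun e => hne' (top_le_iff.1 (lemB' h ih hp2 X e.ge hXS))
  have h1 : 𝐍 X ≤ 𝐍 (Y ⊓ X) := fun g hg => by
    rw [inf_comm]
    exact (good h ih hH (h.syl.mono hSX le_top) (J_le _ _)).1.norm hXS ⟨hg, hg⟩
  have h2 : SC ⊤ (S.map f) ((Y ⊓ X).map f) := by
    refine ih _ ⊤ _ _ ?_ ⟨hS', map_le_iff_le_comap.2 (hX ▸ inf_le_right), ?_, fun c => ?_⟩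
    · rw [card_top, card_eq_card_quotient_mul_card_subgroup U]
      exact lt_mul_right Nat.card_pos (one_lt_card_iff_ne_bot U |>.2 hne)
    · rw [top_inf_eq, ← map_comap_eq_self_of_surjective hfs (𝐍 (J 0 (S.map f)))]
      exact norm_map f (hNX.trans h1)
    · refine not_conf h ih _ inf_le_left hne' (Conf.of_map f
        ((h.syl.pg.to_le (hf.le.trans (hUY.trans h.YS))).to_inf_right) le_normalizer (c.mono ?_ le_rfl))
      rw [top_inf_eq, ← map_comap_eq_self_of_surjective hfs (𝐍 ((Y ⊓ X).map f))]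
      refine map_mono ?_
      nth_rewrite 2 [← hcm _ hUX]
      exact norm_comap f le_rfl
  have h3 : SC ⊤ S (Y ⊓ X) := fun x hx g _ hg => by
    rw [← hcm _ hUX, mem_comap, map_mul, map_mul, map_inv]
    refine h2 _ (mem_map_of_mem f hx) _ trivial ?_
    rw [← map_inv, ← map_mul, ← map_mul]
    exact mem_map_of_mem f hg
  exact sc_of_ctl (ctl_of_comm h.syl (inf_le_right.trans hXS) h3
    (H6Basic.isMulCommutative_of_le h.comm inf_le_left)) h.YS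
    (good h ih hne' (h.syl.mono (norm_inf h.SN hSX) le_top) (J_le _ _)).1

variable (hU : ∀ U, U ≤ Y → U ≠ ⊥ → 𝐍 U ≠ ⊤)
include hU

theorem real (hp2 : p ≠ 2) {H T X : Subgroup G} (hTS : T ≤ S) (hT : SylIn p T H)
    (hP : 𝐍 (J 0 T) ≤ 𝐍 (Y ⊓ H6J.Z (J 0 T))) (hXT : X ≤ T) (hHX : H ≤ 𝐍 X) (hne : Y ⊓ X ≠ ⊥)
    {g : G} (hg : g ∈ H) : ∃ m ∈ 𝐍 Y, ∀ a ∈ X, m * a * m⁻¹ = g * a * g⁻¹ := by
  have hH : H ≠ ⊤ := by
    rintro rfl
    exact hU _ inf_le_left hne (top_le_iff.1 (lemB' h ih hp2 X hHX (hXT.trans hTS)))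
  have h1 : Y ⊓ H6J.Z (J 0 T) ⊓ X ≠ ⊥ := fun e => inf_centralizer_ne_bot hT.pg
    (hT.pg.to_le (inf_le_right.trans hXT)) (norm_inf (hTS.trans h.SN) (hT.le.trans hHX)) hne
    (le_bot_iff.1 (e ▸ fun x hx => ⟨⟨hx.1.1, Z_le_Z_J_zero T ⟨hXT hx.1.2, hx.2⟩⟩, hx.1.2⟩))
  have h2 : SC H T (Y ⊓ H6J.Z (J 0 T)) := ih' ih hH ⟨hT, inf_le_right, inf_le_right.trans hP,
    fun c => not_conf h ih _ inf_le_left (hU _ inf_le_left fun e => h1 (by rw [e, bot_inf_eq]))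
      (c.mono inf_le_right le_rfl)⟩
  have h3 : H ≤ 𝐍 (Y ⊓ H6J.Z (J 0 T) ⊓ X) := fun g hg => by
    rw [inf_comm]
    exact h2.norm hXT ⟨hg, hHX hg⟩
  have h4 : Y ⊓ H6J.Z (J 0 T) ⊓ X ≤ Y := inf_le_left.trans inf_le_left
  obtain ⟨R, hR, hR'⟩ := exists_sylIn_ge (h.syl.pg.to_inf_left (K := 𝐍 (Y ⊓ H6J.Z (J 0 T) ⊓ X)))
    inf_le_right
  have h5 : X ≤ R := (le_inf (hXT.trans hTS) ((hXT.trans hT.le).trans h3)).trans hR'
  obtain ⟨m, hm, e⟩ := (good h ih (hU _ h4 h1) hR ((J_le_norm h h4).trans hR')).2.1 X h5 g (h3 hg)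
    ((cj_eq_self (hHX hg)).le.trans h5)
  exact ⟨m, hm.2, e⟩

theorem tower (hp2 : p ≠ 2) {d : ℕ} (IH : ∀ (E : Subgroup G) g, d < Nat.card E → E ≤ S →
    cj g E ≤ S → ∃ m ∈ 𝐍 Y, ∀ a ∈ E, m * a * m⁻¹ = g * a * g⁻¹) (R : Subgroup G) (hR : R ≤ S)
    (hd : d < Nat.card R) : 𝐍 (J 0 R) ≤ 𝐍 (Y ⊓ H6J.Z (J 0 R)) := by
  induction' hk : Nat.card S - Nat.card R using Nat.strong_induction_on with k ihk generalizing R
  rcases hR.eq_or_lt with rfl | hlt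
  · exact norm_inf h.nrm' (normalizer_le_normalizer_Z _)
  obtain ⟨T, hT, hT'⟩ := exists_sylIn_ge (L := 𝐍 (J 0 R)) (h.syl.pg.to_inf_left (K := 𝐍 R))
    (inf_le_right.trans (normalizer_le_normalizer_J 0 R))
  have hlt1 : R < T := (lt_inf_normalizer h.syl.pg hlt).trans_le hT'
  obtain ⟨y, -, hy⟩ := h.syl.exists_conj_le hT.pg le_top
  obtain ⟨m, hm, e⟩ := IH R y hd hR ((cj_mono y hlt1.le).trans hy)
  have hZR : H6J.Z (J 0 R) ≤ R := inf_le_left.trans (J_le _ _)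
  have e1 : cj y (Y ⊓ H6J.Z (J 0 R)) = Y ⊓ cj y (H6J.Z (J 0 R)) := by
    ext a
    rw [mem_inf, mem_cj', mem_cj']
    constructor
    · rintro ⟨b, hb, rfl⟩
      exact ⟨e b (hZR hb.2) ▸ conj_mem_of_mem_normalizer hm hb.1, b, hb.2, rfl⟩
    · rintro ⟨ha, b, hb, rfl⟩
      refine ⟨b, ⟨?_, hb⟩, rfl⟩
      rw [← e b (hZR hb)] at ha
      exact (mem_normalizer_iff.1 hm b).2 ha
  rw [← cj_le_cj (g := y), cj_normalizer y (Y ⊓ _), e1]
  by_cases hb : Y ⊓ cj y (H6J.Z (J 0 R)) = ⊥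
  · rw [hb]; exact norm_of_normal
  have hc := card_lt_of_lt hlt1
  have hc' : Nat.card T ≤ Nat.card S := h.syl.card_le hT.pg le_top
  intro g hg
  have hn : cj y (𝐍 (J 0 R)) ≤ 𝐍 (cj y (H6J.Z (J 0 R))) := by
    rw [← cj_normalizer]; exact cj_mono y (normalizer_le_normalizer_Z _)
  obtain ⟨m', hm', e'⟩ := real h ih hU hp2 hy (hT.conj y) (ihk _ (by rw [← hk, card_cj]; omega) _ hy
    (by rw [card_cj]; omega) rfl) (cj_mono y (hZR.trans hlt1.le)) hn hb hg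
  exact mem_normalizer_of_cj_le (cj_le_iff'.2 fun x hx =>
    ⟨e' x hx.2 ▸ conj_mem_of_mem_normalizer hm' hx.1, conj_mem_of_mem_normalizer (hn hg) hx.2⟩)

theorem case_bot (hp2 : p ≠ 2) : SC ⊤ S Y := by
  by_cases hY : Y = ⊥
  · exact sc_of_norm (hY ▸ norm_of_normal)
  have hS := h.syl
  refine Ctl.sc (M := 𝐍 Y) ?_ h.YS inf_le_right
  let R : Subgroup G → G → Prop := fun D g => ∃ m ∈ 𝐍 Y, ∀ a ∈ D, m * a * m⁻¹ = g * a * g⁻¹
  suffices ∀ D g, D ≤ S → cj g D ≤ S → R D g from fun A hA g _ hg =>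
    let ⟨m, hm, k⟩ := this A g hA hg; ⟨m, mem_inf.2 ⟨mem_top m, hm⟩, k⟩
  refine Alperin.alperin hS.toSylowTop R ?_ ?_ ?_
  · rintro D E g hE - - ⟨m, hm, k⟩
    exact ⟨m, hm, fun a ha => k a (hE ha)⟩
  · rintro D g h - - - ⟨m, hm, k⟩ ⟨m', hm', k'⟩
    refine ⟨m' * m, mul_mem hm' hm, fun a ha => ?_⟩
    calc m' * m * a * (m' * m)⁻¹ = m' * (m * a * m⁻¹) * m'⁻¹ := by group
      _ = h * (g * a * g⁻¹) * h⁻¹ := by rw [k a ha, k' _ (conj_mem_cj.2 ha)]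
      _ = _ := by group
  intro D hD hT0 IH n hn
  change D ≤ S at hD
  replace hT0 : SylIn p (S ⊓ 𝐍 D) (𝐍 D) := sylIn_iff.2 hT0
  replace IH : ∀ (E : Subgroup G) g, Nat.card D < Nat.card E → E ≤ S → cj g E ≤ S → R E g := IH
  rcases hD.eq_or_lt with rfl | hlt
  · exact ⟨n, h.nrm' (normalizer_le_normalizer_J 0 _ hn), fun _ _ => rfl⟩
  by_cases hc : S ⊓ 𝐂 D ≤ D
  swap
  · have h1 := hT0.inf_norm (centralizer_le_normalizer _) (norm_centralizer le_rfl)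
    obtain ⟨c, hc1, hc2⟩ := h1.frattini (norm_centralizer le_rfl) hn
    have h2 : c⁻¹ * n ∈ 𝐍 (D ⊔ S ⊓ 𝐍 D ⊓ 𝐂 D) := H6Basic.mem_normalizer_sup
      (mul_mem (inv_mem (centralizer_le_normalizer _ hc1)) hn) hc2
    have h3 : D ⊔ S ⊓ 𝐍 D ⊓ 𝐂 D ≤ S := sup_le hD (inf_le_left.trans inf_le_left)
    obtain ⟨m, hm, k⟩ := IH _ (c⁻¹ * n) (card_lt_of_lt (lt_of_le_of_ne le_sup_left fun e => hc
      ((le_inf (le_inf inf_le_left (inf_le_right.trans (centralizer_le_normalizer _)))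
        inf_le_right).trans (le_sup_right.trans e.ge)))) h3 ((cj_eq_self h2).le.trans h3)
    refine ⟨m, hm, fun a ha => (k a (mem_sup_left ha)).trans ?_⟩
    have := mem_centralizer_sub.1 hc1 _ (conj_mem_of_mem_normalizer hn ha)
    calc c⁻¹ * n * a * (c⁻¹ * n)⁻¹ = c⁻¹ * (n * a * n⁻¹ * c) := by group
      _ = _ := by rw [this]; group
  have hlt1 := lt_inf_normalizer hS.pg hlt
  exact real h ih hU hp2 inf_le_left hT0 (tower h ih hU hp2 IH _ inf_le_left (card_lt_of_lt hlt1))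
    hlt1.le le_rfl (fun e => inf_centralizer_ne_bot hS.pg (hS.pg.to_le h.YS) h.SN hY
      (le_bot_iff.1 (e ▸ fun x hx => ⟨hx.1, hc ⟨h.YS hx.1, centralizer_anti hD hx.2⟩⟩))) hn

end step

theorem Hyp.sc {p : ℕ} [hp : Fact p.Prime] (hp2 : p ≠ 2) {G : Type u} [Group G] [Finite G]
    {L S Y : Subgroup G} (h : Hyp p L S Y) : SC L S Y := by
  induction' hn : Nat.card L using Nat.strong_induction_on with n ih generalizing G
  have hYL := h.YS.trans h.syl.le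
  have hJ : J 0 S ≤ L := (J_le _ _).trans h.syl.le
  have h' : Hyp p ⊤ (S.subgroupOf L) (Y.subgroupOf L) := by
    refine ⟨?_, ?_, ?_, fun c => h.nc (Conf.of_subgroupOf inf_le_left hYL ?_)⟩
    · rw [← subgroupOf_self L]
      exact (sylIn_subgroupOf_iff h.syl.le le_rfl).2 h.syl
    · rw [J_subgroupOf h.syl.le, Z_subgroupOf hJ]
      exact comap_mono h.le
    · rw [J_subgroupOf h.syl.le, normalizer_subgroupOf hJ, normalizer_subgroupOf hYL]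
      exact fun g hg => h.nrm ⟨g.2, hg.2⟩
    · rw [normalizer_subgroupOf hYL] at c
      exact c.mono (fun g hg => ⟨g.2, hg.2⟩) le_rfl
  have ih1 : ∀ (G' : Type u) [Group G'] [Finite G'] (L' S' Y' : Subgroup G'),
      Nat.card L' < Nat.card L → Hyp p L' S' Y' → SC L' S' Y' :=
    fun G' _ _ L' S' Y' a b => ih _ (hn ▸ a) b rfl
  have h2 : SC ⊤ (S.subgroupOf L) (Y.subgroupOf L) := by
    by_cases e : core (Y.subgroupOf L) ⊤ = ⊥
    · exact case_bot h' ih1 (fun U h1 h2 h3 => h2 (le_bot_iff.1 (e ▸ le_core h1 h3.ge))) hp2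
    · exact case_quot h' ih1 hp2 e
  exact fun x hx g hg hs => h2 ⟨x, hYL hx⟩ hx ⟨g, hg⟩ trivial hs

theorem conf_of_not_ctl {p : ℕ} [hp : Fact p.Prime] (hp2 : p ≠ 2) {G : Type*} [Group G] [Finite G]
    {S Y : Subgroup G} (hS : SylIn p S ⊤) (hY : Y ≤ H6J.Z (J 0 S)) (hn : 𝐍 (J 0 S) ≤ 𝐍 Y)
    (h : ¬ Ctl ⊤ S (𝐍 Y)) : Conf p (𝐍 Y) Y := by
  by_contra hc
  have h' : Hyp p ⊤ S Y := ⟨hS, hY, inf_le_right.trans hn, fun c => hc (c.mono inf_le_right le_rfl)⟩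
  exact h (ctl_of_comm hS h'.YS (h'.sc hp2) h'.comm)

/-- no inversion in `N(Z(J(S)))` implies that it controls strong fusion -/
theorem ctl_of_noinv {p : ℕ} [hp : Fact p.Prime] (hp2 : p ≠ 2) {G : Type*} [Group G] [Finite G]
    {S : Subgroup G} (hS : SylIn p S ⊤)
    (h : ∀ x ∈ S, x ≠ 1 → ∀ g ∈ 𝐍 (H6J.Z (J 0 S)), g * x * g⁻¹ ≠ x⁻¹) :
    Ctl ⊤ S (𝐍 (H6J.Z (J 0 S))) := by
  by_contra hc
  obtain ⟨g, hg, c, hc, h1, h2⟩ := (conf_of_not_ctl hp2 hS le_rfl (normalizer_le_normalizer_Z _)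
    hc).eig le_rfl (isMulCommutative_Z _) (-1)
  refine h c (J_le _ _ hc.1) (fun e => hp.out.one_lt.ne (by rw [← h1, e, orderOf_one])) g hg ?_
  rw [h2, eq_inv_iff_mul_eq_one, ← pow_succ, ← orderOf_dvd_iff_pow_eq_one, h1,
    ← ZMod.natCast_eq_zero_iff]
  simp

/-- no inversion in `N(Z(J(S)))` implies that no nontrivial `p`-element is real -/
theorem no_real {p : ℕ} [hp : Fact p.Prime] (hp2 : p ≠ 2) {G : Type*} [Group G] [Finite G]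
    {S : Subgroup G} (hS : SylIn p S ⊤)
    (h : ∀ x ∈ S, x ≠ 1 → ∀ g ∈ 𝐍 (H6J.Z (J 0 S)), g * x * g⁻¹ ≠ x⁻¹) {x g : G} {k : ℕ}
    (hx : x ^ p ^ k = 1) (e : g * x * g⁻¹ = x⁻¹) : x = 1 := by
  obtain ⟨y, -, hy⟩ := hS.exists_conj_le (isPGroup_zpowers hx) le_top
  have h1 : y * x * y⁻¹ ∈ S := hy (conj_mem_cj.2 (mem_zpowers x))
  have e' : y * g * y⁻¹ * (y * x * y⁻¹) * (y * g * y⁻¹)⁻¹ = (y * x * y⁻¹)⁻¹ := by
    calc _ = y * (g * x * g⁻¹) * y⁻¹ := by group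
      _ = _ := by rw [e]; group
  obtain ⟨m, hm, e2⟩ := (ctl_of_noinv hp2 hS h).elem h1 (mem_top (y * g * y⁻¹)) (e' ▸ inv_mem h1)
  by_contra hne
  exact h _ h1 (by simpa using hne) m hm.2 (e2.trans e')

end CA.ZJC
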