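import Cfsg.Agent.Lib.Loc.AmbS3
import Cfsg.Agent.Lib.Loc.H6Off
import Cfsg.Prelude.Def_JComponents

/-!
`J(T)`-components: elementary properties.
-/

set_option autoImplicit false

namespace CA.ZN1

open Subgroup Cfsg CA.Amb CA.AmbSyl CA.AmbCore CA.AmbRes CA.AmbChar CA.AmbSpe CA.AmbRed CA.AmbIso CA.AmbS3
open CA.H6J (mx J IsAb)
open scoped commutatorElement

variable {G : Type*} [Group G]

theorem sylTwo_iff [Finite G] {T L : Subgroup G} : IsSylowTwoIn T L ↔ SylIn 2 T L := by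
  rw [sylIn_iff, IsSylowTwoIn, ← Nat.not_even_iff_odd, even_iff_two_dvd]

theorem three_cases {D K : Subgroup G} (hn : K ≤ 𝐍 D) (h : D.relIndex K = 3) {k y : G} (hk : k ∈ K)
    (hkD : k ∉ D) (hy : y ∈ K) : y ∈ D ∨ y * k⁻¹ ∈ D ∨ y * k ∈ D := by
  have := normal_subgroupOf_of_norm hn
  have : Fact (Nat.Prime 3) := ⟨Nat.prime_three⟩
  let π := QuotientGroup.mk' (D.subgroupOf K)
  have hπ : ∀ x : K, π x = 1 ↔ (x : G) ∈ D := fun x => QuotientGroup.eq_one_iff x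
  have h3 : π ⟨k, hk⟩ ^ 3 = 1 := by rw [← h]; exact pow_card_eq_one'
  obtain ⟨n, hn⟩ : π ⟨y, hy⟩ ∈ zpowers (π ⟨k, hk⟩) := by
    rw [zpowers_eq_top_of_prime_card (p := 3) h (mt (hπ _).1 hkD)]; exact mem_top _
  have e : π ⟨k, hk⟩ ^ (n % 3) = π ⟨y, hy⟩ := by
    rw [← hn]; exact (zpow_eq_zpow_emod' n h3).symm
  rcases (by omega : n % 3 = 0 ∨ n % 3 = 1 ∨ n % 3 = 2) with l | l | l <;> rw [l] at e
  · exact Or.inl ((hπ ⟨y, hy⟩).1 (by rw [← e, zpow_zero]))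
  · exact Or.inr (Or.inl ((hπ (⟨y, hy⟩ * ⟨k, hk⟩⁻¹)).1 (by rw [map_mul, map_inv, ← e]; group)))
  · exact Or.inr (Or.inr ((hπ (⟨y, hy⟩ * ⟨k, hk⟩)).1 (by rw [map_mul, ← e, ← h3]; group)))

theorem idx_le {L B : Subgroup G} [Finite B] {v : G} (h : ∀ g ∈ L, ⁅g, v⁆ ∈ B) :
    (centralizer {v}).relIndex L ≤ Nat.card B := by
  refine Nat.card_le_card_of_injective (fun q : L ⧸ (centralizer {v}).subgroupOf L =>
    (⟨⁅(q.out : G), v⁆, h _ q.out.2⟩ : B)) fun a b e => ?_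
  rw [← a.out_eq, ← b.out_eq]
  refine QuotientGroup.eq.2 (mem_subgroupOf.2 (mem_cent_iff.2 ?_))
  have := mul_right_cancel (Subtype.ext_iff.1 e : (a.out : G) * v * (a.out : G)⁻¹ * v⁻¹ =
    (b.out : G) * v * (b.out : G)⁻¹ * v⁻¹)
  push_cast
  calc _ = (a.out : G)⁻¹ * ((b.out : G) * v * (b.out : G)⁻¹) * a.out := by group
    _ = v := by rw [← this]; group

theorem card_two_of_lt [Finite G] {U W : Subgroup G} (hW : Nat.card W = 4) (h : U < W) (h0 : U ≠ ⊥) :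
    Nat.card U = 2 := by
  have h3 := card_dvd_of_le h.le
  have h4 := card_lt_of_lt h
  have h5 := mt card_eq_one.1 h0
  rw [hW] at h3 h4
  have h6 : 0 < Nat.card U := Nat.card_pos
  generalize Nat.card U = n at *
  interval_cases n <;> simp_all

/-- a `2`-group acting nontrivially on a group of order four -/
theorem idx_two [Finite G] {W T : Subgroup G} (hW : Nat.card W = 4) (hT : IsPGroup 2 T) (hn : T ≤ 𝐍 W)
    (h : ¬ T ≤ 𝐂 W) : (𝐂 W).relIndex T = 2 ∧ Nat.card ↥(W ⊓ 𝐂 T) = 2 ∧ ⁅W, T⁆ = W ⊓ 𝐂 T := by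
  have hp : IsPGroup 2 W := IsPGroup.of_card (n := 2) hW
  have W0 : W ≠ ⊥ := by rintro rfl; simp at hW
  have h0 : ¬ W ≤ 𝐂 T := fun l => h (cent_symm l)
  have h1 := card_two_of_lt hW (inf_lt_left.2 h0) (inf_centralizer_ne_bot hT hp hn W0)
  have h2 := card_two_of_lt hW (commutator_lt hT hp hn W0) fun l => h (commutator_eq_bot_iff'.1 l)
  obtain ⟨w, w1, w2⟩ := SetLike.not_le_iff_exists.1 h0
  have h3 := idx_le (L := T) (v := w) (B := ⁅W, T⁆) fun g hg => by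
    rw [commutator_comm]; exact commutator_mem_commutator hg w1
  have h4 : (W ⊓ 𝐂 T).relIndex W = 2 := by
    have := card_mul_relIndex (inf_le_left : W ⊓ 𝐂 T ≤ W)
    rw [h1, hW] at this
    omega
  have h5 : T ⊓ centralizer {w} ≤ 𝐂 W := by
    conv_rhs => rw [← PGBasic.sup_zpowers_eq_of_relIndex_prime Nat.prime_two h4 inf_le_left w1 fun l => w2 l.2]
    rw [Amb.centralizer_sup, centralizer_zpowers]
    exact inf_le_inf_right _ (cent_symm inf_le_right)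
  have h6 := relIndex_le_of_le_left h5 (relIndex_ne_zero _ T)
  rw [inf_relIndex_left] at h6
  have h7 := mt relIndex_eq_one.1 h
  have h8 := relIndex_ne_zero (𝐂 W) T
  exact ⟨by omega, h1, eq_of_le_of_card_ge (le_inf (commutator_le_left_of_norm hn)
    (cent_symm ((norm_comm_right W T).trans (cent_of_two h2)))) (by omega)⟩

section w4
variable [Finite G] {W K X A : Subgroup G}

omit [Finite G] in
theorem le_of_not_mem {D M : Subgroup G} (h : D.relIndex K = 3) {k : G} (hk : k ∈ K) (hkD : k ∉ D)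
    (h1 : K ⊓ D ≤ M) (h2 : k ∈ M) : K ≤ M := by
  rw [← PGBasic.sup_zpowers_eq_of_relIndex_prime Nat.prime_three (N := K ⊓ D) (by rwa [inf_relIndex_left])
    inf_le_left hk (fun l => hkD l.2)]
  exact sup_le h1 (zpowers_le.2 h2)

omit [Finite G] in
theorem inf_cj_eq_bot (i3 : (𝐂 W).relIndex K = 3) (hK : K ≤ 𝐍 W) (hf : W ⊓ 𝐂 K = ⊥) {a k : G} (ha : a ∈ 𝐍 K)
    (hk : k ∈ K) (h : ⁅k, a⁆ ∉ 𝐂 W) {Y : Subgroup G} (h1 : Y ≤ W) (h2 : a ∈ 𝐂 Y) : Y ⊓ cj k Y = ⊥ := by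
  refine eq_bot_iff.2 (hf ▸ le_inf (inf_le_left.trans h1) (cent_symm (le_of_not_mem i3 (k := ⁅k, a⁆) ?_ h
    (inf_le_right.trans (centralizer_anti (inf_le_left.trans h1))) ?_)))
  · rw [commutatorElement_def, mul_assoc, mul_assoc, ← mul_assoc a]
    exact mul_mem hk (conj_mem_of_mem_normalizer ha (inv_mem hk))
  · refine mul_mem (centralizer_anti inf_le_right ?_) (inv_mem (centralizer_anti inf_le_left h2))
    rw [← cj_centralizer]; exact conj_mem_cj.2 h2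

omit [Finite G] in
theorem exists_not_cent (h : ¬ ⁅K, A⁆ ≤ 𝐂 W) : ∃ k ∈ K, ∃ a ∈ A, ⁅k, a⁆ ∉ 𝐂 W := by
  by_contra! l; exact h (commutator_le.2 l)

theorem norm_inf_cent (hK : K ≤ 𝐍 W) (h : ⁅K, A⁆ ≤ 𝐂 W) : K ≤ 𝐍 (W ⊓ 𝐂 A : Subgroup G) := fun k hk =>
  mem_normalizer_of_le_cj (by
    rw [cj_inf, cj_eq_self (hK hk), cj_centralizer]
    refine le_inf inf_le_left (cent_symm (cj_le_iff'.2 fun a ha => ?_))
    rw [show k * a * k⁻¹ = ⁅k, a⁆ * a by simp only [commutatorElement_def]; group]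
    exact mul_mem (centralizer_anti inf_le_left (h (commutator_mem_commutator hk ha)))
      (cent_symm inf_le_right ha))

variable (hW : IsElementaryAbelian 2 W) (i3 : (𝐂 W).relIndex K = 3) (hK : K ≤ 𝐍 W) (hf : W ⊓ 𝐂 K = ⊥)
  (hWX : W ≤ X) (hXW : X ≤ 𝐍 W) (hXK : X ≤ 𝐍 K)
include hW i3 hK hf hWX hXW hXK

theorem card_fix_le (hA : A ∈ mx 2 X) (hn : ¬ ⁅K, A⁆ ≤ 𝐂 W) : Nat.card ↥(W ⊓ 𝐂 A) ≤ 2 := by
  obtain ⟨k, hk, a, ha, h⟩ := exists_not_cent hn
  have hC := norm_centralizer hK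
  have kD : k ∉ 𝐂 W := fun l => h (by
    rw [commutatorElement_def, mul_assoc, mul_assoc, ← mul_assoc a]
    exact mul_mem l (conj_mem_of_mem_normalizer (norm_centralizer hXW (hA.1 ha)) (inv_mem l)))
  let A₀ := A ⊓ H6Basic.commInto K (𝐂 W)
  have m0 : ∀ b ∈ A, b ∈ A₀ ↔ b * k * b⁻¹ * k⁻¹ ∈ 𝐂 W := fun b hb => ⟨fun l => l.2.2 k hk, fun l => by
    refine ⟨hb, norm_centralizer hXW (hA.1 hb), fun y hy => ?_⟩
    have := le_of_not_mem (M := H6Basic.commInto (zpowers b) (𝐂 W)) i3 hk kD (H6Basic.le_commInto_iff.2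
      ⟨inf_le_left.trans hC, (commutator_mono inf_le_right le_rfl).trans (commutator_le_left_of_norm
        (zpowers_le.2 (norm_centralizer hXW (hA.1 hb))))⟩) (zpowers_le.1 (H6Basic.le_commInto_iff.2
      ⟨zpowers_le.2 (hC hk), by
        rw [commutator_comm]
        refine H6Basic.commutator_zpowers_le (norm_centralizer hXW (hA.1 hb)) fun y hy => ?_
        rw [← commutatorElement_inv, inv_mem_iff]
        obtain ⟨n, rfl⟩ := hy
        exact PGBasic.comm_zpow_left_mem (hC hk) (by rw [← commutatorElement_inv, inv_mem_iff]; exact l) n⟩))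
    rw [← commutatorElement_inv, inv_mem_iff]
    exact (this hy).2 b (mem_zpowers b)⟩
  have m1 : ∀ b ∈ A, b ∉ A₀ → b * k * b⁻¹ * k ∈ 𝐂 W := fun b hb l => by
    rcases three_cases hC i3 hk kD (conj_mem_of_mem_normalizer (hXK (hA.1 hb)) hk) with e | e | e
    · refine absurd ?_ kD
      have := inv_conj_mem_of_mem_normalizer (norm_centralizer hXW (hA.1 hb)) e
      rwa [show b⁻¹ * (b * k * b⁻¹) * b = k by group] at this
    · exact absurd ((m0 b hb).2 e) l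
    · exact e
  have a0 : a ∉ A₀ := fun l => h (by rw [← commutatorElement_inv, inv_mem_iff]; exact l.2.2 k hk)
  have i2 : A₀.relIndex A = 2 := relIndex_eq_two_iff_exists_notMem_and'.2 ⟨a, ha, a0, fun b hb => by
    by_cases l : b ∈ A₀
    · exact Or.inr l
    refine Or.inl ((m0 _ (mul_mem ha hb)).2 ?_)
    have e1 := conj_mem_of_mem_normalizer (norm_centralizer hXW (hA.1 ha)) (m1 b hb l)
    have e2 := inv_mem (conj_mem_of_mem_normalizer (hC hk) (m1 a ha a0))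
    convert mul_mem e1 e2 using 1
    group⟩
  have h1 := (H6Off.best_iff.1 (H6Off.best_of_mx (H6J.isAb_iff_isElementaryAbelian.2 hW) hWX hA)).1 A₀ inf_le_left
  rw [H6Off.fm_def, H6Off.fm_def, ← card_mul_relIndex (inf_le_left : A₀ ≤ A), i2, mul_assoc] at h1
  replace h1 := Nat.le_of_mul_le_mul_left h1 Nat.card_pos
  have h2 : W ⊓ 𝐂 A ≤ W ⊓ 𝐂 A₀ := inf_le_inf_left _ (centralizer_anti inf_le_left)
  have h3 := H6Basic.card_mul_card_le h2 (cj_le_of_le h2 (norm_inf_cent hK (A := A₀) (by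
    rw [commutator_comm]; exact (H6Basic.le_commInto_iff.1 inf_le_right).2) hk))
  rw [inf_cj_eq_bot i3 hK hf (hXK (hA.1 ha)) hk h inf_le_left (cent_symm inf_le_right ha), card_bot, mul_one,
    card_cj] at h3
  exact Nat.le_of_mul_le_mul_right (h3.trans h1) Nat.card_pos

theorem w4 (hX : IsPGroup 2 X) (hc : ⁅W, K⁆ = W) (hA : A ∈ mx 2 X) (hn : ¬ ⁅K, A⁆ ≤ 𝐂 W) : Nat.card W = 4 := by
  have nK : ¬ K ≤ 𝐂 W := fun l => by rw [relIndex_eq_one.2 l] at i3; omega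
  have W0 : W ≠ ⊥ := by rintro rfl; exact nK (by rw [Amb.centralizer_bot]; exact le_top)
  have hW' := H6J.isAb_iff_isElementaryAbelian.2 hW
  have hAW := hA.1.trans hXW
  have b1 := commutator_le_left_of_norm hAW
  obtain ⟨hB, hq, -⟩ := H6Off.repl_mx hW' hWX hAW hA
  have hU : W ⊓ 𝐂 A ≤ ⁅W, A⁆ := by
    have h1 := card_fix_le hW i3 hK hf hWX hXW hXK hA hn
    have h2 := inf_centralizer_ne_bot hA.2.1.isPGroup ((ea_pg hW).to_le b1) (norm_comm_right W A)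
      fun l => hn ((commutator_mono le_rfl (commutator_eq_bot_iff'.1 l)).trans
        (commutator_le_right_of_norm (norm_centralizer hK)))
    have h3 := PGBasic.le_card_of_ne_bot ((ea_pg hW).to_le (inf_le_left.trans b1)) h2
    exact (eq_of_le_of_card_ge (inf_le_inf_right _ b1) (h1.trans h3)).ge.trans inf_le_left
  have hn' : ¬ ⁅K, ⁅W, A⁆ ⊔ A ⊓ 𝐂 ⁅W, A⁆⁆ ≤ 𝐂 W := fun l => by
    have h1 := norm_inf_cent hK l
    rw [H6Off.inf_cent_of_mx hW' hWX hB, inf_comm, sup_inf_of_norm (norm_of_centralizer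
      (cent_symm inf_le_right)) b1, sup_eq_left.2 ((le_inf inf_le_right ((inf_le_left.trans inf_le_left).trans
        hA.2.1.le_centralizer)).trans hU)] at h1
    obtain ⟨k, hk, a, ha, h⟩ := exists_not_cent hn
    have h2 : A ≤ H6Basic.commInto W ⁅W, A⁆ :=
      H6Basic.le_commInto_iff.2 ⟨norm_comm_right _ _, (commutator_comm _ _).le⟩
    have h3 := le_of_not_mem (M := H6Basic.commInto W ⁅W, A⁆) i3 (k := ⁅k, a⁆)
      (commutator_le_left_of_norm (hA.1.trans hXK) (commutator_mem_commutator hk ha)) h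
      (H6Basic.le_commInto_iff.2 ⟨inf_le_left.trans h1, (comm_eq_bot_of_le inf_le_right).le.trans bot_le⟩)
      (commutator_le_right_of_norm (H6Off.norm_commInto hK h1) (commutator_mem_commutator hk (h2 ha)))
    exact W0 (eq_bot_of_le_commutator hA.2.1.isPGroup (ea_pg hW) hAW
      (hc.ge.trans ((commutator_comm _ _).le.trans (H6Basic.le_commInto_iff.1 h3).2)))
  have h1 := card_fix_le hW i3 hK hf hWX hXW hXK hB hn'
  obtain ⟨k, hk, a, ha, h⟩ := exists_not_cent hn'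
  generalize ⁅W, A⁆ ⊔ A ⊓ 𝐂 ⁅W, A⁆ = B at *
  have h2 := H6Off.card_cent_mul_card_comm hW.1 (hXW (hB.1 ha))
  have h3 : Nat.card ↥⁅W, zpowers a⁆ ≤ 2 := (card_le_of_le ((commutator_mono le_rfl (zpowers_le.2 ha)).trans
    (le_inf (commutator_le_left_of_norm (hB.1.trans hXW)) (cent_symm (commutator_eq_bot_iff'.1 hq))))).trans h1
  have h4 := H6Basic.card_mul_card_le (inf_le_left : W ⊓ 𝐂 (zpowers a) ≤ W) (cj_le_of_le
    (inf_le_left : W ⊓ 𝐂 (zpowers a) ≤ W) (hK hk))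
  rw [inf_cj_eq_bot i3 hK hf (hXK (hB.1 ha)) hk h inf_le_left (cent_symm inf_le_right (mem_zpowers a)),
    card_bot, mul_one, card_cj, ← h2] at h4
  have h5 := Nat.le_of_mul_le_mul_left h4 Nat.card_pos
  have h6 : Nat.card W ≤ 4 := by rw [← h2]; exact Nat.mul_le_mul (h5.trans h3) h3
  obtain ⟨n, hn⟩ := IsPGroup.iff_card.1 (ea_pg hW)
  have h7 : Nat.card W ≠ 2 := fun l => nK (hK.trans (cent_of_two l))
  rw [hn] at h6 h7 ⊢
  rcases n with _ | _ | _ | n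
  · exact absurd (card_eq_one.1 hn) W0
  · simp at h7
  · rfl
  · have : 0 < 2 ^ n := by positivity
    omega

end w4

/-- pre-components: conditions on `K` alone -/
structure PC (K : Subgroup G) : Prop where
  res : pResidualOf 2 K = K
  idx : (pCoreOf 2 K).relIndex K = 3

/-- `J`-components -/
structure JC (J₀ K : Subgroup G) : Prop extends PC K where
  comm : ⁅K, J₀⁆ = K
  syl : ∀ S, SylIn 2 S (K ⊔ J₀) → J₀ ≤ S → J 2 S = J₀
  card : Nat.card (wOf K) = 4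

theorem wOf_def (K : Subgroup G) : wOf K = ⁅OZ 2 (pCoreOf 2 K), K⁆ := rfl

theorem norm_W (K : Subgroup G) : 𝐍 K ≤ 𝐍 (wOf K) :=
  norm_commutator ((normalizer_le_pCoreOf 2 K).trans (normalizer_le_OZ 2 _)) le_rfl

theorem W_le_OZ (K : Subgroup G) : wOf K ≤ OZ 2 (pCoreOf 2 K) :=
  commutator_le_left_of_norm (norm_OZ (norm_pCoreOf 2 K))

theorem W_le_O (K : Subgroup G) : wOf K ≤ pCoreOf 2 K := (W_le_OZ K).trans (OZ_le 2 _)

theorem W_le (K : Subgroup G) : wOf K ≤ K := (W_le_O K).trans (pCoreOf_le 2 K)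

theorem ea_W (K : Subgroup G) : IsElementaryAbelian 2 (wOf K) := ea_of_le (ea_OZ 2 _) (W_le_OZ K)

theorem O_le_cent (K : Subgroup G) : pCoreOf 2 K ≤ 𝐂 (wOf K) :=
  (le_cent_OZ 2 _).trans (centralizer_anti (W_le_OZ K))

theorem map_W {G' : Type*} [Group G'] {f : G →* G'} (hf : Function.Injective f) (K : Subgroup G) :
    (wOf K).map f = wOf (K.map f) := by
  rw [wOf_def, map_commutator, map_OZ hf, map_pCoreOf_of_injective hf, wOf_def]

theorem cj_W (g : G) (K : Subgroup G) : cj g (wOf K) = wOf (cj g K) := map_W (conj_injective g) K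

theorem isJ_iff [Finite G] {T K : Subgroup G} : IsJComponent T K ↔ JC (J 2 T) K := by
  have e : closure {g : G | g ∈ K ∧ Odd (orderOf g)} = pResidualOf 2 K := by
    simp only [pResidualOf_eq, Nat.coprime_two_right]
  simp only [IsJComponent, H6J.thompsonSubgroupOf_eq, sylTwo_iff, e]
  exact ⟨fun ⟨a, b, c, d, e, _⟩ => ⟨⟨a, c⟩, b, d, e⟩,
    fun h => ⟨h.res, h.comm, h.idx, h.syl, h.card, fun w hw => mul_self_of_ea (ea_W K) hw⟩⟩

theorem pc_map_iff {G' : Type*} [Group G'] {f : G →* G'} (hf : Function.Injective f) {K : Subgroup G} :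
    PC (K.map f) ↔ PC K := by
  constructor <;> rintro ⟨a, b⟩
  · rw [← map_res_of_injective hf] at a
    rw [← map_pCoreOf_of_injective hf, relIndex_map_map_of_injective _ _ hf] at b
    exact ⟨map_injective hf a, b⟩
  · exact ⟨by rw [← map_res_of_injective hf, a],
      by rwa [← map_pCoreOf_of_injective hf, relIndex_map_map_of_injective _ _ hf]⟩

theorem jc_map_iff {G' : Type*} [Group G'] {f : G →* G'} (hf : Function.Injective f) {J₀ K : Subgroup G} :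
    JC (J₀.map f) (K.map f) ↔ JC J₀ K := by
  constructor <;> rintro ⟨a, b, c, d⟩
  · refine ⟨(pc_map_iff hf).1 a, map_injective hf (by rw [map_commutator, b]), fun S h1 h2 => map_injective hf ?_,
      by rwa [← map_W hf, card_map_of_injective hf] at d⟩
    rw [← H6J.J_map hf]
    exact c _ (by rw [← Subgroup.map_sup]; exact h1.map_injective hf) (map_mono h2)
  · refine ⟨(pc_map_iff hf).2 a, by rw [← map_commutator, b], fun S h1 h2 => ?_,
      by rwa [← map_W hf, card_map_of_injective hf]⟩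
    rw [← Subgroup.map_sup] at h1
    obtain ⟨S, rfl⟩ : ∃ S₀ : Subgroup G, S₀.map f = S :=
      ⟨S.comap f, map_comap_eq_self (h1.le.trans (map_le_range _ _))⟩
    rw [H6J.J_map hf, c S ((sylIn_map_injective_iff hf).1 h1) ((map_le_map_iff_of_injective hf).1 h2)]

theorem JC.conj {J₀ K : Subgroup G} (h : JC J₀ K) (g : G) : JC (cj g J₀) (cj g K) :=
  (jc_map_iff (conj_injective g)).2 h

theorem JC.conj_norm {J₀ K : Subgroup G} (h : JC J₀ K) {g : G} (hg : g ∈ 𝐍 J₀) : JC J₀ (cj g K) :=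
  cj_eq_self hg ▸ h.conj g

variable [Finite G] {J₀ K : Subgroup G}

namespace PC
variable (h : PC K)
include h

theorem sylO : SylIn 2 (pCoreOf 2 K) K :=
  sylIn_of_not_dvd (pCoreOf_le 2 K) (isPGroup_pCoreOf 2 K) (by rw [h.idx]; decide)

omit [Finite G] in
theorem not_pg : ¬ IsPGroup 2 K := fun l => by
  have := h.idx
  rw [pCoreOf_eq_self l, relIndex_self] at this
  omega

omit [Finite G] in
theorem not_le {Q : Subgroup G} (hQ : IsPGroup 2 Q) : ¬ K ≤ Q := fun l => h.not_pg (hQ.to_le l)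

theorem le_O {Q : Subgroup G} (hQ : IsPGroup 2 Q) (hQK : Q ≤ K) : Q ≤ pCoreOf 2 K :=
  h.sylO.le_of_norm' hQ hQK (hQK.trans (norm_pCoreOf 2 K))

theorem comm_comm {V : Subgroup G} (hV : IsPGroup 2 V) (hn : K ≤ 𝐍 V) : ⁅⁅V, K⁆, K⁆ = ⁅V, K⁆ :=
  comm_comm_of_res_eq hV hn h.res

theorem comm_W : ⁅wOf K, K⁆ = wOf K := h.comm_comm (isPGroup_OZ 2 _) (norm_OZ (norm_pCoreOf 2 K))

theorem fpf : wOf K ⊓ 𝐂 K = ⊥ := by
  obtain ⟨U, h1, h2, h3, -, h5⟩ := exists_norm_ker (ea_le_cent (ea_OZ 2 (pCoreOf 2 K))) (isPGroup_OZ 2 _)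
    (norm_OZ (norm_pCoreOf 2 K)) h.sylO
  rw [inf_eq_left.2 (OZ_le_cent 2 _)] at h3
  refine eq_bot_iff.2 (h2 ▸ inf_le_inf_right _ ?_)
  rw [wOf_def, ← h3]
  have := (le_inf (le_inf (norm_OZ (norm_pCoreOf 2 K)) le_normalizer) (norm_pCoreOf 2 K)).trans h5
  exact comm_sup_le le_normalizer (norm_of_centralizer (inf_le_left.trans ((ea_le_cent (ea_OZ 2 _)).trans
    (centralizer_anti (h1.trans inf_le_left))))) (commutator_le_left_of_norm this)
    ((comm_eq_bot_of_le inf_le_right).le.trans bot_le)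

theorem eq_bot {U : Subgroup G} (h1 : U ≤ wOf K) (h2 : K ≤ 𝐂 U) : U = ⊥ :=
  eq_bot_iff.2 (h.fpf ▸ le_inf h1 (cent_symm h2))

theorem idxW (h0 : wOf K ≠ ⊥) : (𝐂 (wOf K)).relIndex K = 3 := by
  rcases PGBasic.eq_or_eq_of_relIndex_prime Nat.prime_three h.idx (K := K ⊓ 𝐂 (wOf K))
    (le_inf (pCoreOf_le 2 K) (O_le_cent K)) inf_le_left with l | l
  · rw [← inf_relIndex_left, l, h.idx]
  · exact absurd (h.eq_bot le_rfl (l.ge.trans inf_le_right)) h0

/-- a normal elementary abelian subgroup centralized by `O₂(K)` and normalizing `K` -/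
theorem comm_le_W {V : Subgroup G} (hV : IsElementaryAbelian 2 V) (h1 : K ≤ 𝐍 V) (h2 : V ≤ 𝐍 K)
    (h3 : pCoreOf 2 K ≤ 𝐂 V) : ⁅V, K⁆ ≤ wOf K := by
  rw [← h.comm_comm (ea_pg hV) h1]
  have := commutator_le_left_of_norm h1
  exact commutator_mono (le_OZ' (ea_of_le hV this) (h.le_O ((ea_pg hV).to_le this)
    (commutator_le_right_of_norm h2)) (this.trans (cent_symm h3))) le_rfl

theorem eq_of_le_sup {K' Q : Subgroup G} (hQ : IsPGroup 2 Q) (hn : Q ≤ 𝐍 K') (l : K ≤ K' ⊔ Q) : K ≤ K' :=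
  h.res.ge.trans (res_le_of_le_sup hQ hn (l.trans (sup_comm _ _).le))

end PC

namespace JC
variable (h : JC J₀ K)
include h

omit [Finite G] in
theorem norm : J₀ ≤ 𝐍 K := h.comm ▸ norm_comm_right K J₀

omit [Finite G] in
theorem W_ne : wOf K ≠ ⊥ := fun l => by have := h.card; rw [l, card_bot] at this; omega

omit [Finite G] in
theorem normW : K ⊔ J₀ ≤ 𝐍 (wOf K) := (sup_le le_normalizer h.norm).trans (norm_W K)

theorem not_cent : ¬ K ≤ 𝐂 (wOf K) := fun l => h.W_ne (h.eq_bot le_rfl l)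

theorem not_cent' : ¬ J₀ ≤ 𝐂 (wOf K) := fun l => h.not_cent (h.comm.ge.trans ((commutator_mono le_rfl l).trans
  (commutator_le_right_of_norm (norm_centralizer (le_normalizer.trans (norm_W K))))))

theorem irr {U : Subgroup G} (h1 : U ≤ wOf K) (h2 : K ≤ 𝐍 U) : U = ⊥ ∨ U = wOf K := by
  have h3 := card_dvd_of_le h1
  rw [h.card] at h3
  have h4 := Nat.le_of_dvd (by decide) h3
  have h5 : 0 < Nat.card U := Nat.card_pos
  obtain e | e | e : Nat.card U = 1 ∨ Nat.card U = 2 ∨ Nat.card U = 4 := by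
    generalize Nat.card U = n at *
    interval_cases n <;> simp_all
  · exact Or.inl (card_eq_one.1 e)
  · exact Or.inl (h.eq_bot h1 (h2.trans (cent_of_two e)))
  · exact Or.inr (eq_of_le_of_card_ge h1 (by rw [h.card, e]))

/-- `2`-groups normalized by `K` and normalizing `W_K` centralize `W_K` -/
theorem le_cent {Q : Subgroup G} (hQ : IsPGroup 2 Q) (h1 : K ≤ 𝐍 Q) (h2 : Q ≤ 𝐍 (wOf K)) : Q ≤ 𝐂 (wOf K) :=
  cent_symm (((h.irr inf_le_left (norm_inf (le_normalizer.trans (norm_W K)) (norm_centralizer h1))).resolve_left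
    (inf_centralizer_ne_bot hQ (ea_pg (ea_W K)) h2 h.W_ne)).ge.trans inf_le_right)

theorem pg : IsPGroup 2 J₀ → pResidualOf 2 (K ⊔ J₀) = K := fun hJ => by
  rw [sup_comm, res_sup_eq hJ h.norm, h.res]

omit [Finite G] in
/-- KS 12.2.1 -/
theorem le_norm (hJ : IsPGroup 2 J₀) {Q : Subgroup G} (h1 : K ≤ 𝐍 Q) (h2 : Q ≤ 𝐍 J₀) : Q ≤ 𝐍 K := by
  have e : ncl J₀ K = J₀ ⊔ K := by rw [ncl_eq_sup, commutator_comm, h.comm]
  have : Q ≤ 𝐍 (J₀ ⊔ K : Subgroup G) := by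
    rw [← e]
    refine le_normalizer_iff_cj.2 fun q hq => ?_
    rw [cj_le_iff, ncl_le_iff]
    intro k hk
    rw [← cj_le_iff, cj_cj, show q * k = k * (k⁻¹ * q * k) by group, ← cj_cj,
      cj_eq_self (h2 (inv_conj_mem_of_mem_normalizer (h1 hk) hq))]
    exact cj_le_ncl _ hk
  have l := norm_res_of_norm (p := 2) this
  rwa [res_sup_eq hJ h.norm, h.res] at l

theorem inf_cent_le (hJ : IsPGroup 2 J₀) : (K ⊔ J₀) ⊓ 𝐂 (wOf K) ≤ pCoreOf 2 (K ⊔ J₀) := by
  refine le_pCoreOf inf_le_left (isPGroup_of_res_le (isPGroup_pCoreOf 2 K) ?_)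
    (norm_inf le_normalizer (norm_centralizer h.normW))
  rcases PGBasic.eq_or_eq_of_relIndex_prime Nat.prime_three h.idx (K := K ⊓ 𝐂 (wOf K))
    (le_inf (pCoreOf_le 2 K) (O_le_cent K)) inf_le_left with l | l
  · exact (le_inf ((res_mono inf_le_left).trans (h.pg hJ).le) ((res_le _ _).trans inf_le_right)).trans l.le
  · exact absurd (l.ge.trans inf_le_right) h.not_cent

/-- KS 12.2.7 -/
theorem Z0 (hJ : IsPGroup 2 J₀) : Nat.card ↥(OZ 2 J₀ ⊓ wOf K) = 2 ∧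
    OZ 2 J₀ ⊓ 𝐂 (K ⊔ J₀ : Subgroup G) ⊔ OZ 2 J₀ ⊓ wOf K = OZ 2 J₀ := by
  obtain ⟨T, hT, h1⟩ := exists_sylIn_ge hJ (le_sup_right : J₀ ≤ K ⊔ J₀)
  have e := h.syl T hT h1
  have hQ := pCoreOf_le_syl hT
  have nQ := norm_pCoreOf 2 (K ⊔ J₀)
  have wQ : wOf K ≤ pCoreOf 2 (K ⊔ J₀) :=
    (W_le_O K).trans (pCoreOf_le_of_norm le_sup_left (sup_le le_normalizer h.norm))
  have cQ := h.le_cent (isPGroup_pCoreOf 2 _) (le_sup_left.trans nQ) ((pCoreOf_le 2 _).trans h.normW)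
  have cQ' := h.inf_cent_le hJ
  have nW := h.normW
  have res := h.pg hJ
  have ncl' : ncl J₀ K = K ⊔ J₀ := by rw [ncl_eq_sup, commutator_comm, h.comm, sup_comm]
  have cW := h.not_cent'
  have irr : ∀ {U}, U ≤ wOf K → K ≤ 𝐍 U → U = ⊥ ∨ U = wOf K := h.irr
  have hW := h.card
  have ea := H6J.isAb_iff_isElementaryAbelian.2 (ea_W K)
  generalize pCoreOf 2 (K ⊔ J₀) = Q at *
  generalize wOf K = W at *
  have inZ : ∀ {Y : Subgroup G}, Y ≤ T → Y ≤ 𝐂 J₀ → (∀ y ∈ Y, y ^ 2 = 1) → Y ≤ OZ 2 J₀ := fun a b c => by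
    obtain ⟨A, hA⟩ := H6J.mx_nonempty 2 T
    exact le_OZ (fun y hy => e ▸ H6J.le_J hA (H6J.mem_mx_of_mem_centralizer_J hA (a hy) (e ▸ b hy) (c y hy))) b c
  have st : ∀ A ∈ mx 2 T, W ⊔ Q ⊓ A ∈ mx 2 T := fun A hA => by
    refine H6J.mem_mx_of_card_le hA (sup_le (wQ.trans hQ) (inf_le_left.trans hQ))
      (ea.sup (hA.2.1.of_le inf_le_right) (cent_symm (inf_le_left.trans cQ))) ?_
    by_cases l : A ≤ 𝐂 W
    · exact card_le_of_le (le_sup_of_le_right (le_inf ((le_inf (hA.1.trans hT.le) l).trans cQ') le_rfl))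
    obtain ⟨a1, a2, -⟩ := idx_two hW hA.2.1.isPGroup ((hA.1.trans hT.le).trans nW) l
    have a3 := card_sup_mul_card_inf (H := W) (N := Q ⊓ A) (norm_of_centralizer (cent_symm (inf_le_left.trans cQ)))
    have a4 := card_inf_mul_relIndex (𝐂 W) A
    have a5 : Nat.card ↥(𝐂 W ⊓ A) ≤ Nat.card ↥(Q ⊓ A) := card_le_of_le
      (le_inf ((le_inf (inf_le_right.trans (hA.1.trans hT.le)) inf_le_left).trans cQ') inf_le_right)
    rw [← inf_assoc, inf_eq_left.2 wQ, ← H6Off.inf_cent_of_mx ea (wQ.trans hQ) hA, a2, hW] at a3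
    rw [a1] at a4
    omega
  have st' : ∀ A ∈ mx 2 T, W ⊔ Q ⊓ A ∈ mx 2 Q := fun A hA =>
    H6J.mem_mx_of_le (st A hA) (sup_le wQ inf_le_left) hQ
  have n1 : K ⊔ J₀ ≤ 𝐍 (OZ 2 (J 2 Q)) := norm_OZ (nQ.trans (H6J.normalizer_le_normalizer_J _ _))
  have c1 : ⁅OZ 2 (J 2 Q), K ⊔ J₀⁆ ≤ W := by
    rw [← ncl', commutator_comm]
    refine comm_ncl_le (le_sup_left.trans n1) (le_sup_left.trans nW) (le_sup_right.trans nW) ?_
    refine (H6Basic.le_commInto_iff.1 (e.ge.trans (H6J.J_le_iff.2 fun A hA => H6Basic.le_commInto_iff.2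
      ⟨(hA.1.trans hT.le).trans nW, ?_⟩))).2
    rw [commutator_comm]
    refine (commutator_mono (fun z hz => H6J.mem_mx_of_mem_centralizer_J (st' A hA)
      (H6J.J_le _ _ (mem_OZ.1 hz).1) (mem_OZ.1 hz).2.1 (mem_OZ.1 hz).2.2) le_rfl).trans ?_
    exact comm_sup_le le_normalizer (inf_le_left.trans (norm_of_centralizer cQ)) (commutator_le_left_of_norm
      ((hA.1.trans hT.le).trans nW)) ((comm_eq_bot_of_le (inf_le_right.trans hA.2.1.le_centralizer)).le.trans bot_le)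
  obtain ⟨A, hA⟩ := H6J.mx_nonempty 2 T
  have JQ : J 2 Q ≤ J₀ := e ▸ H6J.J_le_J_of_mem (st A hA) (sup_le wQ inf_le_left) hQ
  have y1 : OZ 2 J₀ ⊔ W ≤ OZ 2 (J 2 Q) := sup_le (le_OZ' (ea_OZ 2 _) (fun z hz => H6J.le_J (st' A hA)
      (H6J.mem_mx_of_mem_centralizer_J (st A hA) (h1 (mem_OZ.1 hz).1) (e ▸ (mem_OZ.1 hz).2.1) (mem_OZ.1 hz).2.2))
      ((OZ_le_cent 2 _).trans (centralizer_anti JQ)))
    (le_OZ (le_sup_left.trans (H6J.le_J (st' A hA))) ((cent_symm cQ).trans (centralizer_anti (H6J.J_le _ _))) ea.2)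
  have y2 : ⁅OZ 2 J₀ ⊔ W, K ⊔ J₀⁆ ≤ W := (commutator_mono y1 le_rfl).trans c1
  have y3 := norm_of_comm_le y2 le_sup_right
  have y4 : Q ≤ 𝐂 (OZ 2 J₀ ⊔ W : Subgroup G) := by
    refine commutator_eq_bot_iff'.1 ((irr ((commutator_mono le_rfl (hQ.trans hT.le)).trans y2)
      (le_sup_left.trans (norm_commutator y3 nQ))).resolve_right fun l => cW (cent_symm (l.ge.trans ?_)))
    rw [commutator_comm, comm_sup_cent (norm_of_le ((le_sup_left.trans y1).trans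
      ((OZ_le _ _).trans (H6J.J_le _ _)))) (cent_symm cQ)]
    exact (commutator_le_right_of_norm (norm_OZ (hQ.trans (e ▸ H6J.le_normalizer_J 2 T)))).trans (OZ_le_cent _ _)
  obtain ⟨a1, -, -⟩ := idx_two hW hT.pg (hT.le.trans nW) fun l => cW (h1.trans l)
  have t1 : T ≤ Q ⊔ J₀ := by
    rcases PGBasic.eq_or_eq_of_relIndex_prime Nat.prime_two (N := T ⊓ 𝐂 W) (M := T) (by rwa [inf_relIndex_left])
      (K := T ⊓ 𝐂 W ⊔ J₀) le_sup_left (sup_le inf_le_left h1) with l | l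
    · exact absurd ((le_sup_right.trans l.le).trans inf_le_right) cW
    · exact l.ge.trans (sup_le_sup_right ((inf_le_inf_right _ hT.le).trans cQ') _)
  have ea' := ea_of_le (ea_OZ 2 _) y1
  have y5 := inf_cent_syl_eq (ea_le_cent ea') (ea_pg ea') y3 hT
  have y6 : OZ 2 J₀ ⊔ W ≤ T := sup_le ((OZ_le _ _).trans h1) (wQ.trans hQ)
  have y7 : (OZ 2 J₀ ⊔ W) ⊓ 𝐂 J₀ ≤ OZ 2 J₀ := inZ (inf_le_left.trans y6) inf_le_right fun y hy => ea'.2 y hy.1
  refine ⟨?_, le_antisymm (sup_le inf_le_left inf_le_left) ((le_inf le_sup_left (cent_symm (t1.trans (sup_le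
    (y4.trans (centralizer_anti le_sup_left)) (le_cent_OZ _ _))))).trans (y5.le.trans (sup_le
    (le_sup_of_le_right (le_inf ?_ ?_)) (le_sup_of_le_left (le_inf ?_ inf_le_right)))))⟩
  · rw [inf_comm, le_antisymm (inf_le_inf_left W (OZ_le_cent 2 J₀))
      (le_inf inf_le_left ((inf_le_inf_right _ le_sup_right).trans y7))]
    exact (idx_two hW hJ (le_sup_right.trans nW) cW).2.1
  · exact (inf_le_inf (commutator_le_left_of_norm ((res_le _ _).trans y3)) (centralizer_anti h1)).trans y7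
  · exact inf_le_left.trans ((commutator_mono le_rfl (res_le _ _)).trans y2)
  · exact (inf_le_inf_left _ (centralizer_anti le_sup_right)).trans y7

end JC

end CA.ZN1
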