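import Cfsg.Agent.Lib.Loc.ZN1
import Cfsg.Agent.Lib.Loc.H6KS2

/-!
The structure of solvable groups of characteristic two with `2`-closed centralizer of `⟨Ω₁(Z(T))^L⟩`.
-/

set_option autoImplicit false

namespace CA.ZN2

open Subgroup Cfsg CA.Amb CA.AmbSyl CA.AmbCore CA.AmbRes CA.AmbChar CA.AmbSpe CA.AmbRed CA.AmbIso CA.AmbS3 CA.ZN1
open CA.H6J (mx J IsAb)
open CA.H6PSolv (PSolv)
open CA.H6KS (St Tv EE Gen)
open CA.H6KS2 (Mod)
open scoped commutatorElement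

universe u

variable {G : Type*} [Group G] [Finite G] {T L K K' : Subgroup G}

theorem mx_of_syl (hT : SylIn 2 T L) {A : Subgroup G} (hA : A ∈ mx 2 T) : A ∈ mx 2 L := by
  obtain ⟨B, hB⟩ := H6J.mx_nonempty 2 L
  obtain ⟨g, hg, h⟩ := hT.exists_conj_le hB.2.1.isPGroup hB.1
  exact H6J.mem_mx_of_mem_mx_le (H6J.cj_mem_mx (le_normalizer hg) hB) h hT.le hA

theorem J_eq (hT : SylIn 2 T L) {S : Subgroup G} (hS : IsPGroup 2 S) (h1 : S ≤ L) (h2 : J 2 T ≤ S) :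
    J 2 S = J 2 T := by
  obtain ⟨g, hg, h⟩ := hT.exists_le_conj hS h1
  obtain ⟨A, hA⟩ := H6J.mx_nonempty 2 T
  have h3 := H6J.mem_mx_of_card_le (H6J.cj_mem_mx_iff.2 hA) (((H6J.le_J hA).trans h2).trans h) hA.2.1
    (card_cj g A).le
  refine (eq_of_le_of_card_ge (H6J.J_le_iff.2 fun B hB => H6J.le_J (H6J.mem_mx_of_le (mx_of_syl hT hB)
    ((H6J.le_J hB).trans h2) h1)) ?_).symm
  rw [← card_cj g (J 2 T)]
  exact card_le_of_le ((H6J.J_le_J_of_mem h3 ((H6J.le_J hA).trans h2) h).trans (H6J.J_cj g 2 T).le)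

theorem pgJ (hT : IsPGroup 2 T) : IsPGroup 2 (J 2 T) := hT.to_le (H6J.J_le 2 T)

structure HL (T L : Subgroup G) : Prop where
  syl : SylIn 2 T L
  char : CharP 2 L
  solv : PSolv 2 L
  cn : L ⊓ 𝐂 (ZL 2 L) ≤ 𝐍 T

/-- the output of the structure theory -/
structure Str (T L : Subgroup G) : Prop where
  norm : ∀ K, JC (J 2 T) K → K ≤ L → J 2 L ≤ 𝐍 K
  cent : ∀ K K', JC (J 2 T) K → K ≤ L → JC (J 2 T) K' → K' ≤ L → K ≠ K' → K' ≤ 𝐂 (wOf K)
  gen : ∀ M, J 2 T ≤ M → pCoreOf 2 L ≤ M → (∀ K, JC (J 2 T) K → K ≤ L → K ≤ M) → J 2 L ≤ M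
  V_le : ZL 2 L ≤ J 2 T

namespace HL
variable (h : HL T L)
include h

theorem red : Red 2 (ZL 2 L) L := red_ZL h.char

theorem Q_le : (pCoreOf 2 L) ≤ T := pCoreOf_le_syl h.syl

theorem Q_cent : (pCoreOf 2 L) ≤ 𝐂 (ZL 2 L) := h.red.red.pCoreOf_le

theorem V_le_Q : (ZL 2 L) ≤ (pCoreOf 2 L) := h.red.le_pCoreOf

theorem J_le : J 2 T ≤ J 2 L := H6Off.J_syl_le h.syl

theorem Q_norm : (pCoreOf 2 L) ≤ 𝐍 (J 2 T) := h.Q_le.trans (H6J.le_normalizer_J 2 T)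

theorem le_Q {R : Subgroup G} (hR : IsPGroup 2 R) (h1 : R ≤ L) (h2 : R ≤ 𝐂 (ZL 2 L)) : R ≤ (pCoreOf 2 L) := by
  have h3 := pCoreOf_eq_of_syl (sylIn_inf_cent h.syl h.red.norm)
    (norm_inf h.cn (norm_of_le inf_le_right))
  exact ((le_inf (h.syl.le_of_norm' hR h1 ((le_inf h1 h2).trans h.cn)) h2).trans h3.ge).trans
    (pCoreOf_le_of_norm inf_le_left (norm_inf le_normalizer (norm_centralizer h.red.norm)))

theorem mem_Q {c : G} (h1 : c ∈ L) (h2 : c ∈ 𝐂 (ZL 2 L)) (h3 : c ^ 2 ∈ (pCoreOf 2 L)) : c ∈ (pCoreOf 2 L) := by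
  obtain ⟨a, b, ha, ⟨n, rfl⟩, e, ⟨k, hk⟩, hb⟩ := exists_p_part (p := 2) h1
  rw [e]
  refine mul_mem (zpowers_le.1 (h.le_Q (isPGroup_zpowers hk) (zpowers_le.2 (zpowers_le.2 h1 ha))
    (zpowers_le.2 (zpowers_le.2 h2 ha)))) (mem_of_pow_mem_of_coprime hb ?_)
  rw [← zpow_natCast, ← zpow_mul, mul_comm, zpow_mul, zpow_natCast]
  exact zpow_mem h3 n

theorem comm_C : ⁅L ⊓ 𝐂 (ZL 2 L), J 2 L ⊔ (pCoreOf 2 L)⁆ ≤ (pCoreOf 2 L) := by
  have n := norm_inf le_normalizer (norm_centralizer h.red.norm)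
  have h1 : ⁅T, L ⊓ 𝐂 (ZL 2 L)⁆ ≤ (pCoreOf 2 L) := h.le_Q (h.syl.pg.to_le (commutator_le_left_of_norm h.cn))
    (comm_le_of_le h.syl.le inf_le_left) ((commutator_le_right_of_norm (h.syl.le.trans n)).trans inf_le_right)
  rw [commutator_comm]
  refine (commutator_mono (sup_le ?_ (h.Q_le.trans (le_ncl T L))) le_rfl).trans
    (comm_ncl_le n (norm_pCoreOf 2 L) (h.syl.le.trans (norm_pCoreOf 2 L)) h1)
  rw [H6Off.J_eq_ncl h.syl]
  exact ncl_mono (H6J.J_le 2 T) le_rfl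

theorem frattini {g : G} (hg : g ∈ L) : ∃ c ∈ J 2 L, ∃ x ∈ L ⊓ 𝐍 (J 2 T), g = c * x :=
  H6NPC.frattini_J h.syl (H6J.J_le 2 L) (H6J.le_normalizer_J 2 L) h.J_le hg

theorem J_le_of_norm {M : Subgroup G} (h1 : J 2 T ≤ M) (h2 : J 2 L ≤ 𝐍 M) : J 2 L ≤ M := by
  rw [H6Off.J_eq_ncl h.syl, ncl_le_iff]
  intro g hg
  obtain ⟨c, hc, x, hx, rfl⟩ := h.frattini hg
  rw [← cj_cj, cj_eq_self hx.2]
  exact cj_le_of_le h1 (h2 hc)

theorem K_le (k : JC (J 2 T) K) (l : K ≤ L) : K ≤ J 2 L :=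
  k.comm.ge.trans ((commutator_mono l h.J_le).trans (commutator_le_right_of_norm (H6J.le_normalizer_J 2 L)))

theorem Q_norm_K (k : JC (J 2 T) K) (l : K ≤ L) : (pCoreOf 2 L) ≤ 𝐍 K :=
  k.le_norm (pgJ h.syl.pg) (l.trans (norm_pCoreOf 2 L)) h.Q_norm

theorem not_cent (k : JC (J 2 T) K) (l : K ≤ L) : ¬ K ≤ 𝐂 (ZL 2 L) := fun c => k.not_le (isPGroup_pCoreOf 2 L)
  (k.comm.ge.trans ((commutator_mono (le_inf l c) (h.J_le.trans le_sup_left)).trans h.comm_C))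

theorem le_of_le_sup (k : JC (J 2 T) K) (k' : JC (J 2 T) K') (l' : K' ≤ L) (c : K ≤ K' ⊔ L ⊓ 𝐂 (ZL 2 L)) : K ≤ K' := by
  refine k.eq_of_le_sup (isPGroup_pCoreOf 2 L) (h.Q_norm_K k' l') (k.comm.ge.trans
    ((commutator_mono c le_rfl).trans (comm_sup_le (norm_of_le le_sup_left) (norm_of_comm_le (M := (pCoreOf 2 L)) ?_ le_sup_right)
      (k'.comm.le.trans le_sup_left) (le_sup_of_le_right ?_))))
  · rw [commutator_comm]
    exact (commutator_mono le_rfl (sup_le_sup_right (h.K_le k' l') _)).trans h.comm_C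
  · exact (commutator_mono le_rfl (h.J_le.trans le_sup_left)).trans h.comm_C

theorem O_le (k : JC (J 2 T) K) (l : K ≤ L) (n : J 2 L ≤ 𝐍 K) : pCoreOf 2 K ≤ (pCoreOf 2 L) :=
  (pCoreOf_le_of_norm (h.K_le k l) n).trans (pCoreOf_le_of_norm (H6J.J_le 2 L) (H6J.le_normalizer_J 2 L))

theorem W_eq (k : JC (J 2 T) K) (l : K ≤ L) (n : J 2 L ≤ 𝐍 K) : ⁅(ZL 2 L), K⁆ = wOf K :=
  (k.irr (k.comm_le_W h.red.ea (l.trans h.red.norm) (h.V_le_Q.trans (h.Q_norm_K k l))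
    ((h.O_le k l n).trans h.Q_cent)) (norm_comm_right _ _)).resolve_left
    fun e => h.not_cent k l (commutator_eq_bot_iff'.1 e)

/-- components from normal subgroups of order three modulo `O₂(L)` -/
theorem jc_of {D A : Subgroup G} (h1 : (pCoreOf 2 L) ≤ D) (h2 : D ≤ L) (i3 : (pCoreOf 2 L).relIndex D = 3) (n : J 2 T ≤ 𝐍 D)
    (hA : A ∈ mx 2 T) (h3 : ¬ ⁅D, A⁆ ≤ 𝐂 (ZL 2 L)) : JC (J 2 T) (pResidualOf 2 D) ∧ (pCoreOf 2 L) ⊔ pResidualOf 2 D = D := by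
  have hQ := isPGroup_pCoreOf 2 L
  have nQ := h2.trans (norm_pCoreOf 2 L)
  have s1 : SylIn 2 (pCoreOf 2 L) D := sylIn_of_not_dvd h1 hQ (by rw [i3]; decide)
  have e1 := syl_sup_res s1
  have nK := norm_res 2 D
  have nK' := norm_res_of_norm (p := 2) n
  have rK := res_res 2 D
  have rK' : ∀ M, (pCoreOf 2 L) ≤ 𝐍 M → D ≤ (pCoreOf 2 L) ⊔ M → pResidualOf 2 D ≤ M := fun M a b => res_le_of_le_sup hQ a b
  have KD := res_le 2 D
  generalize pResidualOf 2 D = K at *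
  have eO : pCoreOf 2 K = K ⊓ (pCoreOf 2 L) := by
    rw [pCoreOf_eq_inf_of_norm KD nK, pCoreOf_eq_of_syl s1 nQ]
  have pc : PC K := ⟨rK, by
    rw [eO, inf_relIndex_left, ← relIndex_sup_of_norm (KD.trans nQ), sup_comm, e1, i3]⟩
  have aJ := H6J.le_J hA
  have aL := hA.1.trans h.syl.le
  have h4 : ¬ ⁅K, A⁆ ≤ 𝐂 (ZL 2 L) := fun l => h3 (by
    rw [← e1]
    exact comm_sup_le (norm_of_le h.Q_cent) ((KD.trans h2).trans (norm_centralizer h.red.norm))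
      ((commutator_le_left_of_norm (aL.trans (norm_pCoreOf 2 L))).trans h.Q_cent) l)
  have c1 := commutator_le_left_of_norm nK'
  have wV : ⁅(ZL 2 L), K⁆ ≤ wOf K := pc.comm_le_W h.red.ea ((KD.trans h2).trans h.red.norm)
    ((h.V_le_Q.trans h1).trans nK) (eO.le.trans (inf_le_right.trans h.Q_cent))
  have nV : ¬ K ≤ 𝐂 (ZL 2 L) := fun l => h4 ((commutator_le_left_of_norm (aJ.trans nK')).trans l)
  have w0 : wOf K ≠ ⊥ := fun l => nV (commutator_eq_bot_iff'.1 (le_bot_iff.1 (wV.trans l.le)))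
  refine ⟨⟨pc, le_antisymm c1 (rK' _ (norm_commutator (h1.trans nK) h.Q_norm) ?_), fun S hS l => J_eq h.syl hS.pg
    (hS.le.trans (sup_le (KD.trans h2) ((H6J.J_le 2 T).trans h.syl.le))) l, ?_⟩, e1⟩
  · exact ((PGBasic.eq_or_eq_of_relIndex_prime Nat.prime_three i3 le_sup_left (sup_le h1 (c1.trans KD))).resolve_left
      fun l => h4 (((commutator_mono le_rfl aJ).trans (le_sup_right.trans l.le)).trans h.Q_cent)).ge
  · have nX : (pCoreOf 2 L) ⊔ J 2 T ≤ 𝐍 K := sup_le (h1.trans nK) nK'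
    have XT : (pCoreOf 2 L) ⊔ J 2 T ≤ T := sup_le h.Q_le (H6J.J_le 2 T)
    refine w4 (ea_W K) (pc.idxW w0) (le_normalizer.trans (norm_W K)) pc.fpf
      (le_sup_of_le_left ((W_le_O K).trans (eO.le.trans inf_le_right))) (nX.trans (norm_W K)) nX
      (h.syl.pg.to_le XT) pc.comm_W (H6J.mem_mx_of_le hA (le_sup_of_le_right aJ) XT) fun l => h4 ?_
    rcases PGBasic.eq_or_eq_of_relIndex_prime Nat.prime_three pc.idx (K := K ⊓ 𝐂 (wOf K))
      (le_inf (pCoreOf_le 2 K) (O_le_cent K)) inf_le_left with e | e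
    · exact ((le_inf (commutator_le_left_of_norm (aJ.trans nK')) l).trans (e.trans eO).le).trans
        (inf_le_right.trans h.Q_cent)
    · exact absurd (pc.eq_bot le_rfl (e.ge.trans inf_le_right)) w0

section model
variable {Γ : Type*} [Group Γ] [Finite Γ] {ι : ZL 2 L →* Γ} {κ : G →* Γ} (m : Mod (ZL 2 L) ι κ) {F : Subgroup Γ}
  (s : St 2 ι.range ((J 2 L).map κ) F)

omit h in
theorem not_cent_X {V H F B : Subgroup Γ} (s : St 2 V H F) (t : Tv 2 V H B) : ¬ B ≤ 𝐂 ⁅F, B⁆ := fun l => by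
  have hp := H6KS.isPGroup_of_card_prime t.card
  have := comm_comm_coprime (t.le.trans s.hn) (s.cop le_rfl hp).symm (Or.inl (isSolvable_of_isPGroup hp))
  rw [comm_eq_bot_of_le' l] at this
  exact s.not_le_cent t (cent_symm (commutator_eq_bot_iff'.1 this.symm))

omit h in
theorem card_X {V H F B : Subgroup Γ} (s : St 2 V H F) (t : Tv 2 V H B) : Nat.card ↥⁅F, B⁆ = 3 := by
  rw [← s.EE_inf t, (s.pl t).cardQ]; rfl

include m s

theorem gen0 {M : Subgroup Γ} (k : ∀ B, Tv 2 ι.range ((J 2 L).map κ) B → (∃ A ∈ mx 2 T, B ≤ A.map κ) → B ≤ M) :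
    (J 2 T).map κ ≤ M := map_le_iff_le_comap.2 (H6J.J_le_iff.2 fun A hA => map_le_iff_le_comap.1 (by
  have a1 := map_mono (f := κ) ((H6J.le_J hA).trans h.J_le)
  obtain ⟨n, B, h1, -, h2⟩ := s.exists_decomp _ _ rfl a1 (m.best (H6Off.best_of_mx
    (H6J.isAb_iff_isElementaryAbelian.2 h.red.ea) (h.V_le_Q.trans h.Q_le) hA))
  rw [← h2]
  exact iSup_le fun i => k _ (s.tv_of_card ((h1 i).1.trans a1) (h1 i).2.1 (h1 i).2.2) ⟨A, hA, (h1 i).1⟩))

theorem gen1 : Gen 2 ι.range ((J 2 L).map κ) :=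
  m.gen (H6J.isAb_iff_isElementaryAbelian.2 h.red.ea) h.red.le s

theorem cover {B : Subgroup Γ} (t : Tv 2 ι.range ((J 2 L).map κ) B) :
    ∃ B', Tv 2 ι.range ((J 2 L).map κ) B' ∧ (∃ A ∈ mx 2 T, B' ≤ A.map κ) ∧ EE F B = EE F B' := by
  by_contra! k
  have h1 := h.gen0 m s (M := 𝐂 (EE F B)) fun B' t' l => le_sup_right.trans (s.le_cent_of_ne' t t' (k B' t' l))
  have h2 := h.J_le_of_norm (map_le_iff_le_comap.1 h1) ((le_comap_map κ _).trans
    (norm_comap κ (norm_centralizer (s.norm_EE' (h.gen1 m s) t))))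
  exact not_cent_X s t ((t.le.trans (map_le_iff_le_comap.2 h2)).trans (centralizer_anti le_sup_left))

theorem exists_jc [(pCoreOf 2 L).Normal] {B : Subgroup Γ} (t : Tv 2 ι.range ((J 2 L).map κ) B)
    (hB : ∃ A ∈ mx 2 T, B ≤ A.map κ) :
    ∃ K, JC (J 2 T) K ∧ K ≤ L ∧ J 2 L ≤ 𝐍 K ∧ K.map κ = ⁅F, B⁆ := by
  have : Fact (Nat.Prime 3) := ⟨Nat.prime_three⟩
  obtain ⟨A, hA, hB⟩ := hB
  obtain ⟨b, b1, -, rfl⟩ := H6KS.exists_zpowers t.card
  obtain ⟨a, a1, rfl⟩ := hB (mem_zpowers b)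
  have a2 : a * a = 1 := by rw [← pow_two]; exact hA.2.1.2 a a1
  have a3 := (H6J.le_J hA).trans h.J_le a1
  have XH : ⁅F, zpowers (κ a)⁆ ≤ (J 2 L).map κ := comm_le_of_le s.hF t.le
  obtain ⟨x, x1, x2⟩ : ∃ x ∈ ⁅F, zpowers (κ a)⁆, ⁅x, κ a⁆ ≠ 1 := by
    by_contra! k
    exact not_cent_X s t (zpowers_le.2 fun x hx => commutatorElement_eq_one_iff_mul_comm.1 (k x hx))
  obtain ⟨d₀, d1, rfl⟩ := XH x1
  have d2 : ⁅d₀, a⁆ ∈ J 2 L := comm_le_of_le le_rfl le_rfl (commutator_mem_commutator d1 a3)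
  have d3 : κ ⁅d₀, a⁆ ∈ ⁅F, zpowers (κ a)⁆ := by
    rw [map_commutatorElement]
    exact commutator_le_left_of_norm (norm_comm_right _ _) (commutator_mem_commutator x1 (mem_zpowers _))
  have d4 : a * ⁅d₀, a⁆ * a⁻¹ = ⁅d₀, a⁆⁻¹ := by
    rw [commutatorElement_inv, commutatorElement_def, commutatorElement_def, inv_eq_of_mul_eq_one_left a2]
    calc _ = a * d₀ * a * d₀⁻¹ * (a * a) := by group
      _ = _ := by rw [a2, mul_one]
  rw [← map_commutatorElement] at x2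
  generalize ⁅d₀, a⁆ = d at *
  have eX := H6KS.eq_of_card_prime (card_X s t) (zpowers_le.2 d3) (by rwa [Ne, zpowers_eq_bot])
  have HL := H6J.J_le 2 L
  have kC : ∀ {c}, κ c = 1 → c ∈ 𝐂 (ZL 2 L) := fun hc => m.ker ▸ MonoidHom.mem_ker.2 hc
  let π := QuotientGroup.mk' (pCoreOf 2 L)
  have hπ : ∀ {c}, π c = 1 ↔ c ∈ (pCoreOf 2 L) := QuotientGroup.eq_one_iff _
  have cC : ∀ {c y}, c ∈ J 2 L → κ c = 1 → y ∈ J 2 L → π c * π y = π y * π c := fun hc hk hy =>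
    commutatorElement_eq_one_iff_mul_comm.1 (by
      rw [← map_commutatorElement, hπ]
      exact h.comm_C (commutator_mem_commutator ⟨HL hc, kC hk⟩ (mem_sup_left hy)))
  have sq : ∀ {c}, c ∈ J 2 L → κ c = 1 → π c * π c = 1 → π c = 1 := fun hc hk e =>
    hπ.2 (h.mem_Q (HL hc) (kC hk) (hπ.1 (by rw [pow_two, map_mul, e])))
  have d5 : κ (d ^ 3) = 1 := by
    rw [map_pow, ← card_X s t]; exact congrArg Subtype.val (pow_card_eq_one' (x := (⟨_, d3⟩ : ↥⁅F, zpowers (κ a)⁆)))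
  have d6 : d ^ 3 ∈ (pCoreOf 2 L) := hπ.1 (sq (pow_mem d2 3) d5 (by
    have e := congrArg π (conj_pow_inv d4 3)
    rw [map_mul, map_mul, ← cC (pow_mem d2 3) d5 a3, map_inv, mul_inv_cancel_right, map_inv] at e
    exact mul_eq_one_iff_eq_inv.2 e))
  have d7 : d ∉ 𝐂 (ZL 2 L) := fun l => x2 (m.ker ▸ l : d ∈ κ.ker)
  have i3 := PGBasic.relIndex_sup_zpowers Nat.prime_three (norm_pCoreOf 2 L (HL d2)) (mt (h.Q_cent ·) d7) d6
  have nD : J 2 L ≤ 𝐍 ((pCoreOf 2 L) ⊔ zpowers d : Subgroup G) := by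
    refine (le_of_map_le (f := κ) (M := J 2 L ⊓ 𝐍 ((pCoreOf 2 L) ⊔ zpowers d : Subgroup G)) le_rfl inf_le_left
      (le_inf inf_le_left (norm_of_comm_le (M := (pCoreOf 2 L)) ?_ le_sup_left)) ?_).trans inf_le_right
    · rw [commutator_comm, m.ker]
      exact (commutator_mono (inf_le_inf_right _ HL) (sup_le le_sup_right
        (le_sup_of_le_left (zpowers_le.2 d2)))).trans h.comm_C
    rw [← s.sup_eq (h.gen1 m s) t]
    refine sup_le (sup_le (eX.ge.trans (zpowers_le.2 ⟨d, ⟨d2, le_normalizer (mem_sup_right (mem_zpowers d))⟩, rfl⟩))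
      (zpowers_le.2 ⟨a, ⟨a3, H6Basic.mem_normalizer_sup (norm_pCoreOf 2 L (HL a3)) (cj_eq_self_iff.1 (by
        rw [cj_zpowers, d4, zpowers_inv]))⟩, rfl⟩)) ?_
    rintro _ ⟨⟨y, y1, rfl⟩, y2⟩
    have cy : ∀ e ∈ J 2 L, κ e ∈ EE F (zpowers (κ a)) → ⁅y, e⁆ ∈ J 2 L ∧ κ ⁅y, e⁆ = 1 := fun e e1 e2 =>
      ⟨comm_le_of_le le_rfl le_rfl (commutator_mem_commutator y1 e1), by
        rw [map_commutatorElement, ← commutatorElement_inv, inv_eq_one, ← mem_bot, ← s.comm_cent (h.gen1 m s) t]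
        exact commutator_mem_commutator e2 ⟨⟨y, y1, rfl⟩, y2⟩⟩
    obtain ⟨p1, p2⟩ := cy a a3 (mem_sup_right (mem_zpowers _))
    obtain ⟨q1, q2⟩ := cy d d2 (mem_sup_left d3)
    have r1 : π y * π a * (π y)⁻¹ = π ⁅y, a⁆ * π a := by rw [map_commutatorElement, commutatorElement_def]; group
    have r2 : π y * π d * (π y)⁻¹ = π ⁅y, d⁆ * π d := by rw [map_commutatorElement, commutatorElement_def]; group
    have a4 : π a * π a = 1 := by rw [← map_mul, a2, map_one]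
    have d8 : π a * π d * (π a)⁻¹ = (π d)⁻¹ := by simpa using congrArg π d4
    have r3 := sq p1 p2 (by
      calc _ = π ⁅y, a⁆ * π ⁅y, a⁆ * (π a * π a) := by rw [a4, mul_one]
        _ = π ⁅y, a⁆ * π a * (π ⁅y, a⁆ * π a) := by rw [mul_assoc, mul_assoc, ← mul_assoc (π a), ← cC p1 p2 a3]; group
        _ = π y * (π a * π a) * (π y)⁻¹ := by rw [← r1]; group
        _ = 1 := by rw [a4]; group)
    rw [r3, one_mul] at r1
    have r4 := hπ.1 (sq q1 q2 (by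
      have e1 : π a * (π ⁅y, d⁆ * π d) * (π a)⁻¹ = (π ⁅y, d⁆ * π d)⁻¹ := by
        rw [← r2]
        conv_lhs => rw [← r1]
        calc _ = π y * (π a * π d * (π a)⁻¹) * (π y)⁻¹ := by group
          _ = _ := by rw [d8]; group
      rw [← mul_assoc, ← cC q1 q2 a3, mul_assoc, mul_assoc, ← mul_assoc (π a), d8, cC q1 q2 d2, mul_inv_rev] at e1
      exact mul_eq_one_iff_eq_inv.2 (mul_right_cancel e1)))
    refine ⟨y, ⟨y1, mem_normalizer_of_cj_le ?_⟩, rfl⟩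
    rw [cj_sup, cj_eq_self (norm_pCoreOf 2 L (HL y1)), cj_zpowers,
      show y * d * y⁻¹ = ⁅y, d⁆ * d by rw [commutatorElement_def]; group]
    exact sup_le le_sup_left (zpowers_le.2 (mul_mem (mem_sup_left r4) (mem_sup_right (mem_zpowers d))))
  have DL : (pCoreOf 2 L) ⊔ zpowers d ≤ L := sup_le (pCoreOf_le 2 L) (zpowers_le.2 (HL d2))
  obtain ⟨k1, k2⟩ := h.jc_of le_sup_left DL i3 (h.J_le.trans nD) hA fun l => d7 (by
    have := l (commutator_mem_commutator (mem_sup_right (mem_zpowers d)) a1)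
    rw [show ⁅d, a⁆ = d * (a * d * a⁻¹)⁻¹ by rw [commutatorElement_def]; group, d4, inv_inv] at this
    have e := mul_mem (kC d5) (inv_mem this)
    rwa [show d ^ 3 * (d * d)⁻¹ = d by group] at e)
  refine ⟨_, k1, (res_le _ _).trans DL, norm_res_of_norm nD, ?_⟩
  have e := congrArg (Subgroup.map κ) k2
  have e0 : (pCoreOf 2 L).map κ = ⊥ := (Subgroup.map_eq_bot_iff _).2 (m.ker ▸ h.Q_cent)
  rwa [Subgroup.map_sup, Subgroup.map_sup, e0, bot_sup_eq, bot_sup_eq, MonoidHom.map_zpowers, eX] at e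

theorem eq_of_map_eq (k : JC (J 2 T) K) (l : K ≤ L) (k' : JC (J 2 T) K') (l' : K' ≤ L)
    (e : K.map κ = K'.map κ) : K = K' := by
  have a : ∀ {K K'}, JC (J 2 T) K → K ≤ L → JC (J 2 T) K' → K' ≤ L → K.map κ = K'.map κ → K ≤ K' :=
    fun k l k' l' e => h.le_of_le_sup k k' l' (le_of_map_le (f := κ) l (sup_le l' inf_le_left)
      (le_sup_of_le_right (by rw [m.ker])) (e.le.trans (map_mono le_sup_left)))
  exact le_antisymm (a k l k' l' e) (a k' l' k l e.symm)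

theorem gen2 [(pCoreOf 2 L).Normal] {M : Subgroup G} (h1 : J 2 T ≤ M) (h2 : (pCoreOf 2 L) ≤ M)
    (h3 : ∀ K, JC (J 2 T) K → K ≤ L → J 2 L ≤ 𝐍 K → K.map κ ≤ F → K ≤ M) : J 2 L ≤ M := by
  have HL := H6J.J_le 2 L
  refine (h.J_le_of_norm (M := M ⊓ (J 2 L ⊔ (pCoreOf 2 L))) (le_inf h1 (le_sup_of_le_left h.J_le)) ?_).trans inf_le_left
  refine (le_of_map_le (f := κ) (M := M ⊓ (J 2 L ⊔ (pCoreOf 2 L)) ⊔ L ⊓ 𝐂 (ZL 2 L)) HL
    (sup_le (inf_le_right.trans (sup_le HL (pCoreOf_le 2 L))) inf_le_left) (le_sup_of_le_right (by rw [m.ker]))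
    (h.gen1 m s _ fun B t => ?_)).trans (sup_le le_normalizer (norm_of_comm_le (M := (pCoreOf 2 L)) ?_ (le_inf h2 le_sup_right)))
  · obtain ⟨B', t', ⟨A, hA, l⟩, e⟩ := h.cover m s t
    obtain ⟨K, k1, k2, k3, k4⟩ := h.exists_jc m s t' ⟨A, hA, l⟩
    refine (le_sup_right.trans e.le).trans (sup_le (k4.ge.trans (map_mono (le_sup_of_le_left (le_inf
      (h3 K k1 k2 k3 (k4.le.trans (commutator_le_left_of_norm (t'.le.trans s.hn))))
      (le_sup_of_le_left (h.K_le k1 k2)))))) (l.trans (map_mono (le_sup_of_le_left ((H6J.le_J hA).trans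
      (le_inf h1 (le_sup_of_le_left h.J_le)))))))
  · rw [commutator_comm]
    exact (commutator_mono le_rfl inf_le_right).trans h.comm_C

theorem exists_tv [(pCoreOf 2 L).Normal] (k : JC (J 2 T) K) (l : K ≤ L) :
    ∃ B, Tv 2 ι.range ((J 2 L).map κ) B ∧ (∃ A ∈ mx 2 T, B ≤ A.map κ) ∧ K.map κ = ⁅F, B⁆ := by
  have : Fact (Nat.Prime 3) := ⟨Nat.prime_three⟩
  have e0 : (pCoreOf 2 L).map κ = ⊥ := (Subgroup.map_eq_bot_iff _).2 (m.ker ▸ h.Q_cent)
  have h1 := h.gen2 m s (M := J 2 T ⊔ F.comap κ) le_sup_left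
    (le_sup_of_le_right (map_le_iff_le_comap.1 (e0.le.trans bot_le)))
    fun K _ _ _ e => le_sup_of_le_right (map_le_iff_le_comap.1 e)
  have h2 : K.map κ ≤ F := map_le_iff_le_comap.2 (k.res.ge.trans (res_le_of_le_sup (pgJ h.syl.pg)
    ((h.J_le.trans (le_comap_map κ _)).trans (norm_comap κ s.hn)) ((h.K_le k l).trans h1)))
  have h3 : K.map κ ≠ ⊥ := fun e => h.not_cent k l (m.ker ▸ (Subgroup.map_eq_bot_iff _).1 e)
  have h4 : Nat.card (K.map κ) = 3 := by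
    have a1 : pCoreOf 2 K ≤ κ.ker := (Subgroup.map_eq_bot_iff _).1 (eq_bot_iff.2 (s.inf_eq
      ((isPGroup_pCoreOf 2 K).map κ) ▸ le_inf le_rfl ((map_mono (pCoreOf_le 2 K)).trans h2)))
    have a2 := relIndex_dvd_of_le a1 K
    rw [k.idx, relIndex_ker] at a2
    exact ((Nat.dvd_prime Nat.prime_three).1 a2).resolve_left (mt card_eq_one.1 h3)
  by_contra! n
  have h5 := h.gen0 m s (M := (J 2 T).map κ ⊓ 𝐂 (K.map κ)) fun B t hB => by
    obtain ⟨A, hA, b⟩ := id hB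
    have b1 := b.trans (map_mono (H6J.le_J hA))
    refine le_inf b1 (commutator_eq_bot_iff'.1 (by_contra fun e => n B t hB ?_))
    exact (H6KS.eq_of_card_prime h4 (commutator_le_left_of_norm (b1.trans (norm_map κ k.norm))) e).symm.trans
      (H6KS.eq_of_card_prime (card_X s t) (commutator_mono h2 le_rfl) e)
  exact h3 (by rw [← k.comm, map_commutator]; exact comm_eq_bot_of_le' (h5.trans inf_le_right))

end model

omit [Finite G] h in
theorem str_of_normal {G : Type u} [Group G] [Finite G] {T L : Subgroup G} (h : HL T L)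
    [(ZL 2 L).Normal] [(pCoreOf 2 L).Normal] : Str T L := by
  obtain ⟨Γ, _, _, ι, κ, m⟩ := H6KS2.exists_mod (ZL 2 L)
  have hV := H6J.isAb_iff_isElementaryAbelian.2 h.red.ea
  have hO := redFor_iff_Op.1 h.red.red
  have s := m.st hV (H6J.J_le 2 L) (H6J.le_normalizer_J 2 L) h.solv hO
  have n : ∀ K, JC (J 2 T) K → K ≤ L → J 2 L ≤ 𝐍 K := fun K k l => by
    obtain ⟨B, t, b, e⟩ := h.exists_tv m s k l
    obtain ⟨K', k1, k2, k3, k4⟩ := h.exists_jc m s t b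
    rwa [h.eq_of_map_eq m s k l k1 k2 (e.trans k4.symm)]
  refine ⟨n, fun K K' k l k' l' ne => ?_, fun M a b c => h.gen2 m s a b fun K k l _ _ => c K k l, ?_⟩
  · obtain ⟨B, t, -, e⟩ := h.exists_tv m s k l
    obtain ⟨B', t', -, e'⟩ := h.exists_tv m s k' l'
    have h1 := s.le_cent_of_ne t t' fun x => ne (h.eq_of_map_eq m s k l k' l' (by
      rw [e, e', ← s.EE_inf t, ← s.EE_inf t', x]))
    rw [← h.W_eq k l (n K k l)]
    intro y hy
    have h2 : ⁅ZL 2 L, K⁆ ≤ ((⁅ι.range, K.map κ⁆).comap ι).map (ZL 2 L).subtype := commutator_le.2 fun v hv x hx =>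
      ⟨⟨v, hv⟩ * ⟨x * v⁻¹ * x⁻¹, m.nor.conj_mem _ (inv_mem hv) x⟩, by
        rw [SetLike.mem_coe, mem_comap, map_mul, ← m.conj x ⟨v, hv⟩⁻¹ ⟨x * v⁻¹ * x⁻¹, _⟩ rfl,
          map_inv, ← mul_assoc, ← mul_assoc, ← commutatorElement_def]
        exact commutator_mem_commutator ⟨_, rfl⟩ ⟨x, hx, rfl⟩, by simp [commutatorElement_def, mul_assoc]⟩
    exact centralizer_anti h2 (m.mem_cent.1 (centralizer_anti ((map_comap_le _ _).trans
      (commutator_mono le_rfl (e.le.trans le_sup_left))) (h1 ((e'.le.trans le_sup_left) ⟨y, hy, rfl⟩))))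
  · obtain ⟨A, hA⟩ := H6J.mx_nonempty 2 T
    exact le_sup_left.trans (H6J.le_J (H6J.mem_mx_of_le (m.sup_mem_mx hV h.red.le h.solv hO (mx_of_syl h.syl hA))
      (sup_le (h.V_le_Q.trans h.Q_le) (inf_le_right.trans hA.1)) h.syl.le))

theorem str : Str T L := by
  have inj := L.subtype_injective
  have eZ : (ZL 2 (⊤ : Subgroup L)).map L.subtype = ZL 2 L := by
    rw [ZL_eq (sylIn_subgroupOf_iff h.syl.le le_rfl |>.2 h.syl |> fun x => subgroupOf_self L ▸ x), map_ncl,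
      map_OZ inj, map_subtype_top, subgroupOf_map_subtype, inf_eq_left.2 h.syl.le, ZL_eq h.syl]
  have eT : (T.subgroupOf L).map L.subtype = T := by rw [subgroupOf_map_subtype, inf_eq_left.2 h.syl.le]
  have eJ : (J 2 (T.subgroupOf L)).map L.subtype = J 2 T := by rw [← H6J.J_map inj, eT]
  have eQ : (pCoreOf 2 (⊤ : Subgroup L)).map L.subtype = pCoreOf 2 L := by rw [map_subtype_pCoreOf, map_subtype_top]
  have eH := H6J.J_top_map_subtype 2 L
  have : (ZL 2 (⊤ : Subgroup L)).Normal := normal_iff_top_le.2 (norm_ZL 2 _)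
  have : (pCoreOf 2 (⊤ : Subgroup L)).Normal := normal_iff_top_le.2 (norm_pCoreOf 2 _)
  have s := str_of_normal (G := L) (T := T.subgroupOf L) (L := ⊤) ⟨H6NPC.sylIn_subgroupOf_top h.syl,
    (charP_map_iff inj).1 (by rw [map_subtype_top]; exact h.char), H6PSolv.psolv_top_iff.2 h.solv,
    (map_le_map_iff_of_injective inj).1 (by
      rw [top_inf_eq, map_subtype_centralizer, map_subtype_normalizer, eZ, eT]
      exact le_inf inf_le_left h.cn)⟩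
  have e : ∀ {K}, K ≤ L → (K.subgroupOf L).map L.subtype = K := fun l => by
    rw [subgroupOf_map_subtype, inf_eq_left.2 l]
  have j : ∀ {K}, JC (J 2 T) K → K ≤ L → JC (J 2 (T.subgroupOf L)) (K.subgroupOf L) := fun k l =>
    (jc_map_iff inj).1 (by rwa [eJ, e l])
  refine ⟨fun K k l => ?_, fun K K' k l k' l' ne => ?_, fun M a b c => ?_, ?_⟩
  · have := norm_map L.subtype (s.norm _ (j k l) le_top)
    rwa [eH, e l] at this
  · have := cent_map L.subtype (s.cent _ _ (j k l) le_top (j k' l') le_top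
      fun x => ne (by rw [← e l, x, e l']))
    rwa [map_W inj, e l, e l'] at this
  · rw [← eH]
    exact map_le_iff_le_comap.2 (s.gen _ (map_le_iff_le_comap.1 (eJ.le.trans a))
      (map_le_iff_le_comap.1 (eQ.le.trans b)) fun K k _ => map_le_iff_le_comap.1
        (c _ (eJ ▸ (jc_map_iff inj).2 k) (map_subtype_le _)))
  · rw [← eZ, ← eJ]; exact map_mono s.V_le

end HL

end CA.ZN2
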