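import Cfsg.Agent.Lib.Loc.ZN2
import Cfsg.Agent.Lib.Loc.AmbWC

/-!
`J(T)`-components in groups of local characteristic two satisfying `Z` and `N`; the uniqueness theorem.
-/

set_option autoImplicit false

namespace CA.ZN3

open Subgroup Cfsg CA.Amb CA.AmbSyl CA.AmbCore CA.AmbRes CA.AmbChar CA.AmbSpe CA.AmbRed CA.AmbIso CA.AmbS3 CA.ZN1
open CA.ZN2
open CA.H6J (mx J IsAb)
open scoped commutatorElement

variable {G : Type*} [Group G] [Finite G] {S T L K K' M Q : Subgroup G}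

theorem se_iff : IsStronglyEmbedded M ↔ SPE 2 M ⊤ := by
  simp only [spe_top_iff, IsStronglyEmbedded, ← Nat.not_even_iff_odd, even_iff_two_dvd]

section hl
variable (h : HL T L) (k : JC (J 2 T) K) (l : K ≤ L)
include h k l

theorem sn : SN L K :=
  SN.step _ _ (h.K_le k l) (SN.of_norm (H6J.J_le 2 L) (H6J.le_normalizer_J 2 L)) (h.str.norm K k l)

theorem jc_conj {g : G} (hg : g ∈ L) : JC (J 2 T) (cj g K) := by
  obtain ⟨c, hc, x, hx, rfl⟩ := h.frattini hg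
  rw [← cj_cj, cj_eq_self (h.str.norm _ (k.conj_norm hx.2) (cj_le_of_mem l hx.1) hc)]
  exact k.conj_norm hx.2

theorem eq_of_inf (k' : JC (J 2 T) K') (l' : K' ≤ L) (e : wOf K ⊓ wOf K' ≠ ⊥) : K = K' := by
  by_contra n
  exact e (k'.eq_bot inf_le_right ((h.str.cent K K' k l k' l' n).trans (centralizer_anti inf_le_left)))

theorem norm_K (k' : JC (J 2 T) K') (l' : K' ≤ L) : K' ≤ 𝐍 K := (h.K_le k' l').trans (h.str.norm K k l)

theorem W_le_V : wOf K ≤ ZL 2 L :=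
  (h.W_eq k l (h.str.norm K k l)).ge.trans (commutator_le_left_of_norm (l.trans h.red.norm))

theorem mem_norm {g : G} (hg : g ∈ L) (e : wOf K ⊓ cj g (wOf K) ≠ ⊥) : g ∈ 𝐍 K :=
  cj_eq_self_iff.1 (eq_of_inf h k l (jc_conj h k l hg) (cj_le_of_mem l hg) (by rwa [← cj_W])).symm

/-- KS 12.2.4 -/
theorem norm_of_center (e : T ⊓ 𝐂 T ⊓ wOf K ≠ ⊥) : T ≤ 𝐍 K := fun t ht =>
  mem_norm h k l (h.syl.le ht) fun n => e (eq_bot_iff.2 (n ▸ le_inf inf_le_right fun x hx => by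
    rw [mem_cj, mul_assoc, ← hx.1.2 t ht, inv_mul_cancel_left]; exact hx.2))

omit k l in
theorem le_of (h1 : L ⊓ 𝐍 (J 2 T) ≤ M) (h2 : ∀ K, JC (J 2 T) K → K ≤ L → K ≤ M) : L ≤ M := fun g hg => by
  obtain ⟨c, hc, x, hx, rfl⟩ := h.frattini hg
  have := (le_inf h.syl.le (H6J.le_normalizer_J 2 T)).trans h1
  exact mul_mem (h.str.gen M ((H6J.J_le 2 T).trans this) (h.Q_le.trans this) h2 hc) (h1 hx)

omit k l in
theorem exists_jc (n : ¬ J 2 T ≤ pCoreOf 2 L) : ∃ K, JC (J 2 T) K ∧ K ≤ L := by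
  by_contra! c
  have := h.str.gen T (H6J.J_le 2 T) h.Q_le fun K k l => absurd l (c K k)
  exact n (h.J_le.trans (le_pCoreOf (H6J.J_le 2 L) (h.syl.pg.to_le this) (H6J.le_normalizer_J 2 L)))

end hl

/-- local characteristic two together with `Z` and `N` -/
structure ZN (G : Type*) [Group G] : Prop where
  char : ∀ Q : Subgroup G, IsPGroup 2 Q → Q ≠ ⊥ → CharP 2 (𝐍 Q)
  solv : ∀ N : Subgroup G, IsTwoLocal N → Group.IsSolvable N
  z : ∀ S : Subgroup G, SylIn 2 S ⊤ → 𝐂 (OZ 2 S) ≤ 𝐍 S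

omit [Finite G] in
theorem zn_of (hL : IsCharacteristicTwoType G) (hN : ∀ N : Subgroup G, IsTwoLocal N → Group.IsSolvable N)
    (hZ : ∀ S : Sylow 2 G, 𝐂 (omegaCenterOf (S : Subgroup G)) ≤ 𝐍 (S : Subgroup G)) : ZN G :=
  ⟨fun Q a b => charP_iff.2 (hL.2 Q a b), hN, fun _ h => hZ h.toSylowTop⟩

omit [Finite G] in
theorem loc (hQ : IsPGroup 2 Q) (h : Q ≠ ⊥) : IsTwoLocal (𝐍 Q) := ⟨Q, hQ, h, rfl⟩

omit [Finite G] in
theorem loc_O_ne (h : IsTwoLocal L) : pCoreOf 2 L ≠ ⊥ := by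
  obtain ⟨Q, a, b, rfl⟩ := h
  exact fun e => b (le_bot_iff.1 ((le_pCoreOf le_normalizer a le_rfl).trans e.le))

omit [Finite G] in
theorem loc_conj (h : IsTwoLocal L) (g : G) : IsTwoLocal (cj g L) := by
  obtain ⟨Q, a, b, rfl⟩ := h
  exact ⟨cj g Q, isPGroup_cj a g, mt cj_eq_bot.1 b, cj_normalizer g Q⟩

omit [Finite G] in
theorem max_conj (h : IsMaximalTwoLocal L) (g : G) : IsMaximalTwoLocal (cj g L) :=
  ⟨loc_conj h.1 g, fun N a b => by rw [← h.2 _ (loc_conj a g⁻¹) (cj_le_iff.1 b), cj_cj_inv]⟩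

omit [Finite G] in
theorem max_eq (h : IsMaximalTwoLocal L) (hQ : IsPGroup 2 Q) (h0 : Q ≠ ⊥) (n : L ≤ 𝐍 Q) : 𝐍 Q = L :=
  h.2 _ (loc hQ h0) n

omit [Finite G] in
theorem max_norm (h : IsMaximalTwoLocal L) : 𝐍 L ≤ L :=
  (normalizer_le_pCoreOf 2 L).trans (max_eq h (isPGroup_pCoreOf 2 L) (loc_O_ne h.1) (norm_pCoreOf 2 L)).le

theorem exists_max (h : IsTwoLocal L) : ∃ L', IsMaximalTwoLocal L' ∧ L ≤ L' := by
  obtain ⟨L', h1, h2⟩ := Finite.exists_le_maximal (p := IsTwoLocal) h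
  exact ⟨L', ⟨h2.1, fun N a b => le_antisymm (h2.2 a b) b⟩, h1⟩

namespace ZN
variable (z : ZN G)
include z

omit [Finite G] in
theorem cent_le (h : IsTwoLocal L) : 𝐂 (pCoreOf 2 L) ≤ pCoreOf 2 L := by
  obtain ⟨Q, a, b, rfl⟩ := h
  exact (le_inf ((centralizer_anti (le_pCoreOf le_normalizer a le_rfl)).trans (centralizer_le_normalizer _))
    le_rfl).trans (z.char Q a b)

omit z in
theorem OZ_le (hT : SylIn 2 T L) (h : 𝐂 (pCoreOf 2 L) ≤ pCoreOf 2 L) (hS : T ≤ S) : OZ 2 S ≤ OZ 2 T :=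
  OZ_le_OZ hS ((((OZ_le_cent 2 S).trans (centralizer_anti ((pCoreOf_le_syl hT).trans hS))).trans h).trans
    (pCoreOf_le_syl hT))

theorem hl (hT : SylIn 2 T L) (h : 𝐂 (pCoreOf 2 L) ≤ pCoreOf 2 L) (h0 : T ≠ ⊥) : HL T L := by
  have h1 : pCoreOf 2 L ≠ ⊥ := fun e => h0 (by
    rw [e, Amb.centralizer_bot] at h; exact le_bot_iff.1 (le_top.trans h))
  have := z.solv _ (loc (isPGroup_pCoreOf 2 L) h1)
  obtain ⟨S, hS, h2⟩ := exists_sylIn_ge hT.pg le_top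
  refine ⟨hT, inf_le_right.trans h, (H6PSolv.psolv_of_isSolvable this).mono (norm_pCoreOf 2 L), ?_⟩
  rw [← hT.max (hS.pg.to_le inf_le_right) (le_inf hT.le h2) inf_le_left]
  exact norm_inf (norm_of_le inf_le_left) (inf_le_right.trans ((centralizer_anti ((OZ_le hT h h2).trans
    (OZ_le_ZL hT))).trans (z.z S hS)))

theorem hl_loc (hT : SylIn 2 T L) (h : IsTwoLocal L) : HL T L :=
  z.hl hT (z.cent_le h) fun e => loc_O_ne h (le_bot_iff.1 ((pCoreOf_le_syl hT).trans e.le))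

variable {J₀ : Subgroup G} (k : JC J₀ K) (hJ : IsPGroup 2 J₀)
  (k0 : ∀ S, J₀ ≤ S → SylIn 2 S (𝐍 (wOf K)) → J 2 S = J₀)
include k hJ k0

/-- KS 12.2.5 (a) -/
theorem norm_eq : 𝐍 K = 𝐍 (wOf K) := by
  obtain ⟨S, hS, h1⟩ := exists_sylIn_ge hJ (le_sup_right.trans k.normW)
  refine le_antisymm (norm_W K) fun g hg => mem_norm (z.hl_loc hS (loc (ea_pg (ea_W K)) k.W_ne))
    (by rwa [k0 S h1 hS]) (le_sup_left.trans k.normW) hg ?_
  rw [cj_eq_self hg, inf_idem]; exact k.W_ne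

/-- KS 12.2.5 (b) -/
theorem jc_of_norm {J₁ : Subgroup G} {g : G} (e : J₁ = cj g J₀) (n : J₁ ≤ 𝐍 (wOf K)) : JC J₁ K := by
  obtain ⟨S, hS, h1⟩ := exists_sylIn_ge hJ (le_sup_right.trans k.normW)
  have e1 := k0 S h1 hS
  obtain ⟨x, hx, h2⟩ := hS.exists_le_conj (e ▸ isPGroup_cj hJ g) n
  obtain ⟨A, hA⟩ := H6J.mx_nonempty 2 S
  have e2 : J₁ = cj x J₀ := by
    refine eq_of_le_of_card_ge ?_ (by rw [e, card_cj, card_cj])
    rw [e, ← e1]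
    refine (H6J.J_cj g 2 S).ge.trans (H6J.J_le_iff.2 fun B hB => (H6J.le_J (H6J.mem_mx_of_card_le
      (H6J.cj_mem_mx_iff.2 hA) ?_ hB.2.1 ?_)).trans (H6J.J_cj x 2 S).le)
    · exact ((H6J.le_J hB).trans ((H6J.J_cj g 2 S).trans (by rw [e, e1])).le).trans h2
    · rw [H6J.mx_card_eq hB (H6J.cj_mem_mx_iff.2 hA), H6Basic.card_cj, H6Basic.card_cj]
  rw [e2, ← cj_eq_self ((z.norm_eq k hJ k0).ge hx)]
  exact k.conj x

omit k0 hJ in
theorem norm_of_sn (hT : SylIn 2 T L) (h : 𝐂 (pCoreOf 2 L) ≤ pCoreOf 2 L) (h0 : T ≠ ⊥) (l : K ≤ L)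
    (s : SN (K ⊔ J 2 T) K) : J 2 T ≤ 𝐍 (wOf K) := by
  have JL := (H6J.J_le 2 T).trans hT.le
  have PL := sup_le l JL
  have nQ := PL.trans (norm_pCoreOf 2 L)
  obtain ⟨T₀, t1, t2⟩ := exists_sylIn_ge (pgJ hT.pg) (le_sup_of_le_left le_sup_right : J 2 T ≤ K ⊔ J 2 T ⊔ pCoreOf 2 L)
  have e := J_eq hT t1.pg (t1.le.trans (sup_le PL (pCoreOf_le 2 L))) t2
  have q1 : pCoreOf 2 (K ⊔ J 2 T) ⊔ pCoreOf 2 L ≤ pCoreOf 2 (K ⊔ J 2 T ⊔ pCoreOf 2 L) :=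
    le_pCoreOf (sup_le_sup_right (pCoreOf_le _ _) _) (isPGroup_sup_of_norm (isPGroup_pCoreOf _ _)
      (isPGroup_pCoreOf _ _) ((pCoreOf_le _ _).trans nQ))
      (sup_le (norm_sup (norm_pCoreOf _ _) nQ) (norm_of_le le_sup_right))
  have g := z.hl t1 (((centralizer_anti (le_sup_right.trans q1)).trans h).trans (le_sup_right.trans q1))
    fun x => H6J.J_ne_bot (p := 2) (n := 2) dvd_rfl (dvd_card_of_isPGroup hT.pg h0) (le_bot_iff.1 (t2.trans x.le))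
  have n1 : J 2 T ≤ K ⊔ J 2 T ⊔ pCoreOf 2 L := le_sup_of_le_left le_sup_right
  have n2 : K ≤ K ⊔ J 2 T ⊔ pCoreOf 2 L := le_sup_of_le_left le_sup_left
  have n4 : pCoreOf 2 (K ⊔ J 2 T) ≤ 𝐍 K := by
    have := AmbWC.pCoreOf_norm_res (p := 2) s
    rwa [k.res] at this
  have n5 := (s.pCoreOf_le.trans (le_sup_left.trans q1))
  have n3 := (inf_pCoreOf_le (p := 2) (le_sup_left : K ⊔ J 2 T ≤ K ⊔ J 2 T ⊔ pCoreOf 2 L)).trans n4
  generalize K ⊔ J 2 T ⊔ pCoreOf 2 L = L₀ at *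
  rw [← e] at n1 n3 n4 ⊢
  have hV := g.red
  have c1 : ⁅ZL 2 L₀, K⁆ ≤ wOf K := k.comm_le_W hV.ea (n2.trans hV.norm) ((le_inf
    (le_sup_of_le_right g.str.V_le) g.V_le_Q).trans n3) (n5.trans g.Q_cent)
  rcases k.irr c1 (norm_comm_right _ _) with c | c
  · exact ((le_pCoreOf le_sup_right (pgJ t1.pg) (sup_le (((le_inf n2 (commutator_eq_bot_iff'.1 c)).trans g.cn).trans
      (H6J.normalizer_le_normalizer_J 2 _)) le_normalizer)).trans n4).trans (norm_W K)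
  by_cases c2 : ∀ K', JC (J 2 T₀) K' → K' ≤ L₀ → K ≤ 𝐂 (wOf K')
  · let Y := ⨆ K' : {K' // JC (J 2 T₀) K' ∧ K' ≤ L₀}, wOf K'.1
    have y1 : ∀ K', JC (J 2 T₀) K' → K' ≤ L₀ → wOf K' ≤ Y := fun K' a b =>
      le_iSup (fun K' : {K' // JC (J 2 T₀) K' ∧ K' ≤ L₀} => wOf K'.1) ⟨K', a, b⟩
    have y2 : L₀ ≤ 𝐍 Y := le_normalizer_iff_cj.2 fun x hx => by
      rw [cj_iSup]
      exact iSup_le fun K' => (cj_W x _).le.trans (y1 _ (jc_conj g K'.2.1 K'.2.2 hx) (cj_le_of_mem K'.2.2 hx))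
    have y3 : K ≤ 𝐂 Y := by rw [centralizer_iSup]; exact le_iInf fun K' => c2 _ K'.2.1 K'.2.2
    have y4 := res_le_of_le_sup t1.pg (t1.le.trans (H6Off.norm_commInto hV.norm y2)) (g.str.gen _
      (le_sup_of_le_left (H6J.J_le 2 _)) (le_sup_of_le_left g.Q_le) fun K' a b => le_sup_of_le_right
        (H6Basic.le_commInto_iff.2 ⟨b.trans y2, by
          rw [commutator_comm, g.W_eq a b (g.str.norm _ a b)]; exact y1 _ a b⟩))
    have y5 := hV.red.le_cent_of_comm hV.pg hV.norm (D := J 2 L₀ ⊓ 𝐂 Y) (W := Y) (SN.of_norm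
      (inf_le_left.trans (H6J.J_le 2 _)) (norm_inf (H6J.le_normalizer_J 2 _) (norm_centralizer y2)))
      ((commutator_comm _ _).le.trans (H6Basic.le_commInto_iff.1 ((res_mono inf_le_left).trans y4)).2)
      ((res_le _ _).trans inf_le_right)
    have y6 : ⁅K, J 2 T₀⁆ ≤ 𝐂 (ZL 2 L₀) := (le_inf ((commutator_mono n2 g.J_le).trans (commutator_le_right_of_norm
      (H6J.le_normalizer_J 2 _))) ((commutator_mono y3 le_rfl).trans (commutator_le_left_of_norm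
      (n1.trans (norm_centralizer y2))))).trans y5
    rw [← c, ← comm_sup_cent (n2.trans hV.norm) le_rfl]
    exact norm_commutator (n1.trans hV.norm) (norm_of_commutator_le (comm_sup_le (norm_of_le le_sup_left)
      (norm_of_le le_sup_right) (le_sup_of_le_right y6) (le_sup_of_le_right (commutator_le_left_of_norm
        (n1.trans (norm_centralizer hV.norm))))))
  push Not at c2
  obtain ⟨K', k1, k2, k3⟩ := c2
  obtain ⟨x, x1, x2⟩ := SetLike.not_le_iff_exists.1 k3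
  have w1 := W_le_V g k1 k2
  have w2 : ∀ w ∈ wOf K', w⁻¹ * (x * w * x⁻¹) ∈ wOf K := fun w hw => by
    have := c1 (commutator_mem_commutator (w1 (inv_mem hw)) x1)
    rwa [commutatorElement_def, inv_inv, mul_assoc, mul_assoc, ← mul_assoc x] at this
  have o1 := (n5.trans g.Q_cent).trans (centralizer_anti w1)
  by_cases x3 : x ∈ 𝐍 K'
  · have a1 := le_of_not_mem (M := 𝐍 (wOf K')) k.idx x1 (mt (o1 ·) x2)
      (inf_le_right.trans (norm_of_centralizer o1)) (norm_W K' x3)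
    rcases k.irr (U := wOf K ⊓ wOf K') inf_le_left (norm_inf (le_normalizer.trans (norm_W K)) a1) with a | a
    · refine absurd (fun w hw => ?_) x2
      have : w⁻¹ * (x * w * x⁻¹) ∈ wOf K ⊓ wOf K' :=
        mem_inf.2 ⟨w2 w hw, mul_mem (inv_mem hw) (conj_mem_of_mem_normalizer (norm_W K' x3) hw)⟩
      rw [a, mem_bot, inv_mul_eq_one] at this
      exact eq_mul_inv_iff_mul_eq.1 this
    · rw [eq_of_le_of_card_ge (a.ge.trans inf_le_right) (by rw [k.card, k1.card])]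
      exact le_sup_right.trans k1.normW
  exfalso
  have x4 := n2 x1
  have b1 : ∀ {y}, y ∈ L₀ → y ∉ 𝐍 K' → K' ≤ 𝐂 (cj y (wOf K')) := fun hy n => by
    rw [cj_W]
    exact g.str.cent _ _ (jc_conj g k1 k2 hy) (cj_le_of_mem k2 hy) k1 k2 (mt cj_eq_self_iff.1 n)
  have b2 := b1 x4 x3
  have b3 := b1 (mul_mem x4 x4) fun n => x3 (by
    have := normal_subgroupOf_of_norm (norm_pCoreOf 2 K)
    have a := pow_index_mem ((pCoreOf 2 K).subgroupOf K) ⟨x, x1⟩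
    rw [show ((pCoreOf 2 K).subgroupOf K).index = 3 from k.idx] at a
    have := mul_mem ((n5.trans (g.Q_norm_K k1 k2)) (mem_subgroupOf.1 a)) (inv_mem n)
    rwa [show ((⟨x, x1⟩ ^ 3 : K) : G) * (x * x)⁻¹ = x by push_cast; group] at this)
  have b4 := Nat.card_le_card_of_injective (fun w : wOf K' => (⟨x * ((w : G)⁻¹ * (x * w * x⁻¹)) * x⁻¹,
    conj_mem_of_mem_normalizer (norm_W K (le_normalizer x1)) (w2 w w.2), by
      rw [show x * ((w : G)⁻¹ * (x * w * x⁻¹)) * x⁻¹ = x * (w : G)⁻¹ * x⁻¹ * (x * x * w * (x * x)⁻¹) by group]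
      exact mul_mem (cent_symm b2 (conj_mem_cj.2 (inv_mem w.2))) (cent_symm b3 (conj_mem_cj.2 w.2))⟩ :
      ↥(wOf K ⊓ 𝐂 K'))) fun a b e => by
    have e1 := mul_left_cancel (mul_right_cancel (Subtype.ext_iff.1 e :))
    have e2 : (b : G) * (a : G)⁻¹ = x * (b * (a : G)⁻¹) * x⁻¹ := by
      calc _ = (b : G) * ((a : G)⁻¹ * (x * a * x⁻¹)) * (x * (a : G)⁻¹ * x⁻¹) := by group
        _ = _ := by rw [e1]; group
    have e3 : (b : G) * (a : G)⁻¹ ∈ wOf K' ⊓ 𝐂 K' := mem_inf.2 ⟨mul_mem b.2 (inv_mem a.2), by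
      rw [e2]; exact cent_symm b2 (conj_mem_cj.2 (mul_mem b.2 (inv_mem a.2)))⟩
    rw [k1.fpf, mem_bot, mul_inv_eq_one] at e3
    exact Subtype.ext e3.symm
  have b5 := (eq_of_le_of_card_ge inf_le_left (by rwa [k1.card, ← k.card] at b4)).ge.trans inf_le_right
  refine k1.not_cent (cent_symm fun w hw => ?_)
  have := mul_mem (cent_symm b2 (conj_mem_cj.2 hw)) (inv_mem (b5 (w2 w hw)))
  rwa [show x * w * x⁻¹ * (w⁻¹ * (x * w * x⁻¹))⁻¹ = w by group] at this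

end ZN

/-! ### straddling subgroups -/

theorem a_eq {A : Subgroup G} (hA : A ∈ mx 2 T) : maxElemAbelianOrder T = Nat.card A := by
  have : (fun A : Subgroup T => Nat.card A) '' maxElementaryAbelianSubgroups 2 T = {Nat.card A} := by
    rw [← H6J.image_maxElementaryAbelianSubgroups] at hA
    obtain ⟨A, h1, rfl⟩ := hA
    refine Set.eq_singleton_iff_unique_mem.2 ⟨⟨A, h1, (H6Basic.card_map_subtype A).symm⟩, ?_⟩
    rintro _ ⟨B, h2, rfl⟩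
    rw [H6J.maxElementaryAbelianSubgroups_eq] at h1 h2
    rw [H6Basic.card_map_subtype]
    exact H6J.mx_card_eq h2 h1
  rw [maxElemAbelianOrder, this, csSup_singleton]

theorem max_J (h : T ∈ maxStraddlingTwoSubgroups M) {T' : Subgroup G} (h' : T' ∈ straddlingTwoSubgroups M)
    (l : J 2 T ≤ T') : J 2 T' = J 2 T ∧ Nat.card T' ≤ Nat.card T := by
  obtain ⟨A, hA⟩ := H6J.mx_nonempty 2 T
  obtain ⟨B, hB⟩ := H6J.mx_nonempty 2 T'
  obtain ⟨h1, h2⟩ := h.2 T' h'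
  simp only [H6J.thompsonSubgroupOf_eq, a_eq hA, a_eq hB] at h1 h2
  obtain ⟨h3, h4⟩ := h2 (le_antisymm h1 (hB.2.2 A ((H6J.le_J hA).trans l) hA.2.1))
  have e := eq_of_le_of_card_ge (H6J.J_le_iff.2 fun C hC => H6J.le_J (H6J.mem_mx_of_card_le hB
    ((H6J.le_J hC).trans l) hC.2.1 (h1.trans (H6J.mx_card_eq hA hC).le))) h3
  exact ⟨e.symm, h4 (by rw [e])⟩

theorem max_of_syl (hT : SylIn 2 T ⊤) (h : T ∈ straddlingTwoSubgroups M) : T ∈ maxStraddlingTwoSubgroups M := by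
  refine ⟨h, fun T' h' => ?_⟩
  obtain ⟨g, -, l⟩ := hT.exists_conj_le h'.1 le_top
  obtain ⟨A, hA⟩ := H6J.mx_nonempty 2 T
  obtain ⟨B, hB⟩ := H6J.mx_nonempty 2 T'
  have hB' := H6J.cj_mem_mx_iff (g := g).2 hB
  simp only [H6J.thompsonSubgroupOf_eq, a_eq hA, a_eq hB]
  refine ⟨(card_cj g B).ge.trans (hA.2.2 _ (hB'.1.trans l) hB'.2.1), fun e => ⟨?_, fun _ =>
    hT.card_le h'.1 le_top⟩⟩
  rw [← card_cj g (J 2 T')]
  exact card_le_of_le ((H6J.J_cj g 2 T').ge.trans (H6J.J_le_J_of_mem (H6J.mem_mx_of_card_le hA (hB'.1.trans l)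
    hB'.2.1 (e.symm.trans (card_cj g B).symm).le) hB'.1 l))

theorem exists_maxStr (h : (straddlingTwoSubgroups M).Nonempty) : ∃ T, T ∈ maxStraddlingTwoSubgroups M := by
  obtain ⟨T, h1, h2⟩ := (Set.toFinite _).exists_maximalFor (fun T : Subgroup G => toLex (maxElemAbelianOrder T,
    toLex (Nat.card (thompsonSubgroupOf 2 T), Nat.card T))) _ h
  refine ⟨T, h1, fun T' h' => ?_⟩
  have := (le_total _ _).elim id (h2 h')
  simp only [Prod.Lex.toLex_le_toLex] at this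
  omega

theorem spe_iff_str (h1 : M ≠ ⊤) (h2 : 2 ∣ Nat.card M) : SPE 2 M ⊤ ↔ straddlingTwoSubgroups M = ∅ := by
  rw [Set.eq_empty_iff_forall_notMem]
  refine ⟨fun h T ⟨a, b, c, L, d, e, f⟩ => f ?_, fun h => ⟨h1.lt_top, h2, fun A a b c => inf_le_right.trans ?_⟩⟩
  · have n := norm_pCoreOf 2 L
    refine h.le_of_norm (le_sup_right.trans (h.le_of_inf_ne_bot (isPGroup_sup_of_norm a (isPGroup_pCoreOf 2 L)
      (e.trans n)) le_top fun x => b (le_bot_iff.1 ((le_inf le_sup_left c).trans x.le))))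
      (isPGroup_pCoreOf 2 L) (loc_O_ne d) le_top n
  · by_contra n
    exact h A ⟨b, c, a, _, loc b c, le_normalizer, n⟩

/-- the hypothesis of section 12.3 -/
structure Hy (M T : Subgroup G) : Prop where
  zn : ZN G
  O : pCore 2 G = ⊥
  nj : ∃ S, SylIn 2 S ⊤ ∧ 𝐍 (J 2 S) ≤ M
  mx : T ∈ maxStraddlingTwoSubgroups M

namespace Hy
variable (h : Hy M T)
include h

omit [Finite G] in
theorem pg : IsPGroup 2 T := h.mx.1.1

omit [Finite G] in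
theorem ne : T ≠ ⊥ := h.mx.1.2.1

omit [Finite G] in
theorem le : T ≤ M := h.mx.1.2.2.1

theorem J_ne : J 2 T ≠ ⊥ := H6J.J_ne_bot (p := 2) (n := 2) dvd_rfl (dvd_card_of_isPGroup h.pg h.ne)

theorem nj' (hS : SylIn 2 S M) : SylIn 2 S ⊤ ∧ 𝐍 (J 2 S) ≤ M := by
  obtain ⟨S₀, h1, h2⟩ := h.nj
  obtain ⟨g, hg, rfl⟩ := (h1.mono ((H6J.le_normalizer_J 2 _).trans h2) le_top).exists_conj hS
  refine ⟨h1.conj_mem (mem_top g), ?_⟩
  rw [show J 2 (cj g S₀) = cj g (J 2 S₀) from H6J.J_cj g 2 S₀, ← cj_normalizer]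
  exact cj_le_of_mem h2 hg

theorem NJ : 𝐍 (J 2 T) ≤ M := by
  by_contra n
  obtain ⟨T₁, h1, h2⟩ := exists_sylIn_ge h.pg (le_inf h.le (H6J.le_normalizer_J 2 T))
  have h3 := (max_J h.mx ⟨h1.pg, fun e => h.ne (le_bot_iff.1 (h2.trans e.le)), h1.le.trans inf_le_left, _,
    loc (pgJ h.pg) h.J_ne, h1.le.trans inf_le_right, n⟩ ((H6J.J_le 2 T).trans h2)).2
  obtain rfl := eq_of_le_of_card_ge h2 h3
  exact n (h.nj' (sylIn_of_normalizer (h1.mono (le_inf h.le le_normalizer)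
    (inf_le_inf_left _ (H6J.normalizer_le_normalizer_J 2 T))))).2

/-- KS 12.3.2 -/
theorem loc' (hL : IsTwoLocal L) (n : ¬ L ≤ M) {T₀ : Subgroup G} (h0 : SylIn 2 T₀ L) (l : J 2 T ≤ T₀) :
    J 2 T₀ = J 2 T ∧ T₀ ∈ straddlingTwoSubgroups M ∧ ¬ J 2 T₀ ≤ pCoreOf 2 L ∧ Nat.card T₀ ≤ Nat.card T := by
  have l' : J 2 T ≤ T₀ ⊓ M := le_inf l ((H6J.J_le 2 T).trans h.le)
  have s1 : T₀ ⊓ M ∈ straddlingTwoSubgroups M := ⟨h0.pg.to_le inf_le_left,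
    fun e => h.J_ne (le_bot_iff.1 (l'.trans e.le)), inf_le_right, L, hL, inf_le_left.trans h0.le, n⟩
  have e : T₀ ⊓ M = T₀ := by
    by_contra c
    obtain ⟨x, x1, x2, x3, -⟩ := PGBasic.exists_mem_normalizer h0.pg (lt_of_le_of_ne inf_le_left c)
    exact x2 ⟨x1, h.NJ ((max_J h.mx s1 l').1 ▸ H6J.normalizer_le_normalizer_J 2 _ x3)⟩
  rw [e] at s1
  obtain ⟨h1, h2⟩ := max_J h.mx s1 l
  refine ⟨h1, s1, fun c => n (le_trans ?_ h.NJ), h2⟩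
  rw [← h1, ← H6J.J_eq_of_J_le c (pCoreOf_le_syl h0)]
  exact (norm_pCoreOf 2 L).trans (H6J.normalizer_le_normalizer_J 2 _)

theorem syl (hL : IsTwoLocal L) (n : ¬ L ≤ M) (l : T ≤ L) : SylIn 2 T L := by
  obtain ⟨T₀, h1, h2⟩ := exists_sylIn_ge h.pg l
  rwa [eq_of_le_of_card_ge h2 (h.loc' hL n h1 ((H6J.J_le 2 T).trans h2)).2.2.2]

theorem exists_hl (hL : IsTwoLocal L) (n : ¬ L ≤ M) (l : J 2 T ≤ L) : ∃ T₀, HL T₀ L ∧ J 2 T₀ = J 2 T := by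
  obtain ⟨T₀, h1, h2⟩ := exists_sylIn_ge (pgJ h.pg) l
  exact ⟨T₀, h.zn.hl_loc h1 hL, (h.loc' hL n h1 h2).1⟩

theorem zero (k : JC (J 2 T) K) (n : ¬ K ≤ M) (S : Subgroup G) (l : J 2 T ≤ S) (hS : SylIn 2 S (𝐍 (wOf K))) :
    J 2 S = J 2 T :=
  (h.loc' (loc (ea_pg (ea_W K)) k.W_ne) (fun c => n ((le_sup_left.trans k.normW).trans c)) hS l).1

/-- KS 12.3.3 -/
theorem exists_K : ∃ K, JC (J 2 T) K ∧ ¬ K ≤ M ∧ pCoreOf 2 (K ⊔ T) ≠ ⊥ := by
  obtain ⟨L, h1, h2, h3⟩ := h.mx.1.2.2.2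
  have g := h.zn.hl_loc (h.syl h1 h3 h2) h1
  by_contra! c
  refine h3 (le_of g (inf_le_right.trans h.NJ) fun K k l => by_contra fun n => loc_O_ne h1 (le_bot_iff.1 ?_))
  exact (le_pCoreOf (le_sup_of_le_right g.Q_le) (isPGroup_pCoreOf 2 L)
    ((sup_le l h2).trans (norm_pCoreOf 2 L))).trans (c K k n).le

/-- KS 12.3.4 -/
theorem uniq (k : JC (J 2 T) K) (n : ¬ K ≤ M) {L L' : Subgroup G} (hL : IsMaximalTwoLocal L)
    (hL' : IsMaximalTwoLocal L') (l : K ⊔ J 2 T ≤ L) (l' : K ⊔ J 2 T ≤ L') : L' = L := by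
  let E : Subgroup G → Subgroup G := fun U => ⨆ K' : {K' // JC (J 2 T) K' ∧ K' ≤ U}, K'.1
  have e1 : ∀ U K', JC (J 2 T) K' → K' ≤ U → K' ≤ E U := fun U K' a b =>
    le_iSup (fun K' : {K' // JC (J 2 T) K' ∧ K' ≤ U} => K'.1) ⟨K', a, b⟩
  obtain ⟨T₀, g0, j0⟩ := h.exists_hl (loc (ea_pg (ea_W K)) k.W_ne)
    (fun c => n ((le_sup_left.trans k.normW).trans c)) (le_sup_right.trans k.normW)
  suffices ∀ U, IsMaximalTwoLocal U → K ⊔ J 2 T ≤ U → U = 𝐍 (pCoreOf 2 (E (𝐍 (wOf K)))) by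
    rw [this L hL l, ← this L' hL' l']
  intro U hU lU
  have tr : ∀ {A B K' : Subgroup G}, A = B → JC B K' → JC A K' := fun e a => by rwa [e]
  obtain ⟨T₁, g1, j1⟩ := h.exists_hl hU.1 (fun c => n ((le_sup_left.trans lU).trans c)) (le_sup_right.trans lU)
  have a1 : ∀ K', JC (J 2 T) K' → K' ≤ U → K' ≤ 𝐍 K := fun K' a b =>
    norm_K g1 (tr j1 k) (le_sup_left.trans lU) (tr j1 a) b
  have a2 : U ≤ 𝐍 (E U) := le_normalizer_iff_cj.2 fun x hx => by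
    rw [cj_iSup]
    exact iSup_le fun K' => e1 _ _ (tr j1.symm (jc_conj g1 (tr j1 K'.2.1) K'.2.2 hx)) (cj_le_of_mem K'.2.2 hx)
  have a3 := max_eq hU (isPGroup_pCoreOf 2 (E U)) (fun e => k.W_ne (le_bot_iff.1 (((W_le_O K).trans
    (pCoreOf_le_of_norm (e1 U K k (le_sup_left.trans lU)) (iSup_le fun K' => a1 _ K'.2.1 K'.2.2))).trans e.le)))
    (norm_pCoreOf_of_norm a2)
  rw [← a3]
  congr 3
  refine le_antisymm (iSup_le fun K' => e1 _ _ K'.2.1 ((a1 _ K'.2.1 K'.2.2).trans (norm_W K)))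
    (iSup_le fun K' => e1 _ _ K'.2.1 (le_trans (norm_pCoreOf_of_norm (norm_iSup fun K'' => ?_)) a3.le))
  exact norm_K g0 (tr j0 K''.2.1) ((a1 _ K''.2.1 K''.2.2).trans (norm_W K)) (tr j0 K'.2.1) K'.2.2

theorem exists_L (n : pCoreOf 2 (K ⊔ T) ≠ ⊥) : ∃ L, IsMaximalTwoLocal L ∧ K ⊔ T ≤ L := by
  obtain ⟨L, h1, h2⟩ := exists_max (loc (isPGroup_pCoreOf 2 _) n)
  exact ⟨L, h1, (norm_pCoreOf 2 _).trans h2⟩

end Hy

end CA.ZN3
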