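import Cfsg.Agent.Lib.Loc.ZN3
import Cfsg.Agent.Lib.Loc.AmbS3b

/-!
`N`-groups of local characteristic two: the centre of `J(T)` and the amalgam.
-/

set_option autoImplicit false

namespace CA.ZN4

open Subgroup Cfsg CA.Amb CA.AmbSyl CA.AmbCore CA.AmbRes CA.AmbChar CA.AmbSpe CA.AmbRed CA.AmbIso CA.AmbS3 CA.ZN1
open CA.ZN2 CA.ZN3
open CA.H6J (mx J IsAb)
open scoped commutatorElement

variable {G : Type*} [Group G] [Finite G] {S T L K K' M Q : Subgroup G}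

theorem exists_gen_two {D : Subgroup G} (h : Nat.card D = 2) : ∃ d, d ≠ 1 ∧ d * d = 1 ∧ D = zpowers d := by
  obtain ⟨d, h1, h2, h3⟩ := H6KS.exists_zpowers (p := 2) h
  exact ⟨d, h1, by rwa [← pow_two], h3⟩

omit [Finite G] in
theorem mem_zpowers_two {d x : G} (h : d * d = 1) (hx : x ∈ zpowers d) : x = 1 ∨ x = d := by
  obtain ⟨n, rfl⟩ := hx
  have : d ^ n = d ^ (n % 2) := zpow_eq_zpow_emod' n (by rwa [pow_two])
  rcases Int.emod_two_eq_zero_or_one n with e | e <;> simp [this, e]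

theorem four_cases {Z : Subgroup G} (hZ : Nat.card Z = 4) (ea : IsElementaryAbelian 2 Z) {a b x : G} (ha : a ∈ Z)
    (hb : b ∈ Z) (a1 : a ≠ 1) (b1 : b ≠ 1) (n : a ≠ b) (hx : x ∈ Z) : x = 1 ∨ x = a ∨ x = b ∨ x = a * b := by
  have a2 := mul_self_of_ea ea ha
  have i : (zpowers a).relIndex Z = 2 := by
    have := card_mul_relIndex (zpowers_le.2 ha)
    rw [Nat.card_zpowers, orderOf_eq_prime (p := 2) (by rwa [pow_two]) a1, hZ] at this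
    omega
  by_cases h : x ∈ zpowers a
  · exact (mem_zpowers_two a2 h).elim Or.inl fun e => Or.inr (Or.inl e)
  have h1 : b ∉ zpowers a := fun l => (mem_zpowers_two a2 l).elim b1 n.symm
  rcases mem_zpowers_two a2 ((mul_mem_of_two i hx (inv_mem hb)).2 (iff_of_false h (mt inv_mem_iff.1 h1))) with e | e
  · exact Or.inr (Or.inr (Or.inl (mul_inv_eq_one.1 e)))
  · exact Or.inr (Or.inr (Or.inr (mul_inv_eq_iff_eq_mul.1 e)))

theorem le_cent_of_two {Z : Subgroup G} (hZ : Nat.card Z = 4) (ea : IsElementaryAbelian 2 Z) {a b g : G} (ha : a ∈ Z)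
    (hb : b ∈ Z) (a1 : a ≠ 1) (b1 : b ≠ 1) (n : a ≠ b) (h1 : g * a * g⁻¹ = a) (h2 : g * b * g⁻¹ = b) : g ∈ 𝐂 Z :=
  fun x hx => by
    refine (mul_inv_eq_iff_eq_mul.1 ?_).symm
    rcases four_cases hZ ea ha hb a1 b1 n hx with rfl | rfl | rfl | rfl
    · simp
    · exact h1
    · exact h2
    · rw [← conj_mul, h1, h2]

/-- a component together with its maximal `2`-local overgroup -/
structure Cf (M T K L : Subgroup G) : Prop extends Hy M T where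
  jc : JC (J 2 T) K
  nle : ¬ K ≤ M
  max : IsMaximalTwoLocal L
  le' : K ⊔ T ≤ L

theorem exists_cf (h : Hy M T) : ∃ K L, Cf M T K L := by
  obtain ⟨K, k, n, o⟩ := h.exists_K
  obtain ⟨L, h1, h2⟩ := h.exists_L o
  exact ⟨K, L, h, k, n, h1, h2⟩

/-- the two involutions of `Ω₁(Z(J(T)))` singled out by `K` -/
structure Dw (J₀ K : Subgroup G) (d w : G) : Prop where
  four : Nat.card (OZ 2 J₀) = 4
  d1 : d ≠ 1
  w1 : w ≠ 1
  eD : OZ 2 J₀ ⊓ 𝐂 (K ⊔ J₀ : Subgroup G) = zpowers d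
  eW : OZ 2 J₀ ⊓ wOf K = zpowers w

theorem card_Z0 {J₀ : Subgroup G} (k : JC J₀ K) (hJ : IsPGroup 2 J₀) :
    Nat.card (OZ 2 J₀) = Nat.card ↥(OZ 2 J₀ ⊓ 𝐂 (K ⊔ J₀ : Subgroup G)) * 2 := by
  obtain ⟨h1, h2⟩ := k.Z0 hJ
  have := card_sup_mul_card_inf (H := OZ 2 J₀ ⊓ 𝐂 (K ⊔ J₀ : Subgroup G)) (N := OZ 2 J₀ ⊓ wOf K)
    (norm_of_centralizer ((inf_le_left.trans (ea_le_cent (ea_OZ 2 _))).trans (centralizer_anti inf_le_left)))
  rwa [h2, h1, k.eq_bot (inf_le_right.trans inf_le_right) (le_sup_left.trans (cent_symm (inf_le_left.trans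
    inf_le_right))), card_bot, mul_one] at this

theorem exists_dw {J₀ : Subgroup G} (k : JC J₀ K) (hJ : IsPGroup 2 J₀) (h : Nat.card (OZ 2 J₀) = 4) :
    ∃ d w, Dw J₀ K d w := by
  have h1 := card_Z0 k hJ
  obtain ⟨d, d1, -, d3⟩ := exists_gen_two (D := OZ 2 J₀ ⊓ 𝐂 (K ⊔ J₀ : Subgroup G)) (by omega)
  obtain ⟨w, w1, -, w3⟩ := exists_gen_two (k.Z0 hJ).1
  exact ⟨d, w, h, d1, w1, d3, w3⟩

namespace Dw
variable {J₀ : Subgroup G} {d w : G} (x : Dw J₀ K d w)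
include x

omit [Finite G] in
theorem dm : d ∈ OZ 2 J₀ ⊓ 𝐂 (K ⊔ J₀ : Subgroup G) := x.eD.ge (mem_zpowers d)

omit [Finite G] in
theorem wm : w ∈ OZ 2 J₀ ⊓ wOf K := x.eW.ge (mem_zpowers w)

theorem ne (k : JC J₀ K) : d ≠ w := fun e => x.w1 (mem_bot.1 (k.fpf ▸ mem_inf.2
  ⟨x.wm.2, centralizer_anti le_sup_left (e ▸ x.dm.2)⟩))

theorem cases (k : JC J₀ K) {y : G} (hy : y ∈ OZ 2 J₀) : y = 1 ∨ y = d ∨ y = w ∨ y = d * w :=
  four_cases x.four (ea_OZ 2 _) x.dm.1 x.wm.1 x.d1 x.w1 (x.ne k) hy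

end Dw

theorem swap_or (h : HL T L) (k : JC (J 2 T) K) (l : K ≤ L) {d w g : G} (x : Dw (J 2 T) K d w) (g1 : g ∈ L)
    (g2 : g ∈ 𝐍 (J 2 T)) : g ∈ 𝐂 (OZ 2 (J 2 T)) ∨ (g * d * g⁻¹ = w ∧ g * w * g⁻¹ = d) := by
  have g3 := cj_eq_self (normalizer_le_OZ 2 _ g2)
  have d2 := mul_self_of_ea (ea_OZ 2 _) x.dm.1
  have w2 := mul_self_of_ea (ea_OZ 2 _) x.wm.1
  have aux : ∀ {g}, g ∈ L → g ∈ 𝐍 (J 2 T) → g ∉ 𝐍 K → g * w * g⁻¹ = d := fun {g} g1 g2 n =>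
    (mem_zpowers_two d2 (x.eD.le ⟨conj_mem_of_mem_normalizer (normalizer_le_OZ 2 _ g2) x.wm.1, by
      rw [Amb.centralizer_sup]
      exact ⟨cent_symm (h.str.cent _ _ (jc_conj h k l g1) (cj_le_of_mem l g1) k l (mt cj_eq_self_iff.1 n))
        (cj_W g K ▸ conj_mem_cj.2 x.wm.2), OZ_le_cent 2 _ (conj_mem_of_mem_normalizer (normalizer_le_OZ 2 _ g2)
        x.wm.1)⟩⟩)).resolve_left (mt conj_eq_one_iff.1 x.w1)
  by_cases n : g ∈ 𝐍 K
  · refine Or.inl (le_cent_of_two x.four (ea_OZ 2 _) x.dm.1 x.wm.1 x.d1 x.w1 (x.ne k)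
      ((mem_zpowers_two d2 (x.eD.le ?_)).resolve_left (mt conj_eq_one_iff.1 x.d1))
      ((mem_zpowers_two w2 (x.eW.le ?_)).resolve_left (mt conj_eq_one_iff.1 x.w1)))
    · exact conj_mem_of_mem_normalizer (H6Basic.mem_normalizer_inf (normalizer_le_OZ 2 _ g2)
        (H6Basic.mem_normalizer_centralizer (H6Basic.mem_normalizer_sup n g2))) x.dm
    · exact conj_mem_of_mem_normalizer (H6Basic.mem_normalizer_inf (normalizer_le_OZ 2 _ g2) (norm_W K n)) x.wm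
  · refine Or.inr ⟨?_, aux g1 g2 n⟩
    rw [← aux (inv_mem g1) (inv_mem g2) (mt inv_mem_iff.1 n)]; group

namespace Cf
variable (c : Cf M T K L)
include c

omit [Finite G] in
theorem KL : K ≤ L := le_sup_left.trans c.le'

omit [Finite G] in
theorem TL : T ≤ L := le_sup_right.trans c.le'

omit [Finite G] in
theorem KJ : K ⊔ J 2 T ≤ L := (sup_le_sup_left (H6J.J_le 2 T) K).trans c.le'

theorem sylL : SylIn 2 T L := c.syl c.max.1 (fun l => c.nle (c.KL.trans l)) c.TL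

theorem hl : HL T L := c.zn.hl_loc c.sylL c.max.1

theorem eq {L' : Subgroup G} (h : IsMaximalTwoLocal L') (l : K ⊔ J 2 T ≤ L') : L' = L :=
  c.uniq c.jc c.nle c.max h c.KJ l

theorem loc_le {N : Subgroup G} (h : IsTwoLocal N) (l : K ⊔ J 2 T ≤ N) : N ≤ L := by
  obtain ⟨L', h1, h2⟩ := exists_max h
  exact h2.trans (c.eq h1 (l.trans h2)).le

theorem cent_le {d : G} (h1 : d ≠ 1) (h2 : d ∈ OZ 2 (J 2 T) ⊓ 𝐂 (K ⊔ J 2 T : Subgroup G)) : centralizer {d} ≤ L := by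
  rw [← centralizer_zpowers]
  exact (centralizer_le_normalizer _).trans (c.loc_le (loc (isPGroup_zpowers' (mem_OZ.1 h2.1).2.2)
    (by rwa [Ne, zpowers_eq_bot])) (norm_of_centralizer (cent_symm (zpowers_le.2 h2.2))))

theorem mem {g : G} (h1 : g ∈ 𝐍 (J 2 T)) (h2 : cj g K ≤ L) : g ∈ L := by
  have := c.eq (max_conj c.max g⁻¹) (sup_le (cj_le_iff.1 h2) (cj_le_iff.1 ((cj_eq_self h1).le.trans
    (le_sup_right.trans c.KJ))))
  exact inv_mem_iff.1 (max_norm c.max (cj_eq_self_iff.1 this))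

theorem OZ_le (l : T ≤ S) : OZ 2 S ≤ OZ 2 T := ZN.OZ_le c.sylL (c.zn.cent_le c.max.1) l

omit c in
theorem OZ_le' (T : Subgroup G) : OZ 2 T ≤ OZ 2 (J 2 T) := H6J.omegaOne_Z_le 2 T

theorem normZ {d : G} (h1 : d ≠ 1) (h2 : d ∈ OZ 2 (J 2 T) ⊓ 𝐂 (K ⊔ J 2 T : Subgroup G)) :
    𝐍 (OZ 2 (J 2 T)) = 𝐍 (J 2 T) := by
  refine le_antisymm ?_ (normalizer_le_OZ 2 _)
  obtain ⟨S, hS, l⟩ := exists_sylIn_ge c.pg le_top
  have a1 : 𝐂 (OZ 2 (J 2 T)) ≤ L := (le_cent_of_mem (cent_symm le_rfl h2.1)).trans (c.cent_le h1 h2)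
  have a2 := (centralizer_anti ((c.OZ_le l).trans (OZ_le' T))).trans (c.zn.z S hS)
  have a3 := sylIn_inf_cent (c.sylL.mono (le_inf c.TL (norm_OZ (p := 2) (H6J.le_normalizer_J 2 T))) inf_le_left) inf_le_right
  rw [inf_eq_right.2 (le_inf a1 (centralizer_le_normalizer _))] at a3
  have a4 := pCoreOf_eq_of_syl a3 (norm_inf ((norm_inf (norm_of_le a1) a2).trans (by
    rw [c.sylL.max (hS.pg.to_le inf_le_right) (le_inf c.TL l) inf_le_left])) le_normalizer)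
  have a5 := (norm_pCoreOf_of_norm (p := 2) (normalizer_le_normalizer_centralizer (OZ 2 (J 2 T)))).trans
    (H6J.normalizer_le_normalizer_J 2 _)
  rwa [a4, H6J.J_eq_of_J_le (le_inf (H6J.J_le 2 T) (le_cent_OZ 2 _)) inf_le_left] at a5

theorem syl_top (n : 𝐍 (J 2 T) ≤ L) : SylIn 2 T ⊤ := sylIn_of_normalizer (c.sylL.mono (le_inf le_top le_normalizer)
  (inf_le_right.trans ((H6J.normalizer_le_normalizer_J 2 T).trans n)))

theorem hy' (n : 𝐍 (J 2 T) ≤ L) (st : ∃ L', IsTwoLocal L' ∧ T ≤ L' ∧ ¬ L' ≤ L) : Hy L T :=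
  ⟨c.zn, c.O, ⟨T, c.syl_top n, n⟩, max_of_syl (c.syl_top n) ⟨c.pg, c.ne, c.TL, st⟩⟩

/-- KS 12.3.5 -/
theorem alt (st : ∃ L', IsTwoLocal L' ∧ T ≤ L' ∧ ¬ L' ≤ L) (hS : SylIn 2 S ⊤) (l : T ≤ S) :
    (OZ 2 S = OZ 2 (J 2 T) ∧ Nat.card (OZ 2 (J 2 T)) = 2) ∨
    (OZ 2 S = OZ 2 (J 2 T) ∧ Nat.card (OZ 2 (J 2 T)) = 4 ∧ T = S) ∨ (OZ 2 T = OZ 2 (J 2 T) ∧
      Nat.card (OZ 2 (J 2 T)) = 4 ∧ (L ⊓ 𝐂 (OZ 2 (J 2 T))).relIndex (𝐍 (OZ 2 (J 2 T))) = 2) := by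
  have h1 := card_Z0 c.jc (pgJ c.pg)
  have s1 := (c.OZ_le l).trans (OZ_le' T)
  have s0 := OZ_ne_bot hS.pg fun e => c.ne (le_bot_iff.1 (l.trans e.le))
  have ea := ea_OZ 2 (J 2 T)
  rcases (OZ 2 (J 2 T) ⊓ 𝐂 (K ⊔ J 2 T : Subgroup G)).bot_or_exists_ne_one with e | ⟨d₀, d1, d2⟩
  · rw [e, card_bot] at h1
    exact Or.inl ⟨H6KS.eq_of_card_prime (p := 2) h1 s1 s0, h1⟩
  right
  have h2 := PGBasic.le_card_of_ne_bot ((isPGroup_OZ 2 _).to_le inf_le_left)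
    (fun e => d2 (mem_bot.1 (e ▸ d1)) : OZ 2 (J 2 T) ⊓ 𝐂 (K ⊔ J 2 T : Subgroup G) ≠ ⊥)
  have eZ : T ≤ 𝐂 (OZ 2 (J 2 T)) → OZ 2 T = OZ 2 (J 2 T) := fun a =>
    le_antisymm (OZ_le' T) (le_OZ' ea ((AmbSpe.OZ_le 2 _).trans (H6J.J_le 2 T)) (cent_symm a))
  by_cases n : 𝐍 (J 2 T) ≤ L
  · obtain rfl := ((c.syl_top n).max hS.pg l le_top).symm
    obtain ⟨K', L', c'⟩ := exists_cf (c.hy' n st)
    have h3 := card_Z0 c'.jc (pgJ c.pg)
    have h4 := H6Basic.card_mul_card_le (inf_le_left : OZ 2 (J 2 T) ⊓ 𝐂 (K ⊔ J 2 T : Subgroup G) ≤ _)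
      (inf_le_left : OZ 2 (J 2 T) ⊓ 𝐂 (K' ⊔ J 2 T : Subgroup G) ≤ _)
    have e0 : OZ 2 (J 2 T) ⊓ 𝐂 (K ⊔ J 2 T : Subgroup G) ⊓ (OZ 2 (J 2 T) ⊓ 𝐂 (K' ⊔ J 2 T : Subgroup G)) = ⊥ :=
      (eq_bot_iff_forall _).2 fun y hy => by_contra fun y1 => c'.nle ((le_cent_of_mem (centralizer_anti le_sup_left
        hy.2.2)).trans (c.cent_le y1 hy.1))
    rw [e0, card_bot, mul_one, h3, mul_comm] at h4
    have h5 := Nat.le_of_mul_le_mul_left h4 Nat.card_pos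
    have h6 : Nat.card (OZ 2 (J 2 T)) = 4 := by omega
    obtain ⟨d, w, x⟩ := exists_dw c.jc (pgJ c.pg) h6
    obtain ⟨d', w', x'⟩ := exists_dw c'.jc (pgJ c.pg) h6
    refine Or.inl ⟨eZ fun s hs => by_contra fun n1 => ?_, h6, rfl⟩
    obtain ⟨a1, a2⟩ := (swap_or c.hl c.jc c.KL x (c.TL hs) (H6J.le_normalizer_J 2 T hs)).resolve_left n1
    obtain ⟨a3, -⟩ := (swap_or c'.hl c'.jc c'.KL x' (c'.TL hs) (H6J.le_normalizer_J 2 T hs)).resolve_left n1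
    have a4 := le_cent_of_mem (centralizer_anti le_sup_left x'.dm.2)
    have a5 := c.cent_le x.d1 x.dm
    rcases x.cases c.jc x'.dm.1 with e | e | e | e
    · exact x'.d1 e
    · exact c'.nle (a4.trans (e ▸ a5))
    · rw [e, ← a1, ← cj_centralizer_singleton] at a4
      exact c'.nle (a4.trans (cj_le_of_mem a5 (c.TL hs)))
    · refine x'.ne c'.jc (a3.symm.trans ?_).symm
      rw [e, ← conj_mul, a1, a2, comm_of_ea ea x.wm.1 x.dm.1]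
  obtain ⟨y, y1, y2⟩ := SetLike.not_le_iff_exists.1 n
  have h4 := H6Basic.card_mul_card_le (inf_le_left : OZ 2 (J 2 T) ⊓ 𝐂 (K ⊔ J 2 T : Subgroup G) ≤ _)
    (cj_le_of_le (inf_le_left : OZ 2 (J 2 T) ⊓ 𝐂 (K ⊔ J 2 T : Subgroup G) ≤ _) (normalizer_le_OZ 2 _ y1))
  have e0 : OZ 2 (J 2 T) ⊓ 𝐂 (K ⊔ J 2 T : Subgroup G) ⊓ cj y (OZ 2 (J 2 T) ⊓ 𝐂 (K ⊔ J 2 T : Subgroup G)) = ⊥ :=
    (eq_bot_iff_forall _).2 fun u hu => by_contra fun u1 => y2 (c.mem y1 ((le_cent_of_mem (by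
      rw [← cj_centralizer]; exact cj_mono y (inf_le_right.trans (centralizer_anti le_sup_left)) hu.2)).trans
      (c.cent_le u1 hu.1)))
  rw [e0, card_bot, mul_one, card_cj, h1] at h4
  have h5 := Nat.le_of_mul_le_mul_left h4 Nat.card_pos
  have h6 : Nat.card (OZ 2 (J 2 T)) = 4 := by omega
  obtain ⟨d, w, x⟩ := exists_dw c.jc (pgJ c.pg) h6
  have f : ∀ {g}, g * d * g⁻¹ = d → g ∈ L := fun e => c.cent_le x.d1 x.dm (mem_cent_iff.2 e)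
  have cm : ∀ {g u}, g ∈ 𝐍 (J 2 T) → u ∈ OZ 2 (J 2 T) → g * u * g⁻¹ ∈ OZ 2 (J 2 T) := fun a b =>
    conj_mem_of_mem_normalizer (normalizer_le_OZ 2 _ a) b
  have p1 : L ⊓ 𝐍 (J 2 T) ≤ 𝐂 (OZ 2 (J 2 T)) := fun g hg => by
    replace hg := mem_inf.1 hg
    refine (swap_or c.hl c.jc c.KL x hg.1 hg.2).resolve_right fun ⟨a1, a2⟩ => y2 ?_
    rcases x.cases c.jc (cm y1 x.dm.1) with e | e | e | e
    · exact absurd (conj_eq_one_iff.1 e) x.d1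
    · exact f e
    · exact (mul_mem_cancel_left hg.1).1 (f (by
        conv_rhs => rw [← a2, ← e]
        group))
    rcases x.cases c.jc (cm y1 x.wm.1) with e' | e' | e' | e'
    · exact absurd (conj_eq_one_iff.1 e') x.w1
    · exact (mul_mem_cancel_right hg.1).1 (f (by
        conv_rhs => rw [← e', ← a1]
        group))
    · exact (mul_mem_cancel_left hg.1).1 ((mul_mem_cancel_right hg.1).1 (f (by
        conv_rhs => rw [← a2, ← e', ← a1]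
        group)))
    · exact absurd (mul_left_cancel (mul_right_cancel (e.trans e'.symm))) (x.ne c.jc)
  have p2 := eZ ((le_inf c.TL (H6J.le_normalizer_J 2 T)).trans p1)
  obtain ⟨z, z1, z2⟩ := (bot_or_exists_ne_one _).resolve_left s0
  by_cases q : ∃ g ∈ 𝐍 (J 2 T), g * d * g⁻¹ = z
  · obtain ⟨g, -, e⟩ := q
    have := c.sylL.card_le (isPGroup_cj hS.pg g⁻¹) (cj_le_iff.2 ((le_cent_of_mem (OZ_le_cent 2 S z1)).trans (by
      rw [← e, ← cj_centralizer_singleton, inv_inv]; exact cj_mono g (c.cent_le x.d1 x.dm))))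
    rw [card_cj] at this
    obtain rfl := eq_of_le_of_card_ge l this
    exact Or.inl ⟨p2, h6, rfl⟩
  push Not at q
  refine Or.inr ⟨p2, h6, ?_⟩
  rw [c.normZ x.d1 x.dm]
  have q1 : ∀ g ∈ 𝐍 (J 2 T), g ∉ L → g * d * g⁻¹ = d * z := fun g g1 g2 => by
    rcases four_cases h6 ea x.dm.1 (s1 z1) x.d1 z2 (by simpa using q 1 (one_mem _)) (cm g1 x.dm.1) with e | e | e | e
    · exact absurd (conj_eq_one_iff.1 e) x.d1
    · exact absurd (f e) g2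
    · exact absurd e (q g g1)
    · exact e
  refine relIndex_eq_two_iff_exists_notMem_and'.2 ⟨y⁻¹, inv_mem y1, fun a => y2 (inv_mem_iff.1 (mem_inf.1 a).1), fun b hb => ?_⟩
  by_cases b1 : b ∈ L
  · exact Or.inr ⟨b1, p1 ⟨b1, hb⟩⟩
  · have : y⁻¹ * b ∈ L := f (by
      calc _ = y⁻¹ * (b * d * b⁻¹) * y := by group
        _ = d := by rw [q1 b hb b1, ← q1 y y1 y2]; group)
    exact Or.inl ⟨this, p1 ⟨this, mul_mem (Subgroup.inv_mem _ y1) hb⟩⟩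

theorem OZ_eq (st : ∃ L', IsTwoLocal L' ∧ T ≤ L' ∧ ¬ L' ≤ L) : OZ 2 T = OZ 2 (J 2 T) := by
  obtain ⟨S, hS, l⟩ := exists_sylIn_ge c.pg le_top
  rcases c.alt st hS l with ⟨a, -⟩ | ⟨a, -, rfl⟩ | ⟨a, -⟩
  · exact le_antisymm (OZ_le' T) (a.ge.trans (c.OZ_le l))
  · exact a
  · exact a

end Cf

/-- the data of KS 12.3.7 -/
structure Pc (T K L : Subgroup G) : Prop where
  hl : HL T L
  jc : JC (J 2 T) K
  le : K ≤ L
  oz : OZ 2 T = OZ 2 (J 2 T)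
  max : IsMaximalTwoLocal L
  cent : 𝐂 (pCoreOf 2 L) ≤ pCoreOf 2 L
  uniq : ∀ L', IsMaximalTwoLocal L' → K ⊔ T ≤ L' → L' = L

theorem Cf.pc (c : Cf M T K L) (st : ∃ L', IsTwoLocal L' ∧ T ≤ L' ∧ ¬ L' ≤ L) : Pc T K L :=
  ⟨c.hl, c.jc, c.KL, c.OZ_eq st, c.max, c.zn.cent_le c.max.1,
    fun _ a b => c.eq a ((sup_le_sup_left (H6J.J_le 2 T) K).trans b)⟩

theorem Cf.exists_pc (c : Cf M T K L) (st : ∃ L', IsTwoLocal L' ∧ T ≤ L' ∧ ¬ L' ≤ L) :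
    ∃ K' L', Pc T K' L' ∧ L ≠ L' := by
  by_cases n : 𝐍 (J 2 T) ≤ L
  · obtain ⟨K', L', c'⟩ := exists_cf (c.hy' n st)
    have : L ≠ L' := fun e => c'.nle (e ▸ c'.KL)
    exact ⟨K', L', c'.pc ⟨L, c.max.1, c.TL, fun l => this (c.max.2 _ c'.max.1 l).symm⟩, this⟩
  have p := c.pc st
  have : ¬ 𝐍 T ≤ L := fun l => n (by
    have hT := sylIn_of_normalizer (c.sylL.mono (le_inf le_top le_normalizer) (inf_le_right.trans l))
    have h1 := pCoreOf_eq_of_syl (hT.mono (le_cent_OZ 2 T) le_top) (c.zn.z T hT)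
    have h2 := norm_pCoreOf_of_norm (p := 2) (normalizer_le_normalizer_centralizer (OZ 2 T))
    rw [h1, p.oz] at h2
    exact ((normalizer_le_OZ 2 _).trans h2).trans l)
  obtain ⟨g, g1, g2⟩ := SetLike.not_le_iff_exists.1 this
  have m := max_conj c.max g
  refine ⟨cj g K, cj g L, ⟨c.zn.hl_loc (cj_eq_self g1 ▸ c.sylL.conj g) m.1,
    c.jc.conj_norm (H6J.normalizer_le_normalizer_J 2 T g1), cj_mono g c.KL, p.oz, m, c.zn.cent_le m.1,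
    fun L' a b => ?_⟩, fun e => g2 (max_norm c.max (cj_eq_self_iff.1 e.symm))⟩
  rw [← p.uniq _ (max_conj a g⁻¹) (cj_le_iff.1 (by rwa [cj_sup, cj_eq_self g1])), cj_cj_inv]

namespace Pc
variable (p : Pc T K L)
include p

/-- KS 12.3.6 -/
theorem norm : T ≤ 𝐍 K := norm_of_center p.hl p.jc p.le fun e => ne_bot_of_two (p.jc.Z0 (pgJ p.hl.syl.pg)).1
  (eq_bot_iff.2 (e ▸ inf_le_inf_right _ (p.oz.ge.trans (le_inf (OZ_le 2 T) (OZ_le_cent 2 T)))))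

omit [Finite G] in
theorem le' : K ⊔ T ≤ L := sup_le p.le p.hl.syl.le

omit [Finite G] in
theorem syl : SylIn 2 T (K ⊔ T) := p.hl.syl.mono le_sup_right p.le'

theorem O_le : pCoreOf 2 L ≤ pCoreOf 2 (K ⊔ T) :=
  pCoreOf_le_pCoreOf_of_le p.le' (le_sup_of_le_right p.hl.Q_le)

theorem cent' : 𝐂 (pCoreOf 2 (K ⊔ T)) ≤ pCoreOf 2 (K ⊔ T) :=
  ((centralizer_anti p.O_le).trans p.cent).trans p.O_le

theorem inf_eq : T ⊓ K = pCoreOf 2 K := (p.jc.sylO.max (p.syl.pg.to_le inf_le_left) (le_inf ((p.hl.O_le p.jc p.le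
  (p.hl.str.norm _ p.jc p.le)).trans p.hl.Q_le) (pCoreOf_le 2 K)) inf_le_right)

theorem idx3 : T.relIndex (K ⊔ T) = 3 := by
  rw [sup_comm, relIndex_sup_right_of_le p.norm le_rfl, ← inf_relIndex_right, p.inf_eq, p.jc.idx]

theorem normW : K ⊔ T ≤ 𝐍 (wOf K) := (sup_le le_normalizer p.norm).trans (norm_W K)

theorem O_eq : pCoreOf 2 (K ⊔ T) = T ⊓ 𝐂 (wOf K) := by
  refine le_antisymm (le_inf (pCoreOf_le_syl p.syl) (p.jc.le_cent (isPGroup_pCoreOf 2 _)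
    (le_sup_left.trans (norm_pCoreOf 2 _)) ((pCoreOf_le 2 _).trans p.normW)))
    ((inf_le_inf_right _ le_sup_right).trans (le_pCoreOf inf_le_left (isPGroup_of_res_le (isPGroup_pCoreOf 2 K) ?_)
      (norm_inf le_normalizer (norm_centralizer p.normW))))
  rcases PGBasic.eq_or_eq_of_relIndex_prime Nat.prime_three p.jc.idx (K := K ⊓ 𝐂 (wOf K))
    (le_inf (pCoreOf_le 2 K) (O_le_cent K)) inf_le_left with l | l
  · exact (le_inf (res_le_of_le_sup p.syl.pg p.norm (inf_le_left.trans (sup_comm _ _).le))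
      ((res_le _ _).trans inf_le_right)).trans l.le
  · exact absurd (l.ge.trans inf_le_right) p.jc.not_cent

theorem idx6 : (pCoreOf 2 (K ⊔ T)).relIndex (K ⊔ T) = 6 := by
  rw [← relIndex_mul_relIndex _ _ _ (pCoreOf_le_syl p.syl) le_sup_right, p.idx3, p.O_eq, inf_relIndex_left,
    (idx_two p.jc.card p.syl.pg (le_sup_right.trans p.normW)
      fun l => p.jc.not_cent' ((H6J.J_le 2 T).trans l)).1]

theorem not_comm : ¬ ⁅K ⊔ T, K ⊔ T⁆ ≤ pCoreOf 2 (K ⊔ T) := fun l => p.jc.not_le (isPGroup_pCoreOf 2 _)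
  ((p.jc.comm.ge.trans (commutator_mono le_sup_left (le_sup_of_le_right (H6J.J_le 2 T)))).trans l)

theorem not_cent : ¬ K ⊔ T ≤ 𝐂 (OZ 2 T) := fun l => ne_bot_of_two (p.jc.Z0 (pgJ p.hl.syl.pg)).1
  (p.jc.eq_bot inf_le_right ((le_sup_left.trans l).trans (centralizer_anti (inf_le_left.trans p.oz.ge))))

theorem O_bot {L' : Subgroup G} (p' : Pc T K' L') (n : L ≠ L') : pCoreOf 2 (K ⊔ T ⊔ (K' ⊔ T)) = ⊥ := by
  by_contra e
  obtain ⟨N, h1, h2⟩ := exists_max (loc (isPGroup_pCoreOf 2 _) e)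
  have := (norm_pCoreOf 2 _).trans h2
  exact n ((p.uniq N h1 (le_sup_left.trans this)).symm.trans (p'.uniq N h1 (le_sup_right.trans this)))

theorem inf_eq' {L' : Subgroup G} (p' : Pc T K' L') (n : L ≠ L') : (K ⊔ T) ⊓ (K' ⊔ T) = T :=
  (PGBasic.eq_or_eq_of_relIndex_prime Nat.prime_three p.idx3 (le_inf le_sup_right le_sup_right)
    inf_le_left).resolve_right fun e => n (p.uniq _ p'.max ((e.ge.trans inf_le_right).trans p'.le')).symm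

end Pc

end CA.ZN4
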