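import Cfsg.Agent.Lib.Loc.ZN4
import Cfsg.Agent.Lib.Grp.SEmb

/-!
`N`-groups of local characteristic two: identification of the amalgam.
-/

set_option autoImplicit false

namespace CA.ZN5

open Subgroup Cfsg CA.Amb CA.AmbSyl CA.AmbCore CA.AmbRes CA.AmbChar CA.AmbSpe CA.AmbRed CA.AmbIso CA.AmbS3 CA.ZN1
open CA.ZN2 CA.ZN3 CA.ZN4 CA.AmbCos
open CA.H6J (mx J IsAb)
open scoped commutatorElement

variable {G : Type*} [Group G] [Finite G] {S T L L' K K' M Q : Subgroup G}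

omit [Finite G] in
theorem a3 {P₁ P₂ : Subgroup G} [Finite P₁] [Finite P₂] (hgen : P₁ ⊔ P₂ = ⊤)
    (h₃ : ∀ N : Subgroup G, N ≤ P₁ ⊓ P₂ → N.Normal → N = ⊥) (c1 : CharP 2 P₁) (c2 : CharP 2 P₂)
    (s1 : SylIn 2 (P₁ ⊓ P₂) P₁) (s2 : SylIn 2 (P₁ ⊓ P₂) P₂) (i1 : (pCoreOf 2 P₁).relIndex P₁ = 6)
    (i2 : (pCoreOf 2 P₂).relIndex P₂ = 6) (n1 : ¬ P₁ ≤ 𝐂 (OZ 2 (P₁ ⊓ P₂))) (n2 : ¬ P₂ ≤ 𝐂 (OZ 2 (P₁ ⊓ P₂))) :
    A3 P₁ P₂ := by
  have t1 : P₁ ≠ ⊤ := fun k => n2 ((le_inf (k ▸ le_top) le_rfl).trans (le_cent_OZ 2 _))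
  have t2 : P₂ ≠ ⊤ := fun k => n1 ((le_inf le_rfl (k ▸ le_top)).trans (le_cent_OZ 2 _))
  have ne : P₁ ⊓ P₂ ≠ ⊥ := fun k => n1 (by
    rw [le_bot_iff.1 ((OZ_le 2 _).trans k.le), Amb.centralizer_bot]; exact le_top)
  refine ⟨cp_of_syl ⟨hgen, t1, t2, h₃⟩ c1 c2 s1 s2 ne, fun δ μ e => ?_, fun δ => ?_, fun δ μ e => ?_⟩
  · obtain ⟨x, ⟨a, b⟩ | ⟨a, b⟩⟩ := e.stab <;> rw [a, b, ← cj_inf]
    · exact isPGroup_cj s1.pg x
    · rw [inf_comm]; exact isPGroup_cj s1.pg x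
  · change (pCoreOf 2 (St δ)).relIndex _ = _
    obtain ⟨x, a | a⟩ := exists_St δ <;> rw [a, ← cj_pCoreOf, relIndex_cj] <;> assumption
  · obtain ⟨x, ⟨a, b⟩ | ⟨a, b⟩⟩ := e.stab <;> rw [a, b, ← cj_inf, ← cj_OZ, ← cj_centralizer, cj_le_cj]
    · exact n1
    · rwa [inf_comm]

theorem exists_pair {W : Subgroup G} (hW : Nat.card W = 4) (ea : IsElementaryAbelian 2 W) :
    ∃ a ∈ W, ∃ b ∈ W, a ≠ 1 ∧ b ≠ 1 ∧ a ≠ b := by
  obtain ⟨a, a1, a2⟩ := W.bot_or_exists_ne_one.resolve_left fun e => by rw [e, card_bot] at hW; omega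
  obtain ⟨b, b1, b2⟩ := SetLike.not_le_iff_exists.1 fun l : W ≤ zpowers a => by
    have := card_le_of_le l
    rw [Nat.card_zpowers, orderOf_eq_of_pow (p := 2) (ea_pow ea a1) a2] at this
    omega
  exact ⟨a, a1, b, b1, a2, fun e => b2 (e ▸ one_mem _), fun e => b2 (e ▸ mem_zpowers a)⟩

theorem idx_eight {W : Subgroup G} (hW : Nat.card W = 4) (ea : IsElementaryAbelian 2 W) (n : L ≤ 𝐍 W) :
    (𝐂 W).relIndex L ≤ 8 := by
  obtain ⟨a, a1, b, b1, a2, b2, e⟩ := exists_pair hW ea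
  have h1 := idx_le (L := L) (B := W) (v := a) fun g hg =>
    mul_mem (conj_mem_of_mem_normalizer (n hg) a1) (inv_mem a1)
  have h2 := idx_le (L := centralizer {a} ⊓ L) (B := zpowers a) (v := b) fun g hg => by
    rw [commutatorElement_def]
    rcases four_cases hW ea a1 b1 a2 b2 e (conj_mem_of_mem_normalizer (n hg.2) b1) with k | k | k | k
    · exact absurd (conj_eq_one_iff.1 k) b2
    · exact absurd (mul_left_cancel (mul_right_cancel ((mem_cent_iff.1 hg.1).trans k.symm))) e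
    · rw [k, mul_inv_cancel]; exact one_mem _
    · rw [k, mul_inv_cancel_right]; exact mem_zpowers a
  rw [Nat.card_zpowers, orderOf_eq_of_pow (p := 2) (ea_pow ea a1) a2] at h2
  have h3 := relIndex_inf_mul_relIndex (centralizer {b}) (centralizer {a}) L
  have h4 : centralizer {b} ⊓ centralizer {a} ≤ 𝐂 W := fun g hg =>
    le_cent_of_two hW ea a1 b1 a2 b2 e (mem_cent_iff.1 hg.2) (mem_cent_iff.1 hg.1)
  have h5 := relIndex_le_of_le_left h4 (relIndex_ne_zero _ L)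
  nlinarith

namespace Pc
variable (p : Pc T K L)
include p

theorem W_le : wOf K ≤ pCoreOf 2 (K ⊔ T) :=
  (W_le_O K).trans (pCoreOf_le_of_norm le_sup_left (sup_le le_normalizer p.norm))

theorem idx2 : (pCoreOf 2 (K ⊔ T)).relIndex T = 2 := by
  have := relIndex_mul_relIndex _ _ _ (pCoreOf_le_syl p.syl) (le_sup_right : T ≤ K ⊔ T)
  rw [p.idx3, p.idx6] at this
  omega

theorem eq_of_ea (ea : IsElementaryAbelian 2 (pCoreOf 2 (K ⊔ T))) (c : Nat.card (pCoreOf 2 (K ⊔ T)) ≤ 8) :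
    K ⊔ T = L := by
  have e : pCoreOf 2 (K ⊔ T) = pCoreOf 2 L :=
    le_antisymm (((ea_le_cent ea).trans (centralizer_anti p.O_le)).trans p.cent) p.O_le
  have w := W_le p
  have i6 := p.idx6
  rw [e] at ea c w i6
  have nQ := norm_pCoreOf 2 L
  have nW : L ≤ 𝐍 (wOf K) := fun g hg => norm_W K (mem_norm p.hl p.jc p.le hg fun b => by
    have := H6Basic.card_mul_card_le w (cj_le_of_le w (nQ hg))
    rw [b, card_bot, H6Basic.card_cj, p.jc.card] at this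
    omega)
  have i : ∀ x ∈ pCoreOf 2 L, ∀ y ∈ pCoreOf 2 L, (x ∈ wOf K ↔ y ∈ wOf K) → x * y ∈ wOf K := fun x hx y hy k => by
    have h1 := card_mul_relIndex w
    have h2 := relIndex_ne_zero (wOf K) (pCoreOf 2 L)
    rw [p.jc.card] at h1
    rcases (by omega : (wOf K).relIndex (pCoreOf 2 L) = 1 ∨ (wOf K).relIndex (pCoreOf 2 L) = 2) with h | h
    · exact relIndex_eq_one.1 h (mul_mem hx hy)
    · exact (mul_mem_of_two h hx hy).2 k
  have l : L ⊓ 𝐂 (wOf K) ≤ pCoreOf 2 L := le_pCoreOf inf_le_left (isPGroup_iff_mem.2 fun g hg => ⟨2, by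
    have : g * g ∈ pCoreOf 2 L := p.cent fun q hq => by
      have h1 := i _ (conj_mem_of_mem_normalizer (nQ hg.1) hq) _ (inv_mem hq) (by
        rw [inv_mem_iff]; exact (mem_normalizer_iff.1 (nW hg.1) q).symm)
      have h2 := hg.2 _ h1
      have h3 := mul_self_of_ea (ea_W K) h1
      calc q * (g * g) = (g * q * g⁻¹ * q⁻¹) * (g * q * g⁻¹ * q⁻¹) * q * (g * g) := by rw [h3, one_mul]
        _ = (g * q * g⁻¹ * q⁻¹ * g) * q * g := by group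
        _ = _ := by rw [h2]; group
    rw [show 2 ^ 2 = 2 * 2 from rfl, pow_mul, pow_two g, ea_pow ea this]⟩)
    (norm_inf le_normalizer (norm_centralizer nW))
  have h1 := (relIndex_le_of_le_left l (relIndex_ne_zero _ L)).trans
    ((inf_relIndex_left _ _).le.trans (idx_eight p.jc.card (ea_W K) nW))
  have h2 := relIndex_mul_relIndex _ _ _ (e.ge.trans (pCoreOf_le 2 _)) p.le'
  have h3 := relIndex_ne_zero (K ⊔ T) L
  rw [i6] at h2
  exact le_antisymm p.le' (relIndex_eq_one.1 (by omega))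

theorem amal (p' : Pc T K' L') (n : L ≠ L') : IsElementaryAbelian 2 (pCoreOf 2 (K ⊔ T)) ∧
    (pCoreOf 2 (K' ⊔ T)).relIndex (pCoreOf 2 (K ⊔ T)) = 2 ∧
    (Nat.card ↥(pCoreOf 2 (K' ⊔ T) ⊓ pCoreOf 2 (K ⊔ T)) = 2 ∨
      Nat.card ↥(pCoreOf 2 (K' ⊔ T) ⊓ pCoreOf 2 (K ⊔ T)) = 4) ∧
    ((Nonempty (↥(K ⊔ T) ≃* Equiv.Perm (Fin 4)) ∧ Nonempty (↥(K' ⊔ T) ≃* Equiv.Perm (Fin 4))) ∨
    (Nonempty (↥(K ⊔ T) ≃* Multiplicative (ZMod 2) × Equiv.Perm (Fin 4)) ∧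
      Nonempty (↥(K' ⊔ T) ≃* Multiplicative (ZMod 2) × Equiv.Perm (Fin 4)))) := by
  have e := p.inf_eq' p' n
  have o := p.O_bot p' n
  have s1 := p.syl
  have s2 := p'.syl
  have c1 : CharP 2 (K ⊔ T) := inf_le_right.trans p.cent'
  have c2 : CharP 2 (K' ⊔ T) := inf_le_right.trans p'.cent'
  have i1 := p.idx6
  have i2 := p'.idx6
  have n1 := p.not_cent
  have n2 := p'.not_cent
  generalize K ⊔ T = P at *
  generalize K' ⊔ T = P' at *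
  have l1 : P ≤ P ⊔ P' := le_sup_left
  have l2 : P' ≤ P ⊔ P' := le_sup_right
  have g : P.subgroupOf (P ⊔ P') ⊔ P'.subgroupOf (P ⊔ P') = ⊤ := by
    rw [← subgroupOf_sup l1 l2, subgroupOf_self]
  generalize P ⊔ P' = X at *
  have lT := s1.le.trans l1
  have e' : P.subgroupOf X ⊓ P'.subgroupOf X = T.subgroupOf X := by rw [← e]; rfl
  have nc : ∀ {P}, P ≤ X → ¬ P ≤ 𝐂 (OZ 2 T) → ¬ P.subgroupOf X ≤ 𝐂 (OZ 2 (T.subgroupOf X)) := fun l a b => a (by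
    rw [OZ_subgroupOf lT, centralizer_subgroupOf ((OZ_le 2 T).trans lT)] at b
    exact fun x hx => b (show (⟨x, l hx⟩ : X) ∈ _ from hx))
  have h := a3 g (fun N a b => by
      rw [e'] at a
      have := (le_pCoreOf (map_subtype_le N) (((isPGroup_subgroupOf s1.pg X).to_le a).map _)
        (norm_map_subtype N)).trans o.le
      exact (map_eq_bot_iff_of_injective _ X.subtype_injective).1 (le_bot_iff.1 this))
    ((charP_subgroupOf_iff l1).2 c1) ((charP_subgroupOf_iff l2).2 c2)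
    (e' ▸ (sylIn_subgroupOf_iff lT l1).2 s1) (e' ▸ (sylIn_subgroupOf_iff lT l2).2 s2)
    (by rw [pCoreOf_subgroupOf l1, relIndex_subgroupOf l1, i1])
    (by rw [pCoreOf_subgroupOf l2, relIndex_subgroupOf l2, i2]) (e' ▸ nc l1 n1) (e' ▸ nc l2 n2)
  have ad := adj_base (M₁ := P.subgroupOf X) (M₂ := P'.subgroupOf X) 1
  have q1 := AmbS3b.Q_cent h (Sum.inl ((1 : X) : X ⧸ P.subgroupOf X))
  have q2 := fun x => AmbS3b.sqQ h (δ := Sum.inl ((1 : X) : X ⧸ P.subgroupOf X)) (x := x)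
  have q3 := AmbS3b.idxD h ad
  have q4 := AmbS3b.card_D h ad
  have q5 := AmbS3b.main h ad
  have r : ∀ δ : CosetVertex (P.subgroupOf X) (P'.subgroupOf X), vertexQ 2 δ = pCoreOf 2 (St δ) := fun _ => rfl
  simp only [r, St_inl, St_inr, cj_one, pCoreOf_subgroupOf l1, pCoreOf_subgroupOf l2] at q1 q2 q3 q4
  rw [St_inl, St_inr, cj_one, cj_one] at q5
  have lQ := (pCoreOf_le 2 P).trans l1
  refine ⟨(ea_subgroupOf_iff lQ).1 (ea_iff.2 ⟨q1, fun a ha => by rw [pow_two, q2 a ha]⟩),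
    by rwa [relIndex_subgroupOf lQ] at q3, ?_, ?_⟩
  · rwa [← Nat.card_congr (subgroupOfEquivOfLe (inf_le_right.trans lQ)).toEquiv]
  · rcases q5 with ⟨⟨a⟩, ⟨b⟩⟩ | ⟨⟨a⟩, ⟨b⟩⟩
    · exact Or.inl ⟨⟨(subgroupOfEquivOfLe l1).symm.trans a⟩, ⟨(subgroupOfEquivOfLe l2).symm.trans b⟩⟩
    · exact Or.inr ⟨⟨(subgroupOfEquivOfLe l1).symm.trans a⟩, ⟨(subgroupOfEquivOfLe l2).symm.trans b⟩⟩

theorem eq (p' : Pc T K' L') (n : L ≠ L') : K ⊔ T = L := by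
  obtain ⟨h1, h2, h3, -⟩ := amal p p' n
  have := card_inf_mul_relIndex (pCoreOf 2 (K' ⊔ T)) (pCoreOf 2 (K ⊔ T))
  exact eq_of_ea p h1 (by rw [h2] at this; omega)

end Pc

theorem trans_W {J₀ : Subgroup G} (k : JC J₀ K) {a b : G} (ha : a ∈ wOf K) (hb : b ∈ wOf K) (a1 : a ≠ 1)
    (b1 : b ≠ 1) : ∃ g ∈ K, g * a * g⁻¹ = b := by
  obtain ⟨g, g1, g2⟩ := SetLike.not_le_iff_exists.1 k.not_cent
  have f : ∀ w ∈ wOf K, g * w * g⁻¹ = w → w = 1 := fun w hw e => mem_bot.1 (k.fpf ▸ mem_inf.2 ⟨hw, mem_cent_of_le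
    (le_of_not_mem (k.idxW k.W_ne) g1 g2 (inf_le_right.trans (le_cent_of_mem (cent_symm le_rfl hw)))
      (mem_cent_iff.2 e))⟩)
  have c : ∀ {w}, w ∈ wOf K → g * w * g⁻¹ ∈ wOf K := conj_mem_of_mem_normalizer (norm_W K (le_normalizer g1))
  have n : a ≠ g * a * g⁻¹ := fun e => a1 (f a ha e.symm)
  have n1 : g * a * g⁻¹ ≠ 1 := mt conj_eq_one_iff.1 a1
  rcases four_cases k.card (ea_W K) ha (c ha) a1 n1 n hb with e | e | e | e
  · exact absurd e b1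
  · exact ⟨1, one_mem _, by simp [e]⟩
  · exact ⟨g, g1, e.symm⟩
  rcases four_cases k.card (ea_W K) ha (c ha) a1 n1 n (c (c ha)) with e' | e' | e' | e'
  · exact absurd (conj_eq_one_iff.1 e') n1
  · refine absurd (f b hb ?_) b1
    rw [e, ← conj_mul, e', comm_of_ea (ea_W K) ha (c ha)]
  · exact absurd (f _ (c ha) e') n1
  · exact ⟨g * g, mul_mem g1 g1, by rw [e, ← e']; group⟩

/-- the amalgam of KS 12.3.8 -/
structure Am (T K L K' L' : Subgroup G) : Prop where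
  p : Pc T K L
  p' : Pc T K' L'
  n : L ≠ L'

local notation "𝐎 " L:max => pCoreOf 2 L

namespace Am
variable (a : Am T K L K' L')
include a

omit [Finite G] in
theorem symm : Am T K' L' K L := ⟨a.p', a.p, a.n.symm⟩

theorem eq : K ⊔ T = L := Pc.eq a.p a.p' a.n

theorem ea : IsElementaryAbelian 2 (𝐎 L) := a.eq ▸ (Pc.amal a.p a.p' a.n).1

theorem idxD : (𝐎 L').relIndex (𝐎 L) = 2 := a.eq ▸ a.symm.eq ▸ (Pc.amal a.p a.p' a.n).2.1

theorem card : Nat.card ↥(𝐎 L' ⊓ 𝐎 L) = 2 ∨ Nat.card ↥(𝐎 L' ⊓ 𝐎 L) = 4 :=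
  a.eq ▸ a.symm.eq ▸ (Pc.amal a.p a.p' a.n).2.2.1

theorem iso : (Nonempty (L ≃* Equiv.Perm (Fin 4)) ∧ Nonempty (L' ≃* Equiv.Perm (Fin 4))) ∨
    (Nonempty (L ≃* Multiplicative (ZMod 2) × Equiv.Perm (Fin 4)) ∧
      Nonempty (L' ≃* Multiplicative (ZMod 2) × Equiv.Perm (Fin 4))) :=
  a.eq ▸ a.symm.eq ▸ (Pc.amal a.p a.p' a.n).2.2.2

theorem idx2 : (𝐎 L).relIndex T = 2 := a.eq ▸ Pc.idx2 a.p

omit [Finite G] in
theorem syl : SylIn 2 T L := a.p.hl.syl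

omit [Finite G] in
theorem Q_le : 𝐎 L ≤ T := pCoreOf_le_syl a.syl

theorem W_le : wOf K ≤ 𝐎 L := a.eq ▸ Pc.W_le a.p

omit [Finite G] in
theorem normQ : 𝐍 (𝐎 L) = L := max_eq a.p.max (isPGroup_pCoreOf 2 L) (loc_O_ne a.p.max.1) (norm_pCoreOf 2 L)

theorem not_le : ¬ 𝐎 L ≤ 𝐎 L' := fun l => by simpa [relIndex_eq_one.2 l] using a.idxD

theorem sup : 𝐎 L ⊔ 𝐎 L' = T := (PGBasic.eq_or_eq_of_relIndex_prime Nat.prime_two a.idx2 le_sup_left
  (sup_le a.Q_le a.symm.Q_le)).resolve_left fun e => a.symm.not_le (le_sup_right.trans e.le)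

theorem OZ_eq : OZ 2 T = 𝐎 L' ⊓ 𝐎 L := le_antisymm
  (le_inf (((OZ_le_cent 2 T).trans (centralizer_anti a.symm.Q_le)).trans a.p'.cent)
    (((OZ_le_cent 2 T).trans (centralizer_anti a.Q_le)).trans a.p.cent))
  (le_OZ' (ea_of_le a.ea inf_le_right) (inf_le_right.trans a.Q_le) (by
    rw [← a.sup, Amb.centralizer_sup, inf_comm]
    exact inf_le_inf (ea_le_cent a.ea) (ea_le_cent a.symm.ea)))

theorem not_comm {x y : G} (x1 : x ∈ 𝐎 L) (x2 : x ∉ 𝐎 L') (y1 : y ∈ 𝐎 L') (y2 : y ∉ 𝐎 L) : x * y ≠ y * x :=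
  fun e => x2 (a.p'.cent fun q hq => by
    by_cases h : q ∈ 𝐎 L
    · exact comm_of_ea a.ea h x1
    · have h1 := comm_of_ea a.ea ((mul_mem_of_two a.symm.idxD hq y1).2 (iff_of_false h y2)) x1
      rw [mul_assoc, ← e, ← mul_assoc, ← mul_assoc] at h1
      exact mul_right_cancel h1)

theorem inv {t : G} (h1 : t ∈ T) (h2 : t * t = 1) : t ∈ 𝐎 L ∨ t ∈ 𝐎 L' := by
  by_contra! c
  obtain ⟨x, x1, x2⟩ := SetLike.not_le_iff_exists.1 a.not_le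
  have y1 := (mul_mem_of_two a.symm.idx2 (a.Q_le x1) h1).2 (iff_of_false x2 c.2)
  refine a.not_comm x1 x2 y1 (fun h => c.1 ((mul_mem_cancel_left x1).1 h)) ?_
  have h3 := mul_self_of_ea a.symm.ea y1
  have h4 := mul_self_of_ea a.ea x1
  calc x * (x * t) = t := by rw [← mul_assoc, h4, one_mul]
    _ = x * t * (x * t) * t := by rw [h3, one_mul]
    _ = x * t * x * (t * t) := by group
    _ = _ := by rw [h2, mul_one]

theorem ea_le {A : Subgroup G} (h1 : A ≤ T) (h2 : IsElementaryAbelian 2 A) : A ≤ 𝐎 L ∨ A ≤ 𝐎 L' := by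
  by_contra! c
  obtain ⟨x, x1, x2⟩ := SetLike.not_le_iff_exists.1 c.1
  obtain ⟨y, y1, y2⟩ := SetLike.not_le_iff_exists.1 c.2
  exact a.not_comm ((a.inv (h1 y1) (mul_self_of_ea h2 y1)).resolve_right y2) y2
    ((a.inv (h1 x1) (mul_self_of_ea h2 x1)).resolve_left x2) x2 (comm_of_ea h2 y1 x1)

theorem card_eq : Nat.card (𝐎 L) = Nat.card (𝐎 L') := by
  have h1 := card_mul_relIndex a.Q_le
  have h2 := card_mul_relIndex a.symm.Q_le
  rw [a.idx2] at h1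
  rw [a.symm.idx2] at h2
  omega

theorem swap {s : G} (h1 : s ∈ 𝐍 T) (h2 : s ∉ L) : cj s (𝐎 L) = 𝐎 L' :=
  eq_of_le_of_card_ge ((a.ea_le (cj_le_of_le a.Q_le h1) (ea_cj a.ea s)).resolve_left
    fun l => h2 (a.normQ.le (mem_normalizer_of_cj_le l))) (by rw [card_cj, a.card_eq])

theorem not_mem (hS : IsPGroup 2 S) (l : T ≤ S) {s : G} (h1 : s ∈ S) (h2 : s ∉ T) : s ∉ L := fun h =>
  h2 ((a.syl.max (hS.to_le inf_le_left) (le_inf l a.syl.le) inf_le_right).le ⟨h1, h⟩)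

theorem le_D {A : Subgroup G} (h1 : A ≤ T) (h2 : IsElementaryAbelian 2 A) {s : G} (s1 : s ∈ 𝐍 T) (s2 : s ∈ 𝐍 A)
    (s3 : s ∉ L) (s4 : s ∉ L') : A ≤ 𝐎 L' ⊓ 𝐎 L := by
  rcases a.ea_le h1 h2 with l | l
  · exact le_inf ((cj_eq_self s2).ge.trans ((cj_mono s l).trans (a.swap s1 s3).le)) l
  · exact le_inf l ((cj_eq_self s2).ge.trans ((cj_mono s l).trans (a.symm.swap s1 s4).le))

theorem exists_z (h : Nat.card ↥(𝐎 L' ⊓ 𝐎 L) = 4) : ∃ z ∈ 𝐎 L' ⊓ 𝐎 L, z ≠ 1 ∧ centralizer {z} = L := by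
  have h1 := card_Z0 a.p.jc (pgJ a.syl.pg)
  rw [← a.p.oz] at h1
  obtain ⟨z, z1, z2⟩ := (bot_or_exists_ne_one (OZ 2 T ⊓ 𝐂 (K ⊔ J 2 T : Subgroup G))).resolve_left fun e => by
    rw [e, card_bot, a.OZ_eq] at h1; omega
  have h2 : L ≤ centralizer {z} := a.eq.ge.trans (sup_le (le_cent_of_mem (centralizer_anti le_sup_left z1.2))
    (le_cent_of_mem (OZ_le_cent 2 T z1.1)))
  refine ⟨z, a.OZ_eq.le z1.1, z2, le_antisymm ?_ h2⟩
  rw [← centralizer_zpowers] at h2 ⊢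
  exact (centralizer_le_normalizer _).trans (max_eq a.p.max (isPGroup_zpowers' (mem_OZ.1 z1.1).2.2)
    (by rwa [Ne, zpowers_eq_bot]) (norm_of_centralizer h2)).le

end Am

theorem exists_am (c : Cf M T K L) (st : ∃ L', IsTwoLocal L' ∧ T ≤ L' ∧ ¬ L' ≤ L) : ∃ K' L', Am T K L K' L' := by
  obtain ⟨K', L', h1, h2⟩ := c.exists_pc st
  exact ⟨K', L', c.pc st, h1, h2⟩

theorem not_se (c : Cf M T K L) : ¬ IsStronglyEmbedded L := fun h => by
  obtain ⟨z, z1, z2, z3⟩ := exists_mem_pow_eq_one (isPGroup_pCoreOf 2 L) (loc_O_ne c.max.1)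
  have z4 := orderOf_eq_of_pow (p := 2) z3 z2
  have : J 2 T ≤ 𝐎 L := H6J.J_le_iff.2 fun A hA x hx => by
    by_cases x1 : x = 1
    · exact x1 ▸ one_mem _
    have x2 := orderOf_eq_of_pow (p := 2) (hA.2.1.2 x hx) x1
    obtain ⟨g, hg⟩ := isConj_iff.1 (SEmb.isConj h z4 x2)
    exact hg ▸ conj_mem_of_mem_normalizer (norm_pCoreOf 2 L (SEmb.mem_of_conj h (pCoreOf_le 2 L z1) z4
      (hg ▸ c.TL (hA.1 hx)))) z1
  exact c.jc.not_le (isPGroup_pCoreOf 2 L) (c.jc.comm.ge.trans ((commutator_mono c.KL this).trans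
    (commutator_le_right_of_norm (norm_pCoreOf 2 L))))

theorem star (c : Cf M T K L) : ∃ L', IsTwoLocal L' ∧ T ≤ L' ∧ ¬ L' ≤ L := by
  by_contra! st
  have nj := st _ (loc (pgJ c.pg) c.J_ne) (H6J.le_normalizer_J 2 T)
  have o := loc_O_ne c.max.1
  obtain ⟨T₁, t⟩ := exists_maxStr (Set.nonempty_iff_ne_empty.2 fun e => not_se c (se_iff.2 ((spe_iff_str
    (fun e => o (by rw [e, pCoreOf_top, c.O])) (dvd_card_of_le (isPGroup_pCoreOf 2 L) o (pCoreOf_le 2 L))).2 e)))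
  obtain ⟨K₁, L₁, c₁⟩ := exists_cf ⟨c.zn, c.O, ⟨T, c.syl_top nj, nj⟩, t⟩
  obtain ⟨K₂, L₂, a⟩ := exists_am c₁ ⟨L, c.max.1, c₁.le, fun l => c₁.nle (c₁.KL.trans (c.max.2 _ c₁.max.1 l).le)⟩
  obtain ⟨g, g1, l⟩ := c.sylL.exists_le_conj c₁.pg c₁.le
  have hS := c.sylL.conj_mem g1
  have hS' := (c.syl_top nj).conj_mem (mem_top g)
  have ne : T₁ ≠ cj g T := fun e => c₁.nle (c₁.KL.trans ((cj_le_cj.1 ((st _ (loc_conj c₁.max.1 g⁻¹)
    (cj_le_iff.1 (e.ge.trans c₁.TL))).trans (cj_eq_self_of_mem (inv_mem g1)).ge))))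
  generalize cj g T = S at *
  have r := c.hl.red
  have yS := c.hl.V_le_Q.trans (pCoreOf_le_syl hS)
  have wY := W_le_V c.hl c.jc c.KL
  have nY := hS.le.trans r.norm
  have eY := r.ea
  generalize ZL 2 L = Y at *
  by_cases y : Y ≤ T₁
  · obtain ⟨s, s1, s2, s3, -⟩ := PGBasic.exists_mem_normalizer hS.pg (lt_of_le_of_ne l ne)
    have h1 := a.le_D y eY s3 (nY s1) (a.not_mem hS.pg l s1 s2) (a.symm.not_mem hS.pg l s1 s2)
    have h2 := card_le_of_le (wY.trans h1)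
    have h3 := c.jc.card
    have h4 := a.card.resolve_left (by omega)
    have e := eq_of_le_of_card_ge (wY.trans h1) (by omega)
    obtain ⟨z, z1, z2, z3⟩ := a.exists_z h4
    obtain ⟨u, u1, u2⟩ := (bot_or_exists_ne_one _).resolve_left (inf_OZ_ne_bot hS.pg yS nY
      fun b => c.jc.W_ne (le_bot_iff.1 (wY.trans b.le)))
    obtain ⟨k, -, k1⟩ := trans_W c.jc (e.ge (h1 u1.1)) (e.ge z1) u2 z2
    have h5 := a.syl.card_le (isPGroup_cj hS.pg k) (by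
      rw [← z3, ← k1, ← cj_centralizer_singleton]; exact cj_mono k (le_cent_of_mem (OZ_le_cent 2 S u1.2)))
    exact ne (eq_of_le_of_card_ge l (by rwa [card_cj] at h5))
  obtain ⟨x, x1, x2, x3, -⟩ := PGBasic.exists_mem_normalizer (hS.pg.to_le (sup_le l yS)) (left_lt_sup.2 y)
  obtain ⟨u, u1, v, v1, rfl⟩ := (mem_sup_of_norm (l.trans nY)).1 x1
  have v2 := (mul_mem_cancel_left (le_normalizer u1)).1 x3
  have v3 := mt (mul_mem_cancel_left u1).2 x2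
  have v4 := a.not_mem hS.pg l (yS v1) v3
  have h1 := a.le_D inf_le_right (ea_of_le eY inf_le_left) v2 (norm_of_centralizer (centralizer_anti inf_le_left
    |>.trans' (ea_le_cent eY)) v1) v4 (a.symm.not_mem hS.pg l (yS v1) v3)
  refine v4 (a.normQ.le (mem_normalizer_of_cj_le (cj_le_iff'.2 fun q hq => ?_)))
  have q1 := a.Q_le hq
  refine (mul_mem_cancel_right (inv_mem hq)).1 (h1 ⟨?_, mul_mem (conj_mem_of_mem_normalizer v2 q1) (T₁.inv_mem q1)⟩).2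
  rw [show v * q * v⁻¹ * q⁻¹ = v * (q * v⁻¹ * q⁻¹) by group]
  exact mul_mem v1 (conj_mem_of_mem_normalizer (nY (l q1)) (inv_mem v1))

theorem exists_am' (h : Hy M T) : ∃ K L K' L', Cf M T K L ∧ Am T K L K' L' := by
  obtain ⟨K, L, c⟩ := exists_cf h
  obtain ⟨K', L', a⟩ := exists_am c (star c)
  exact ⟨K, L, K', L', c, a⟩

end CA.ZN5
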