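import Cfsg.Agent.Lib.Loc.ZN5
import Cfsg.Agent.Lib.Loc.AmbTr
import Cfsg.Agent.Lib.Loc.AmbFs
import Cfsg.Agent.Lib.Loc.AmbSI
import Cfsg.Agent.Lib.Grp.Hyp
import Cfsg.Agent.Lib.Grp.PGNormalCyclic

/-!
Groups with solvable involution centralizers satisfying `Z`: reduction to local characteristic two.
-/

set_option autoImplicit false

namespace CA.ZN6

open Subgroup Cfsg CA.Amb CA.AmbSyl CA.AmbCore CA.AmbRes CA.AmbChar CA.AmbSpe CA.AmbIso CA.AmbS3 CA.AmbFs CA.ZN1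
open CA.ZN4 CA.ZN5 CA.AmbTr
open scoped commutatorElement

variable {G : Type*} [Group G] [Finite G] {S T L V A B E Z : Subgroup G} {a b g t u z : G}

local notation "θ" => centralizerPPrimeCore 2

/-- the subgroup generated by the cores of the centralizers of the involutions of `A` -/
abbrev W (A : Subgroup G) : Subgroup G := signalizerClosure A (centralizerPPrimeCore 2)

/-- solvable involution centralizers and completeness of the functor of cores -/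
structure Sg (G : Type*) [Group G] : Prop where
  solv : ∀ t : G, orderOf t = 2 → Group.IsSolvable (centralizer {t})
  cpl : ∀ A : Subgroup G, IsElementaryAbelian 2 A → 8 ≤ Nat.card A →
    (Nat.card (W A)).Coprime 2 ∧ ∀ a ∈ A, a ≠ 1 → W A ⊓ centralizer {a} = θ a

theorem bal (h : Group.IsSolvable (centralizer {b})) (ha : orderOf a = 2) (e : a ∈ centralizer {b}) :
    θ a ⊓ centralizer {b} ≤ θ b :=
  Bal2.cpc_inf_le_of_pLayer (PComp.pLayer_eq_bot_of_isSolvable h) e (k := 1) (by simpa using ha)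

theorem norm_θ (t : G) : centralizer {t} ≤ 𝐍 (θ t) := Bal2.centralizer_le_normalizer_cpc t

theorem sg_of (hC : ∀ t : G, orderOf t = 2 → Group.IsSolvable (centralizer {t}))
    (h : ∀ A : Subgroup G, (∀ a ∈ A, ∀ b ∈ A, a * b = b * a) → (∀ a ∈ A, a ^ 2 = 1) → 2 ^ 3 ≤ Nat.card A →
      ∀ φ : G → Subgroup G, (∀ a ∈ A, a ≠ 1 → φ a ≤ centralizer {a}) → (∀ a ∈ A, a ≠ 1 → ¬ 2 ∣ Nat.card (φ a)) →
      (∀ a ∈ A, a ≠ 1 → ∀ b ∈ A, ∀ x ∈ φ a, b * x * b⁻¹ ∈ φ a) → (∀ a ∈ A, a ≠ 1 → Group.IsSolvable (φ a)) →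
      (∀ a ∈ A, a ≠ 1 → ∀ b ∈ A, b ≠ 1 → φ a ⊓ centralizer {b} ≤ φ b) →
      ¬ 2 ∣ Nat.card ↥(⨆ a : {a : G // a ∈ A ∧ a ≠ 1}, φ a) ∧
        ∀ a ∈ A, a ≠ 1 → (⨆ b : {a : G // a ∈ A ∧ a ≠ 1}, φ b) ⊓ centralizer {a} = φ a) : Sg G := by
  refine ⟨hC, fun A ea c => ?_⟩
  have o : ∀ a ∈ A, a ≠ 1 → orderOf a = 2 := fun a ha h1 => orderOf_eq_of_pow (ea_pow ea ha) h1
  have m : ∀ a ∈ A, ∀ b ∈ A, b ∈ centralizer {a} := fun a ha => le_cent_of_mem (ea_le_cent ea ha)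
  obtain ⟨h1, h2⟩ := h A (fun a ha b hb => comm_of_ea ea ha hb) ea.2 c θ
    (fun a _ _ => Bal.centralizerPPrimeCore_le a)
    (fun a _ _ => (Nat.Prime.coprime_iff_not_dvd Nat.prime_two).1 (Bal2.coprime_cpc a).symm)
    (fun a ha _ b hb x hx => conj_mem_of_mem_normalizer (norm_θ a (m a ha b hb)) hx)
    (fun a ha h1 => by
      have := hC a (o a ha h1)
      exact Group.isSolvable_of_isSolvable_injective (inclusion_injective (Bal.centralizerPPrimeCore_le a)))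
    fun a ha h1 b hb h2 => bal (hC b (o b hb h2)) (o a ha h1) (m b hb a ha)
  exact ⟨((Nat.Prime.coprime_iff_not_dvd Nat.prime_two).2 h1).symm, h2⟩

theorem cj_θ (g t : G) : cj g (θ t) = θ (g * t * g⁻¹) := Bal2.map_conj_cpc t g

omit [Finite G] in
theorem le_W (ha : a ∈ A) (h1 : a ≠ 1) : θ a ≤ W A :=
  le_iSup (fun a : {a : G // a ∈ A ∧ a ≠ 1} => θ (a : G)) ⟨a, ha, h1⟩

omit [Finite G] in
theorem W_le (h : ∀ a ∈ A, a ≠ 1 → θ a ≤ L) : W A ≤ L := iSup_le fun a => h a a.2.1 a.2.2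

theorem cj_W_le (g : G) (A : Subgroup G) : cj g (W A) ≤ W (cj g A) := cj_le_iff.2 (W_le fun a ha h1 => by
  rw [← cj_le_iff, cj_θ]; exact le_W (conj_mem_cj.2 ha) (mt conj_eq_one_iff.1 h1))

theorem cj_W' (g : G) (A : Subgroup G) : cj g (W A) = W (cj g A) :=
  le_antisymm (cj_W_le g A) (le_cj_iff.2 (by simpa using cj_W_le g⁻¹ (cj g A)))

theorem norm_W' (A : Subgroup G) : 𝐍 A ≤ 𝐍 (W A) := fun g hg => cj_eq_self_iff.1 (by rw [cj_W', cj_eq_self hg])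

theorem Sg.W_eq (s : Sg G) (ea : IsElementaryAbelian 2 A) (l : B ≤ A) (c : 4 ≤ Nat.card B) : W A = W B := by
  by_cases h : 8 ≤ Nat.card A
  · obtain ⟨h1, h2⟩ := s.cpl A ea h
    exact le_antisymm (Hyp.le_of_forall_singleton (ea_of_le ea l) c (l.trans (le_normalizer.trans (norm_W' A))) h1
      fun a ha a1 => (h2 a (l ha) a1).le.trans (le_W ha a1)) (W_le fun a ha => le_W (l ha))
  · rcases l.eq_or_lt with e | e
    · rw [e]
    · have := PGBasic.card_mul_le_of_lt (ea_pg ea) e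
      omega

theorem ea_ext (ea : IsElementaryAbelian 2 A) (h1 : t ∈ 𝐂 A) (h2 : t * t = 1) (h3 : t ∉ A) :
    IsElementaryAbelian 2 (A ⊔ zpowers t) ∧ Nat.card ↥(A ⊔ zpowers t) = Nat.card A * 2 :=
  ⟨PGNormalCyclic.isElementaryAbelian_sup_zpowers ea h1 (by rwa [pow_two]),
    PGBasic.card_sup_zpowers Nat.prime_two (centralizer_le_normalizer _ h1) h3 (by rw [pow_two, h2]; exact one_mem _)⟩

omit [Finite G] in
theorem sq_of_ord (h : orderOf t = 2) : t * t = 1 := by rw [← pow_two, ← h, pow_orderOf_eq_one]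

omit [Finite G] in
theorem ord_of_sq (h : t * t = 1) (h1 : t ≠ 1) : orderOf t = 2 := orderOf_eq_prime (by rwa [pow_two]) h1

omit [Finite G] in
theorem card_two (h : t * t = 1) (h1 : t ≠ 1) : Nat.card (zpowers t) = 2 := by rw [Nat.card_zpowers, ord_of_sq h h1]

omit [Finite G] in
theorem ea_two (h : t * t = 1) : IsElementaryAbelian 2 (zpowers t) := Bal2.ea_zpowers (by rwa [pow_two])

omit [Finite G] in
theorem le_cent_of_mem' (h : z ∈ 𝐂 S) (ht : t ∈ S) : z ∈ centralizer {t} := mem_cent_symm (le_cent_of_mem h ht)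

theorem exists_Y (h : Group.IsSolvable L) (hT : SylIn 2 T L) :
    ∃ Y, OZ 2 T ≤ OZ 2 Y ∧ L ≤ OQ 2 L ⊔ 𝐍 Y := by
  have l : Hyp.Oqq 2 L ≤ L := map_subtype_le _
  have n := Hyp.le_normalizer_Oqq (q := 2) L
  have h1 := hT.inf_norm l n
  have h2 := sylIn_iff.1 h1
  refine ⟨T ⊓ Hyp.Oqq 2 L, OZ_le_OZ inf_le_left (le_inf (OZ_le 2 T) (Hyp.le_Oqq_of_sylow
    (PComp.pLayer_eq_bot_of_isSolvable h) h2 ((OZ_le 2 T).trans hT.le) ?_)), ?_⟩
  · rw [commutator_eq_bot_iff'.2 (inf_le_left.trans (le_cent_OZ 2 T))]; exact bot_le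
  · refine (h1.frattini_sup l n).ge.trans (sup_le ((Hyp.sup_Oq'_eq h2).ge.trans ?_) (le_sup_of_le_right inf_le_right))
    exact sup_le (le_sup_of_le_right le_normalizer) le_sup_left

theorem cent_le_cj (hS : SylIn 2 S ⊤) (hz : centralizer {z} ≤ 𝐍 S) (g : G) :
    S ⊓ centralizer {g * z * g⁻¹} ≤ cj g S := (hS.conj_mem (mem_top g)).le_of_norm' (hS.pg.to_le inf_le_left) le_top
  (by rw [← cj_normalizer, ← cj_centralizer_singleton]; exact inf_le_right.trans (cj_mono g hz))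

/-- a normal fours group of a Sylow subgroup -/
structure Fo (S V : Subgroup G) : Prop where
  syl : SylIn 2 S ⊤
  le : V ≤ S
  ea : IsElementaryAbelian 2 V
  card : Nat.card V = 4
  norm : S ≤ 𝐍 V

namespace Fo
variable (f : Fo S V)
include f

theorem idx (h : ¬ S ≤ 𝐂 V) : (𝐂 V).relIndex S = 2 := (idx_two f.card f.syl.pg f.norm h).1

theorem idx' (h : ¬ S ≤ 𝐂 V) : (S ⊓ 𝐂 V).relIndex S = 2 := by rw [inf_relIndex_left, f.idx h]

omit [Finite G] in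
theorem le' : V ≤ S ⊓ 𝐂 V := le_inf f.le (ea_le_cent f.ea)

theorem four (h : E ≤ S) (c : 8 ≤ Nat.card E) : 4 ≤ Nat.card ↥(E ⊓ (S ⊓ 𝐂 V)) := by
  have h1 : (𝐂 V).relIndex S ≤ 2 := by
    by_cases k : S ≤ 𝐂 V
    · rw [relIndex_eq_one.2 k]; omega
    · exact (f.idx k).le
  have h2 := (relIndex_le_of_le_right h (relIndex_ne_zero (𝐂 V) S)).trans h1
  have h3 := card_inf_mul_relIndex (𝐂 V) E
  rw [← inf_assoc, inf_eq_left.2 h, inf_comm]
  nlinarith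

theorem W_eq (s : Sg G) (ea : IsElementaryAbelian 2 A) (c : 4 ≤ Nat.card ↥(A ⊓ (S ⊓ 𝐂 V))) : W A = W V := by
  have e := ea_sup (ea_of_le ea (inf_le_left : A ⊓ (S ⊓ 𝐂 V) ≤ A)) f.ea (inf_le_right.trans inf_le_right)
  rw [s.W_eq ea inf_le_left c, ← s.W_eq e le_sup_left c, s.W_eq e le_sup_right f.card.ge]

theorem mem_of_W (s : Sg G) (ea : IsElementaryAbelian 2 A) (c : 4 ≤ Nat.card ↥(A ⊓ (S ⊓ 𝐂 V)))
    (c' : 4 ≤ Nat.card ↥(cj g A ⊓ (S ⊓ 𝐂 V))) : g ∈ 𝐍 (W V) :=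
  cj_eq_self_iff.1 (by rw [← f.W_eq s ea c, cj_W', f.W_eq s (ea_cj ea g) c', f.W_eq s ea c])

theorem mem_of_eight (s : Sg G) (ea : IsElementaryAbelian 2 E) (c : 8 ≤ Nat.card E) (l : E ≤ S) (l' : E ≤ cj g S) :
    g ∈ 𝐍 (W V) :=
  inv_mem_iff.1 (f.mem_of_W s ea (f.four l c) (f.four (le_cj_iff.1 l') (by rwa [card_cj])))

theorem cent_le (s : Sg G) (ht : orderOf t = 2) (hT : SylIn 2 T (centralizer {t}))
    (c : 4 ≤ Nat.card ↥(OZ 2 T ⊓ (S ⊓ 𝐂 V))) : centralizer {t} ≤ 𝐍 (W V) := by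
  obtain ⟨Y, h1, h2⟩ := exists_Y (s.solv t ht) hT
  have e := f.W_eq s (ea_OZ 2 Y) (c.trans (card_le_of_le (inf_le_inf_right _ h1)))
  have t1 : t ∈ 𝐂 T := mem_cent_of_le hT.le
  have t2 : t ∈ OZ 2 T := mem_OZ.2 ⟨hT.le_of_norm' (isPGroup_zpowers' (by rw [pow_two, sq_of_ord ht]))
    (zpowers_le.2 (self_mem_cent t)) (norm_of_centralizer (zpowers_le.2 t1)) (mem_zpowers t), t1,
    by rw [pow_two, sq_of_ord ht]⟩
  refine h2.trans (sup_le (norm_of_le ?_) ?_) <;> rw [← e]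
  · exact le_W (h1 t2) (ne_one_of_orderOf ht)
  · exact (normalizer_le_OZ 2 Y).trans (norm_W' _)

theorem ne_top (s : Sg G) (hO : pPrimeCore 2 G = ⊥) (b1 : b ∈ S ⊓ 𝐂 V) (b2 : b * b = 1) (b3 : b ∉ V)
    (h1 : t ∈ S ⊓ 𝐂 V) (ht : orderOf t = 2) (h2 : θ t ≠ ⊥) : 𝐍 (W V) ≠ ⊤ := fun e => by
  have := normalizer_eq_top_iff.1 e
  obtain ⟨a1, a2⟩ := ea_ext f.ea b1.2 b2 b3
  have a3 := (s.cpl _ a1 (by rw [a2, f.card])).1
  rw [s.W_eq a1 le_sup_left f.card.ge] at a3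
  have a4 := PGNormalCyclic.isElementaryAbelian_sup_zpowers f.ea h1.2 (by rw [pow_two, sq_of_ord ht])
  refine h2 (le_bot_iff.1 (le_trans ?_ ((Core.le_pPrimeCore a3).trans hO.le)))
  rw [← s.W_eq a4 le_sup_left f.card.ge]
  exact le_W (mem_sup_right (mem_zpowers t)) (ne_one_of_orderOf ht)

omit [Finite G] in
theorem ne_bot : S ≠ ⊥ := fun e => by
  have := f.card
  rw [le_bot_iff.1 (f.le.trans e.le), card_bot] at this
  omega

theorem spe (h : 𝐍 (W V) ≠ ⊤) (h1 : 𝐍 S ≤ 𝐍 (W V)) (h2 : ∀ t ∈ S, orderOf t = 2 → centralizer {t} ≤ 𝐍 (W V)) :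
    SPE 2 (𝐍 (W V)) ⊤ := spe_of_cent h.lt_top (f.syl.mono (le_normalizer.trans h1) le_top) f.ne_bot
  (inf_le_right.trans h1) fun t a b => inf_le_right.trans (h2 t a b)

theorem case_central (s : Sg G) (hO : pPrimeCore 2 G = ⊥) (h : S ≤ 𝐂 V) (b1 : b ∈ S) (b2 : b * b = 1) (b3 : b ∉ V)
    (ht : orderOf t = 2) (h2 : θ t ≠ ⊥) : SPE 2 (𝐍 (W V)) ⊤ := by
  have e : S ⊓ 𝐂 V = S := inf_eq_left.2 h
  have v : V ≤ OZ 2 S := le_OZ' f.ea f.le (cent_symm h)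
  obtain ⟨g, -, l⟩ := f.syl.exists_conj_le (isPGroup_zpowers' (p := 2) (by rw [pow_two, sq_of_ord ht])) le_top
  have l' := l (conj_mem_cj.2 (mem_zpowers t))
  refine f.spe (f.ne_top s hO ⟨b1, h b1⟩ b2 b3 ⟨l', h l'⟩ (by rwa [orderOf_conj'])
    (by rwa [← cj_θ, Ne, cj_eq_bot])) ?_ fun t t1 t2 => ?_
  · rw [← f.W_eq s (ea_OZ 2 S) (f.card.ge.trans (card_le_of_le (le_inf v f.le')))]
    exact (normalizer_le_OZ 2 S).trans (norm_W' _)
  obtain ⟨T, h3, h4⟩ := exists_sylIn_ge (ea_pg f.ea) (le_cent_of_mem (h t1))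
  obtain ⟨g, -, l⟩ := f.syl.exists_conj_le h3.pg le_top
  have g1 := f.mem_of_W s (g := g) f.ea (f.card.ge.trans (card_le_of_le (le_inf le_rfl f.le')))
    (by rw [e, inf_eq_left.2 ((cj_mono g h4).trans l), card_cj, f.card])
  have h5 := h3.conj g
  rw [cj_centralizer_singleton] at h5
  have h6 : V ≤ 𝐂 (cj g T) := cent_symm (l.trans h)
  have h8 := h3.le_of_norm' (isPGroup_zpowers' (by rw [pow_two, sq_of_ord t2]))
    (zpowers_le.2 (self_mem_cent t)) (norm_of_centralizer (zpowers_le.2 (mem_cent_of_le h3.le))) (mem_zpowers t)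
  have := f.cent_le s (by rwa [orderOf_conj']) h5 (f.card.ge.trans (card_le_of_le (le_inf (le_OZ' f.ea
    (h5.le_of_norm' (ea_pg f.ea) (le_cent_of_mem (h (l (conj_mem_cj.2 h8)))) (norm_of_centralizer h6)) h6) f.le')))
  rw [← cj_centralizer_singleton, cj_le_iff] at this
  exact this.trans (cj_eq_self_of_mem (inv_mem g1)).le

section two
variable (z1 : z ∈ V) (z2 : z ≠ 1) (z3 : z ∈ 𝐂 S)
include z1 z2 z3

theorem fix (h1 : t ∈ S) (h2 : t ∉ 𝐂 V) (u1 : u ∈ V) (e : t * u * t⁻¹ = u) : u = 1 ∨ u = z := by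
  by_contra! c
  exact h2 (le_cent_of_two f.card f.ea z1 u1 z2 c.1 c.2.symm (mul_inv_eq_iff_eq_mul.2 (z3 t h1)) e)

theorem move (h1 : t ∈ S) (h2 : t ∉ 𝐂 V) (u1 : u ∈ V) (u2 : u ≠ 1) (u3 : u ≠ z) : t * u * t⁻¹ = z * u := by
  rcases four_cases f.card f.ea z1 u1 z2 u2 u3.symm (conj_mem_of_mem_normalizer (f.norm h1) u1) with e | e | e | e
  · exact absurd (conj_eq_one_iff.1 e) u2
  · exact absurd (mul_left_cancel (mul_right_cancel (e.trans (mul_inv_eq_iff_eq_mul.2 (z3 t h1)).symm))) u3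
  · exact absurd (f.fix z1 z2 z3 h1 h2 u1 e) (not_or.2 ⟨u2, u3⟩)
  · exact e

omit z3 in
theorem exists_a : ∃ a ∈ V, a ≠ 1 ∧ a ≠ z := by
  obtain ⟨a, a1, b, b1, a2, b2, e⟩ := exists_pair f.card f.ea
  by_cases h : a = z
  · exact ⟨b, b1, b2, h ▸ e.symm⟩
  · exact ⟨a, a1, a2, h⟩

theorem key (h1 : t ∈ S) (h2 : t ∉ 𝐂 V) (h3 : t * t = 1)
    (h : ∀ u ∈ S ⊓ 𝐂 V, t * u * t⁻¹ = u → u = 1 ∨ u = z) : S ⊓ 𝐂 V ≤ V := by
  by_contra n
  obtain ⟨x, x1, x2, x3⟩ := PGBasic.exists_layer (f.syl.pg.isNilpotent) le_rfl inf_le_left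
    (norm_inf le_normalizer (norm_centralizer f.norm)) n
  obtain ⟨a, a1, a2, a3⟩ := f.exists_a z1 z2
  have c := inv_mem (x3 t h1)
  rw [commutatorElement_inv, commutatorElement_def] at c
  have t1 : t⁻¹ = t := inv_eq_of_mul_eq_one_right h3
  have m : ∀ {y}, y = 1 ∨ y = z → y ∈ V := fun e => e.elim (· ▸ one_mem _) (· ▸ z1)
  rcases f.fix z1 z2 z3 h1 h2 c (by
    rw [← inv_eq_of_mul_eq_one_right (mul_self_of_ea f.ea c)]
    conv_lhs => rw [inv_eq_of_mul_eq_one_right (mul_self_of_ea f.ea c)]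
    rw [t1, ← mul_assoc, ← mul_assoc, ← mul_assoc, h3]
    simp [t1, mul_assoc]) with e | e
  · exact x2 (m (h x x1 (mul_inv_eq_one.1 e)))
  · refine x2 ((mul_mem_cancel_right a1).1 (m (h _ (mul_mem x1 (f.le' a1)) ?_)))
    rw [← conj_mul, f.move z1 z2 z3 h1 h2 a1 a2 a3, mul_inv_eq_iff_eq_mul.1 e, ← z3 x x1.1, mul_assoc, ← mul_assoc z,
      mul_self_of_ea f.ea z1, one_mul]

theorem key2 (hz : centralizer {z} ≤ 𝐍 S) (h1 : g * z * g⁻¹ ∈ S) (h2 : g * z * g⁻¹ ∉ 𝐂 V) (h3 : g⁻¹ * z * g ∉ 𝐂 V)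
    (h : ∀ u ∈ S ⊓ 𝐂 V, u * u = 1 → u ∈ centralizer {g * z * g⁻¹} → u = 1 ∨ u = z) : S ⊓ 𝐂 V ≤ V := by
  have zz := mul_self_of_ea f.ea z1
  refine f.key z1 z2 z3 h1 h2 (by rw [conj_mul, zz]; simp) fun u u1 e => by_contra fun n => ?_
  obtain ⟨k, hk⟩ := isPGroup_iff_mem.1 f.syl.pg u u1.1
  obtain ⟨j, j1, j2⟩ := PGBasic.exists_pow_not_mem (p := 2) (N := zpowers z) (mt (mem_zpowers_two zz) n)
    (hk ▸ one_mem _)
  have v1 := pow_mem u1 (2 ^ j)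
  have v2 := pow_mem (mem_cent_symm (mem_cent_iff.2 e)) (2 ^ j)
  generalize u ^ 2 ^ j = v at *
  rw [pow_two] at j2
  rcases mem_zpowers_two zz j2 with e | e
  · exact j1 ((h v v1 e v2).elim (· ▸ one_mem _) (· ▸ mem_zpowers z))
  have v3 := mem_cj.1 (cent_le_cj f.syl hz g ⟨v1.1, v2⟩)
  have := (mul_mem_of_two (f.idx fun l => h2 (l h1)) v3 v3).2 Iff.rfl
  exact h3 (by rwa [show g⁻¹ * v * g * (g⁻¹ * v * g) = g⁻¹ * (v * v) * g by group, e] at this)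

theorem mem_inv (hz : centralizer {z} ≤ 𝐍 S) (h1 : g * z * g⁻¹ ∈ S) : g⁻¹ * z * g ∈ S :=
  mem_cj.1 (cent_le_cj f.syl hz g ⟨f.le z1, le_cent_of_mem' z3 h1⟩)

omit z1 z2 z3 in
theorem eight (b1 : b ∈ S ⊓ 𝐂 V) (b2 : b * b = 1) (b3 : b ∉ V) (h1 : t ∈ S ⊓ 𝐂 V) (h2 : t * t = 1) :
    ∃ E, IsElementaryAbelian 2 E ∧ 8 ≤ Nat.card E ∧ E ≤ S ⊓ centralizer {t} := by
  by_cases h : t ∈ V
  · obtain ⟨a1, a2⟩ := ea_ext f.ea b1.2 b2 b3
    exact ⟨_, a1, by rw [a2, f.card], le_inf (sup_le f.le (zpowers_le.2 b1.1))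
      (le_cent_of_mem (ea_le_cent a1 (mem_sup_left h)))⟩
  · obtain ⟨a1, a2⟩ := ea_ext f.ea h1.2 h2 h
    exact ⟨_, a1, by rw [a2, f.card], le_inf (sup_le f.le (zpowers_le.2 h1.1))
      (le_cent_of_mem (ea_le_cent a1 (mem_sup_right (mem_zpowers t))))⟩

theorem mem_M (s : Sg G) (hz : centralizer {z} ≤ 𝐍 S) (b1 : b ∈ S ⊓ 𝐂 V) (b2 : b * b = 1) (b3 : b ∉ V)
    (h1 : g * z * g⁻¹ ∈ S) : g ∈ 𝐍 (W V) := by
  have zz := mul_self_of_ea f.ea z1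
  have k : ∀ {g}, (∃ E, IsElementaryAbelian 2 E ∧ 8 ≤ Nat.card E ∧ E ≤ S ⊓ centralizer {g * z * g⁻¹}) →
      g ∈ 𝐍 (W V) := fun ⟨E, a1, a2, a3⟩ =>
    f.mem_of_eight s a1 a2 (a3.trans inf_le_left) (a3.trans (cent_le_cj f.syl hz _))
  have q : ∀ g, g * z * g⁻¹ * (g * z * g⁻¹) = 1 := fun g => by rw [conj_mul, zz]; simp
  by_cases h2 : g * z * g⁻¹ ∈ 𝐂 V
  · exact k (f.eight b1 b2 b3 ⟨h1, h2⟩ (q g))
  by_cases h3 : g⁻¹ * z * g ∈ 𝐂 V
  · exact inv_mem_iff.1 (k (f.eight b1 b2 b3 (by rw [inv_inv]; exact ⟨f.mem_inv z1 z2 z3 hz h1, h3⟩) (q _)))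
  by_contra n
  refine b3 (f.key2 z1 z2 z3 hz h1 h2 h3 (fun u u1 u2 u3 => by_contra fun c => n (k ?_)) b1)
  obtain ⟨a1, a2⟩ := ea_ext (ea_two zz) (centralizer_anti (zpowers_le.2 z1) u1.2) u2 (mt (mem_zpowers_two zz) c)
  have l : zpowers z ⊔ zpowers u ≤ S ⊓ 𝐂 V := sup_le (zpowers_le.2 (f.le' z1)) (zpowers_le.2 u1)
  obtain ⟨a3, a4⟩ := ea_ext a1 (mem_cent_of_le (sup_le (zpowers_le.2 (le_cent_of_mem' z3 h1)) (zpowers_le.2 u3)))
    (q g) fun c => h2 (l c).2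
  exact ⟨_, a3, by rw [a4, a2, card_two zz z2], le_inf (sup_le (l.trans inf_le_left) (zpowers_le.2 h1))
    (le_cent_of_mem (ea_le_cent a3 (mem_sup_right (mem_zpowers _))))⟩

theorem case_two (s : Sg G) (hO : pPrimeCore 2 G = ⊥) (hH : pResidual 2 G = ⊤) (hz : centralizer {z} ≤ 𝐍 S)
    (h : ¬ S ≤ 𝐂 V) (b1 : b ∈ S ⊓ 𝐂 V) (b2 : b * b = 1) (b3 : b ∉ V) (ht : orderOf t = 2) (h2 : θ t ≠ ⊥) :
    SPE 2 (𝐍 (W V)) ⊤ := by
  have zz := mul_self_of_ea f.ea z1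
  have o : Odd S.index := by
    rw [← Nat.not_even_iff_odd, even_iff_two_dvd, ← relIndex_top_right]; exact f.syl.not_dvd
  have n : 𝐍 S ≤ 𝐍 (W V) := fun g hg => f.mem_M z1 z2 z3 s hz b1 b2 b3 (conj_mem_of_mem_normalizer hg (f.le z1))
  obtain ⟨g, g1, -⟩ := thompson_extremal hH o inf_le_left (f.idx' h) (u := t) (by rw [pow_two, sq_of_ord ht])
    IsPGroup.of_bot bot_le
  refine f.spe (f.ne_top s hO b1 b2 b3 g1 (by simpa using (orderOf_conj' g⁻¹ t).trans ht)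
    (by rwa [← inv_inv g, inv_inv g⁻¹, ← cj_θ, Ne, cj_eq_bot])) n fun t t1 t2 => ?_
  obtain ⟨T, h3, h4⟩ := exists_sylIn_ge (isPGroup_zpowers' (p := 2) (by rwa [pow_two]))
    (zpowers_le.2 (le_cent_of_mem' z3 t1))
  obtain ⟨g, g1, g2⟩ := thompson_extremal hH o inf_le_left (f.idx' h) (u := t) (by rw [pow_two, sq_of_ord t2])
    h3.pg h3.le
  have g3 := f.mem_M z1 z2 z3 s hz b1 b2 b3 (g2 (conj_mem_cj.2 (h4 (mem_zpowers z))))
  have h5 := h3.conj g⁻¹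
  have h6 := (orderOf_conj' g⁻¹ t).trans t2
  rw [cj_centralizer_singleton, inv_inv] at h5
  rw [inv_inv] at h6
  suffices centralizer {g⁻¹ * t * g} ≤ 𝐍 (W V) by
    rw [← inv_inv g, inv_inv g⁻¹, ← cj_centralizer_singleton, cj_le_iff] at this
    exact this.trans (cj_eq_self_of_mem (inv_mem g3)).le
  generalize g⁻¹ * t * g = t at *
  generalize cj g⁻¹ T = T at *
  by_cases e : t = z
  · exact e ▸ hz.trans n
  obtain ⟨a1, a2⟩ := ea_ext (ea_two zz) (centralizer_anti (zpowers_le.2 z1) g1.2) (sq_of_ord h6)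
    fun c => (mem_zpowers_two zz c).elim (ne_one_of_orderOf h6) e
  have l : zpowers z ⊔ zpowers t ≤ 𝐂 T :=
    sup_le (zpowers_le.2 (centralizer_anti g2 z3)) (zpowers_le.2 (mem_cent_of_le h5.le))
  refine f.cent_le s h6 h5 (le_trans (by rw [a2, card_two zz z2]) (card_le_of_le (le_inf (le_OZ' a1
    (h5.le_of_norm' (ea_pg a1) (le_cent_of_mem (ea_le_cent a1 (mem_sup_right (mem_zpowers t))))
      (norm_of_centralizer l)) l) (sup_le (zpowers_le.2 (f.le' z1)) (zpowers_le.2 g1)))))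

theorem conj_two (hH : pResidual 2 G = ⊤) (hz : centralizer {z} ≤ 𝐍 S) (h : ¬ S ≤ 𝐂 V)
    (hb : ∀ b ∈ S ⊓ 𝐂 V, b * b = 1 → b ∈ V) (h1 : g * z * g⁻¹ ∈ S) (h2 : g * z * g⁻¹ ≠ z) (ht : orderOf t = 2) :
    IsConj z t := by
  have zz := mul_self_of_ea f.ea z1
  have o : Odd S.index := by
    rw [← Nat.not_even_iff_odd, even_iff_two_dvd, ← relIndex_top_right]; exact f.syl.not_dvd
  obtain ⟨a, a1, a2, a3⟩ := f.exists_a z1 z2
  obtain ⟨s, s1, s2⟩ := SetLike.not_le_iff_exists.1 h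
  have m := f.move z1 z2 z3 s1 s2 a1 a2 a3
  have q : ∀ g, g * z * g⁻¹ * (g * z * g⁻¹) = 1 := fun g => by rw [conj_mul, zz]; simp
  have c : IsConj z a := by
    by_contra n
    have k : ∀ g, g * z * g⁻¹ ∈ S → g * z * g⁻¹ ≠ z → g * z * g⁻¹ ∉ 𝐂 V := fun g g1 g2 g3 => by
      rcases four_cases f.card f.ea z1 a1 z2 a2 a3.symm (hb _ ⟨g1, g3⟩ (q g)) with e | e | e | e
      · exact z2 (conj_eq_one_iff.1 e)
      · exact g2 e
      · exact n (isConj_iff.2 ⟨g, e⟩)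
      · exact n ((isConj_iff.2 ⟨g, e⟩).trans (isConj_iff.2 ⟨s, m⟩).symm)
    have h3 := k g h1 h2
    have h4 := k g⁻¹ (by rw [inv_inv]; exact f.mem_inv z1 z2 z3 hz h1) fun e => h2 (by
      conv_lhs => rw [← e]
      group)
    rw [inv_inv] at h4
    have h5 := f.key2 z1 z2 z3 hz h1 h3 h4 fun u u1 u2 u3 =>
      f.fix z1 z2 z3 h1 h3 (hb u u1 u2) (mem_cent_iff.1 (mem_cent_symm u3))
    have h6 := card_mul_relIndex (inf_le_left : S ⊓ 𝐂 V ≤ S)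
    rw [f.idx' h, le_antisymm h5 f.le', f.card] at h6
    have h7 := f.move z1 z2 z3 h1 h3 a1 a2 a3
    have h8 : IsConj z (g * z * g⁻¹) := isConj_iff.2 ⟨g, rfl⟩
    have h9 := q g
    generalize g * z * g⁻¹ = y at *
    have y1 : y ≠ 1 := fun e => h3 (e ▸ one_mem _)
    obtain ⟨c1, c2⟩ := ea_ext (ea_two zz) (cent_symm (zpowers_le.2 (le_cent_of_mem' z3 h1) |>.trans
      (centralizer_zpowers y).ge) (mem_zpowers y)) h9 fun c => (mem_zpowers_two zz c).elim y1 h2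
    rw [card_two zz z2] at c2
    have l : zpowers z ⊔ zpowers y ≤ S := sup_le (zpowers_le.2 (f.le z1)) (zpowers_le.2 h1)
    have c3 := card_mul_relIndex l
    obtain ⟨x, x1, -⟩ := thompson_extremal hH o l (by rw [c2] at c3; omega) (u := a) (ea_pow f.ea a1)
      IsPGroup.of_bot bot_le
    have x2 : IsConj (x⁻¹ * a * x) a := isConj_iff.2 ⟨x, by group⟩
    rcases four_cases c2 c1 (mem_sup_left (mem_zpowers z)) (mem_sup_right (mem_zpowers y)) z2 y1 h2.symm x1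
      with e | e | e | e <;> rw [e] at x2
    · exact a2 (isConj_one_right.1 x2)
    · exact n x2
    · exact n (h8.trans x2)
    · refine n (h8.trans (IsConj.trans (isConj_iff.2 ⟨a⁻¹, ?_⟩) x2))
      rw [inv_inv, mul_assoc, mul_inv_eq_iff_eq_mul.1 h7, comm_of_ea f.ea z1 a1]; group
  obtain ⟨x, x1, -⟩ := thompson_extremal hH o inf_le_left (f.idx' h) (u := t) (by rw [pow_two, sq_of_ord ht])
    IsPGroup.of_bot bot_le
  have x2 : IsConj (x⁻¹ * t * x) t := isConj_iff.2 ⟨x, by group⟩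
  rcases four_cases f.card f.ea z1 a1 z2 a2 a3.symm (hb _ x1 (by
    rw [show x⁻¹ * t * x * (x⁻¹ * t * x) = x⁻¹ * (t * t) * x by group, sq_of_ord ht]; simp)) with e | e | e | e <;>
    rw [e] at x2
  · exact absurd (isConj_one_right.1 x2) (ne_one_of_orderOf ht)
  · exact x2
  · exact c.trans x2
  · exact c.trans ((isConj_iff.2 ⟨s, m⟩).trans x2)

omit z3 in
theorem conj_central (hz : centralizer {z} ≤ 𝐍 S) (h : S ≤ 𝐂 V) (hb : ∀ b ∈ S, b * b = 1 → b ∈ V)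
    (h1 : g * z * g⁻¹ ∈ S) (h2 : g * z * g⁻¹ ≠ z) (ht : orderOf t = 2) : IsConj z t := by
  have zz := mul_self_of_ea f.ea z1
  have q : ∀ {u : G}, u * u = 1 → ∀ g, g * u * g⁻¹ * (g * u * g⁻¹) = 1 := fun e g => by rw [conj_mul, e]; simp
  have a1 := hb _ h1 (q zz g)
  have a2 : g * z * g⁻¹ ≠ 1 := mt conj_eq_one_iff.1 z2
  have g1 := mem_normalizer_of_le_cj ((le_inf le_rfl (le_cent_of_mem (cent_symm h a1))).trans
    (cent_le_cj f.syl hz g))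
  have c : IsConj z (z * (g * z * g⁻¹)) := by
    rcases four_cases f.card f.ea z1 a1 z2 a2 h2.symm (hb _ (conj_mem_of_mem_normalizer g1 h1) (q (q zz g) g))
      with e | e | e | e
    · exact absurd (conj_eq_one_iff.1 e) a2
    · refine absurd (mem_cent_iff.1 ?_) h2
      have := normal_subgroupOf_of_norm (le_rfl : 𝐍 S ≤ 𝐍 S)
      have a := le_cent_of_mem (cent_symm h z1) (mem_subgroupOf.1 (pow_index_mem (S.subgroupOf (𝐍 S)) ⟨g, g1⟩))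
      obtain ⟨k, hk⟩ : Odd (S.relIndex (𝐍 S)) := by
        rw [← Nat.not_even_iff_odd, even_iff_two_dvd]; exact (f.syl.mono le_normalizer le_top).not_dvd
      rw [show (S.subgroupOf (𝐍 S)).index = 2 * k + 1 from hk, SubgroupClass.coe_pow, pow_succ, pow_mul] at a
      exact (mul_mem_cancel_left (pow_mem (mem_cent_iff.2 (Eq.trans (by simp [pow_two, mul_assoc]) e)) k)).1 a
    · exact absurd (mul_left_cancel (mul_right_cancel e)) h2
    · exact isConj_iff.2 ⟨g * g, by rw [← e]; group⟩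
  obtain ⟨x, -, l⟩ := f.syl.exists_conj_le (isPGroup_zpowers' (p := 2) (by rw [pow_two, sq_of_ord ht])) le_top
  have x2 : IsConj (x * t * x⁻¹) t := (isConj_iff.2 ⟨x, rfl⟩).symm
  rcases four_cases f.card f.ea z1 a1 z2 a2 h2.symm (hb _ (l (conj_mem_cj.2 (mem_zpowers t))) (q (sq_of_ord ht) x))
    with e | e | e | e <;> rw [e] at x2
  · exact absurd (isConj_one_right.1 x2) (ne_one_of_orderOf ht)
  · exact x2
  · exact (isConj_iff.2 ⟨g, rfl⟩).trans x2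
  · exact c.trans x2

end two

end Fo

theorem case_one (s : Sg G) (hO : pPrimeCore 2 G = ⊥) (hS : SylIn 2 S ⊤) (z1 : z ∈ S) (z2 : orderOf z = 2)
    (z3 : z ∈ 𝐂 S) (hz : centralizer {z} ≤ 𝐍 S) (h : ∀ t, orderOf t = 2 → IsConj z t) (ht : orderOf t = 2)
    (h2 : θ t ≠ ⊥) : SPE 2 (𝐍 (θ z)) ⊤ := by
  have c : ∀ t, orderOf t = 2 → Nat.card (θ t) = Nat.card (θ z) := fun t ht => by
    obtain ⟨g, rfl⟩ := isConj_iff.1 (h t ht)
    rw [← cj_θ, card_cj]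
  have l := Bal.centralizerPPrimeCore_le (p := 2) z
  have l1 : θ z ≤ 𝐂 S := commutator_eq_bot_iff'.1 (Core.eq_bot_of_isPGroup_of_coprime
    (hS.pg.to_le (commutator_le_left_of_norm (l.trans hz))) ((Bal2.coprime_cpc z).coprime_dvd_left
      (card_dvd_of_le (commutator_le_right_of_norm ((le_cent_of_mem z3).trans (norm_θ z))))))
  have e : ∀ t ∈ S, orderOf t = 2 → θ z = θ t := fun t t1 t2 => eq_of_le_of_card_ge ((le_inf le_rfl
    (l1.trans (centralizer_le (Set.singleton_subset_iff.2 t1)))).trans (bal (s.solv t t2) z2 (le_cent_of_mem' z3 t1)))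
    (c t t2).le
  have n : 𝐍 S ≤ 𝐍 (θ z) := fun g hg => cj_eq_self_iff.1 (by
    rw [cj_θ, ← e _ (conj_mem_of_mem_normalizer hg z1) (by rwa [orderOf_conj'])])
  refine spe_of_cent (lt_top_iff_ne_top.2 fun k => h2 (card_eq_one.1 ?_)) (hS.mono (le_normalizer.trans n) le_top)
    (ne_bot_of_mem z1 (ne_one_of_orderOf z2)) (inf_le_right.trans n) fun t t1 t2 => inf_le_right.trans ?_
  · have := normalizer_eq_top_iff.1 k
    rw [c t ht, le_bot_iff.1 ((Core.le_pPrimeCore (Bal2.coprime_cpc z)).trans hO.le), card_bot]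
  · rw [e t t1 t2]; exact norm_θ t

theorem conj_of_cyclic (hH : pResidual 2 G = ⊤) (hS : SylIn 2 S ⊤) (l : A ≤ S) (i : A.relIndex S = 2)
    (c : IsCyclic A) (hz : orderOf z = 2) (ht : orderOf t = 2) : IsConj z t := by
  have o : Odd S.index := by
    rw [← Nat.not_even_iff_odd, even_iff_two_dvd, ← relIndex_top_right]; exact hS.not_dvd
  obtain ⟨x, x1, -⟩ := thompson_extremal hH o l i (u := z) (by rw [pow_two, sq_of_ord hz]) IsPGroup.of_bot bot_le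
  obtain ⟨y, y1, -⟩ := thompson_extremal hH o l i (u := t) (by rw [pow_two, sq_of_ord ht]) IsPGroup.of_bot bot_le
  have x2 := (orderOf_conj' x⁻¹ z).trans hz
  have y2 := (orderOf_conj' y⁻¹ t).trans ht
  rw [inv_inv] at x2 y2
  have := (mem_zpowers_two (sq_of_ord x2) (uniq_of_isCyclic c _ x1 x2 _ y1
    (by rw [pow_two, sq_of_ord y2]))).resolve_left (ne_one_of_orderOf y2)
  exact isConj_iff.2 ⟨y * x⁻¹, by
    calc _ = y * (x⁻¹ * z * x) * y⁻¹ := by group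
      _ = t := by rw [← this]; group⟩

theorem cyc_or_fo (hS : SylIn 2 S ⊤) (h : S ≠ ⊥) :
    (∃ A ≤ S, A.relIndex S = 2 ∧ IsCyclic A) ∨ ∃ V, Fo S V := by
  rcases PGNormalCyclic.trichotomy hS.pg with c | ⟨E, a, b, c⟩ | ⟨-, n, a, y, h1, h2, h3, -⟩
  · obtain ⟨A, -, a1, a2⟩ := PGBasic.exists_relIndex_eq_below hS.pg (bot_lt_iff_ne_bot.2 h)
    exact Or.inl ⟨A, a1, a2, isCyclic_of_injective _ (inclusion_injective a1)⟩
  · exact Or.inr ⟨_, hS, map_subtype_le E, ea_map _ b, by rw [H6Basic.card_map_subtype, c]; rfl, norm_map_subtype E⟩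
  · refine Or.inl ⟨_, map_subtype_le (zpowers a), ?_, by rw [MonoidHom.map_zpowers]; infer_instance⟩
    have := PGBasic.relIndex_sup_zpowers Nat.prime_two (PGNormalCyclic.dqs_normalizer h3)
      (PGNormalCyclic.dqs_notMem h1 h3) (PGNormalCyclic.dqs_sq_mem h3)
    rw [h2, relIndex_top_right] at this
    rw [relIndex, AmbSI.subgroupOf_map_subtype', this]

/-- KS Theorem 2 of chapter 12 for `G = O²(G) Z` -/
theorem thm2 (s : Sg G) (hO : pPrimeCore 2 G = ⊥) (hS : SylIn 2 S ⊤) (h1 : Z ≤ OZ 2 S) (h2 : 𝐂 Z ≤ 𝐍 S)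
    (h3 : pResidual 2 G ⊔ Z = ⊤) (h4 : Z ⊓ pResidual 2 G ≠ ⊥) : (∃ M, SPE 2 M (⊤ : Subgroup G)) ∨
    (Nat.card ↥(Z ⊓ pResidual 2 G) = 2 ∧
      ∀ h ∈ pResidual 2 G, ∀ z ∈ Z ⊓ pResidual 2 G, h * z * h⁻¹ ∈ S → h * z * h⁻¹ ∈ Z) ∨
    (Nat.card Z = 4 ∧ Z ≤ pResidual 2 G ∧ ∀ x ∈ S, x * x = 1 → x ∈ Z) ∨ ∀ t : G, orderOf t = 2 → θ t = ⊥ := by
  by_contra! c
  obtain ⟨c1, c2, c3, t, ht, c4⟩ := c
  have ea := ea_of_le (ea_OZ 2 S) h1
  have q : ∀ {u}, u * u = 1 → ∀ g : G, g * u * g⁻¹ * (g * u * g⁻¹) = 1 := fun e g => by rw [conj_mul, e]; simp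
  have k : ∀ A ≤ OZ 2 S, 4 ≤ Nat.card A → ∃ V ≤ A, Fo S V ∧ S ≤ 𝐂 V ∧ ∀ b ∈ S, b * b = 1 → b ∈ V := fun A a b => by
    obtain ⟨V, v1, v2⟩ := Bal2.exists_le_card_eq ((isPGroup_OZ 2 S).to_le a) (k := 2) b
    have v3 := cent_symm ((v1.trans a).trans (OZ_le_cent 2 S))
    have f : Fo S V := ⟨hS, (v1.trans a).trans (OZ_le 2 S), ea_of_le (ea_OZ 2 S) (v1.trans a), v2,
      norm_of_centralizer v3⟩
    exact ⟨V, v1, f, v3, fun b b1 b2 => by_contra fun b3 => c1 _ (f.case_central s hO v3 b1 b2 b3 ht c4)⟩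
  by_cases d : 4 ≤ Nat.card Z
  · obtain ⟨V, v1, f, -, v2⟩ := k Z h1 d
    obtain rfl := le_antisymm v1 fun x hx => v2 x (OZ_le 2 S (h1 hx)) (mul_self_of_ea ea hx)
    by_cases l : V ≤ pResidual 2 G
    · obtain ⟨x, x1, x2, x3⟩ := c3 f.card l
      exact x3 (v2 x x1 x2)
    obtain ⟨h, -, z, z1, z2, z3⟩ := c2 (card_two_of_lt f.card (inf_lt_left.2 l) h4)
    exact z3 (v2 _ z2 (q (mul_self_of_ea ea z1.1) h))
  obtain ⟨z, z1, z2⟩ := (bot_or_exists_ne_one _).resolve_left h4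
  have zz := mul_self_of_ea ea z1.1
  have e : ∀ A ≤ OZ 2 S, ¬ 4 ≤ Nat.card A → z ∈ A → zpowers z = A := fun A a b c => by_contra fun n => by
    have := PGBasic.card_mul_le_of_lt ((isPGroup_OZ 2 S).to_le a) (lt_of_le_of_ne (zpowers_le.2 c) n)
    rw [card_two zz z2] at this
    exact b this
  obtain rfl := e Z h1 d z1.1
  have l := zpowers_le.2 z1.2
  rw [sup_eq_left.2 l] at h3
  rw [inf_eq_left.2 l] at c2
  rw [centralizer_zpowers] at h2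
  obtain ⟨g, -, y, y1, y2, y3⟩ := c2 (card_two zz z2)
  obtain rfl := (mem_zpowers_two zz y1).resolve_left fun e => y3 (by simp [e])
  have y4 : g * y * g⁻¹ ≠ y := fun e => y3 (e.symm ▸ y1)
  obtain ⟨y5, y6, -⟩ := mem_OZ.1 (h1 y1)
  refine c1 _ (case_one s hO hS y5 (ord_of_sq zz z2) y6 h2 (fun u hu => ?_) ht c4)
  by_cases d' : 4 ≤ Nat.card (OZ 2 S)
  · obtain ⟨V, -, f, v1, v2⟩ := k _ le_rfl d'
    exact f.conj_central (v2 y y5 zz) z2 h2 v1 v2 y2 y4 hu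
  have e' := e _ le_rfl d' (h1 y1)
  rcases cyc_or_fo hS (ne_bot_of_mem y5 z2) with ⟨A, a1, a2, a3⟩ | ⟨V, f⟩
  · exact conj_of_cyclic h3 hS a1 a2 a3 (ord_of_sq zz z2) hu
  obtain ⟨v, v1, v2⟩ := (bot_or_exists_ne_one _).resolve_left (inf_OZ_ne_bot hS.pg f.le f.norm
    fun e => by have := f.card; rw [e, card_bot] at this; omega)
  obtain rfl := (mem_zpowers_two zz (e'.ge v1.2)).resolve_left v2
  have n : ¬ S ≤ 𝐂 V := fun l => d' (f.card.ge.trans (card_le_of_le (le_OZ' f.ea f.le (cent_symm l))))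
  exact f.conj_two v1.1 v2 y6 h3 h2 n (fun b b1 b2 => by_contra fun b3 =>
    c1 _ (f.case_two v1.1 v2 y6 s hO h3 h2 n b1 b2 b3 ht c4)) y2 y4 hu

end CA.ZN6
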